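import Cfsg.Agent.Mrg.Omega.NO3S.FarQ.Abs
import Cfsg.Agent.Mrg.Omega.NoFF.ThmJ
import Cfsg.Agent.Mrg.Omega.NOThree.Pts
import Cfsg.Agent.Involutions.BaerSuzuki

-- merged: Cfsg.Agent.Mrg.Omega.NO3S.FarQ.Core
section

section


/-!
# FarQ, abstract part: (U) for blocks, the torus lemma, the functionals (TEXT 263-Q, (Q1)-(Q3))

* `Flag.inf_zPi`, `Flag.not_mem` : (3.3) (i), (ii);
* `PSq.torus` : (3.1) `lam ≤ ∏ [M, J]`, `J` in the `T`-orbit of a block moving `lam`; `PSq.orbit` : `supp(lam)` is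
  one `T`-orbit; `PSq.conj_all` : all blocks are conjugate;
* `PSq.exists_kh` : (K) for every block some `φ ∈ Kh` is trivial on `C_M(J)` but not on `[M, J]`.
-/

set_option autoImplicit false

namespace Cfsg.Agent.Omega.NO3S.FarQ

open Subgroup Cfsg.Agent.ZN Cfsg.Agent.Omega.NO3S.PT
open Cfsg.Agent.ClassTwoFusion.Quad (cv mem_cv cv_anti)
open scoped Pointwise

variable {H M R : Type*} [Group H] [CommGroup M] [MulDistribMulAction H M] [CommGroup R]

/-! ### Generalities -/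

theorem mem_zm {J : Subgroup H} {m : M} : m ∈ zm M J ↔ ∀ j ∈ J, j • m = m := Iff.rfl

theorem zm_anti {J J' : Subgroup H} (h : J ≤ J') : zm M J' ≤ zm M J := fun _ hm j hj => hm j (h hj)

theorem comm_mem_cm {E : Subgroup M} {J : Subgroup H} {j : H} (hj : j ∈ J) {m : M} (hm : m ∈ E) :
    (j • m) * m⁻¹ ∈ cm E J := subset_closure ⟨j, hj, m, hm, rfl⟩

theorem comm_mem_em {J : Subgroup H} {j : H} (hj : j ∈ J) (m : M) : (j • m) * m⁻¹ ∈ em M J :=
  comm_mem_cm hj (mem_top m)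

theorem cm_le {E N : Subgroup M} {J : Subgroup H} (h : ∀ j ∈ J, ∀ m ∈ E, (j • m) * m⁻¹ ∈ N) : cm E J ≤ N := by
  refine (closure_le _).2 ?_
  rintro _ ⟨j, hj, m, hm, rfl⟩
  exact h j hj m hm

theorem em_le_iff {N : Subgroup M} {J : Subgroup H} : em M J ≤ N ↔ ∀ j ∈ J, ∀ m : M, (j • m) * m⁻¹ ∈ N :=
  ⟨fun h _ hj m => h (comm_mem_em hj m), fun h => cm_le fun j hj m _ => h j hj m⟩

theorem cm_mono {E E' : Subgroup M} {J J' : Subgroup H} (hE : E ≤ E') (hJ : J ≤ J') : cm E J ≤ cm E' J' :=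
  cm_le fun _ hj _ hm => comm_mem_cm (hJ hj) (hE hm)

theorem mem_cj' {J : Subgroup H} {h x : H} : x ∈ cj h J ↔ ∃ j ∈ J, x = h * j * h⁻¹ := by
  rw [mem_cj]
  constructor
  · intro hx
    exact ⟨_, hx, by group⟩
  · rintro ⟨j, hj, rfl⟩
    have e : h⁻¹ * (h * j * h⁻¹) * h = j := by group
    rwa [e]

theorem smul_mem_zm {J : Subgroup H} {h : H} {m : M} : h • m ∈ zm M (cj h J) ↔ m ∈ zm M J := by
  constructor
  · intro hm j hj
    have h1 := hm _ (conj_mem_cj (g := h) hj)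
    have e : (h * j * h⁻¹) • h • m = h • j • m := by
      rw [smul_smul, smul_smul, inv_mul_cancel_right]
    rw [e] at h1
    exact smul_left_cancel h h1
  · intro hm x hx
    obtain ⟨j, hj, rfl⟩ := mem_cj'.1 hx
    rw [smul_smul, inv_mul_cancel_right, mul_smul, hm j hj]

theorem smul_mem_em {J : Subgroup H} {h : H} {m : M} (hm : m ∈ em M J) : h • m ∈ em M (cj h J) := by
  have key : em M J ≤ (em M (cj h J)).comap (MulDistribMulAction.toMonoidHom M h) := by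
    rw [em_le_iff]
    intro j hj m
    rw [mem_comap]
    show h • ((j • m) * m⁻¹) ∈ _
    have e : h • ((j • m) * m⁻¹) = ((h * j * h⁻¹) • h • m) * (h • m)⁻¹ := by
      rw [smul_mul', smul_inv', smul_smul, smul_smul, inv_mul_cancel_right]
    rw [e]
    exact comm_mem_em (conj_mem_cj hj) _
  exact key hm

theorem smul_mem_em_iff {J : Subgroup H} {h : H} {m : M} : h • m ∈ em M (cj h J) ↔ m ∈ em M J := by
  refine ⟨fun hm => ?_, smul_mem_em⟩
  have := smul_mem_em (h := h⁻¹) hm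
  rwa [cj_cj, inv_mul_cancel, cj_one, inv_smul_smul] at this

theorem smul_mem_tm_iff {J : Subgroup H} {h : H} {m : M} : h • m ∈ tm M (cj h J) ↔ m ∈ tm M J := by
  unfold tm
  rw [mem_inf, mem_inf, smul_mem_em_iff, smul_mem_zm]

/-- `[M, J]` is `J`-invariant. -/
theorem smul_em {J : Subgroup H} {j : H} (hj : j ∈ J) {m : M} (hm : m ∈ em M J) : j • m ∈ em M J := by
  have h1 : (j • m) * m⁻¹ * m ∈ em M J := mul_mem (comm_mem_em hj m) hm
  rwa [inv_mul_cancel_right] at h1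

/-- The elements acting trivially on `M / N`. -/
def am (N : Subgroup M) : Subgroup H where
  carrier := {x | ∀ m : M, (x • m) * m⁻¹ ∈ N}
  one_mem' := fun m => by rw [one_smul, mul_inv_cancel]; exact one_mem _
  mul_mem' := fun {x y} hx hy m => by
    have h1 := mul_mem (mul_mem (hx ((y • m) * m⁻¹)) (hy m)) (hx m)
    have e : x • (y • m * m⁻¹) * (y • m * m⁻¹)⁻¹ * (y • m * m⁻¹) * (x • m * m⁻¹) = (x * y) • m * m⁻¹ := by
      rw [inv_mul_cancel_right, smul_mul', smul_inv', mul_smul]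
      group
    rwa [e] at h1
  inv_mem' := fun {x} hx m => by
    have h1 := inv_mem (hx (x⁻¹ • m))
    rw [smul_inv_smul, mul_inv_rev, inv_inv] at h1
    exact h1

theorem mem_am {N : Subgroup M} {x : H} : x ∈ am N ↔ ∀ m : M, (x • m) * m⁻¹ ∈ N := Iff.rfl

theorem le_am {N : Subgroup M} {J : Subgroup H} : J ≤ am N ↔ em M J ≤ N := by
  rw [em_le_iff]; rfl

/-- the elements of `am N` preserve `N` -/
theorem smul_mem_of_am {N : Subgroup M} {x : H} (hx : x ∈ am N) {n : M} (hn : n ∈ N) : x • n ∈ N := by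
  have h1 : (x • n) * n⁻¹ * n ∈ N := mul_mem (hx n) hn
  rwa [inv_mul_cancel_right] at h1

theorem noncommProd_equiv {ι : Type*} [Fintype ι] (σ : ι ≃ ι) (F : ι → H)
    (h1 : ((Finset.univ : Finset ι) : Set ι).Pairwise (Function.onFun Commute fun i => F (σ i)))
    (h2 : ((Finset.univ : Finset ι) : Set ι).Pairwise (Function.onFun Commute F)) :
    Finset.univ.noncommProd (fun i => F (σ i)) h1 = Finset.univ.noncommProd F h2 := by
  unfold Finset.noncommProd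
  have e : (Finset.univ : Finset ι).val.map (fun i => F (σ i)) = (Finset.univ : Finset ι).val.map F := by
    have h3 : (Finset.univ : Finset ι).val.map (fun i => F (σ i)) = ((Finset.univ : Finset ι).val.map σ).map F := by
      rw [Multiset.map_map]; rfl
    rw [h3, Multiset.map_univ_val_equiv]
  congr 1

theorem exists_two {K : Subgroup M} (hK : 4 ≤ Nat.card K) : ∃ a ∈ K, ∃ b ∈ K, a ≠ 1 ∧ b ≠ 1 ∧ a ≠ b := by
  have hf : Finite K := Nat.finite_of_card_ne_zero (by omega)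
  have : Fintype K := Fintype.ofFinite K
  classical
  by_contra hcon
  push Not at hcon
  have h1 : (Finset.univ : Finset K) ⊆ {1} ∪ (Finset.univ : Finset K).filter (fun x => x ≠ 1) := by
    intro x _
    by_cases hx : x = 1
    · simp [hx]
    · simp [hx]
  have h2 : ((Finset.univ : Finset K).filter (fun x => x ≠ 1)).card ≤ 1 := by
    rw [Finset.card_le_one]
    intro a ha b hb
    simp only [Finset.mem_filter, Finset.mem_univ, true_and] at ha hb
    exact Subtype.ext (hcon a a.2 b b.2 (fun e => ha (Subtype.ext e)) (fun e => hb (Subtype.ext e)))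
  have h3 := (Finset.card_le_card h1).trans (Finset.card_union_le _ _)
  rw [Finset.card_univ, ← Nat.card_eq_fintype_card, Finset.card_singleton] at h3
  omega

/-! ### (3.3) -/

section

variable {T : Subgroup H} {lam U : Subgroup M} {Kh : Subgroup (M →* R)} {Pi : Set (Subgroup H)}

namespace Flag

variable (F : Flag T lam U Kh)
include F

theorem inf_zm {J : Subgroup H} (hJ : ¬ lam ≤ zm M J) {a : M} (ha : a ∈ lam) (haz : a ∈ zm M J) : a = 1 := by
  by_contra ha1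
  exact hJ fun b hb j hj => F.lin a ha ha1 j (haz j hj) b hb

theorem exists_ne : ∃ a ∈ lam, a ≠ 1 := by
  obtain ⟨a, ha, -, -, ha1, -⟩ := exists_two F.four
  exact ⟨a, ha, ha1⟩

/-- **(3.3)(i)** -/
theorem inf_zPi (hP : PSq R T lam Pi) {J : Subgroup H} (hJ : J ∈ Pi) (hJl : ¬ lam ≤ zm M J) {u : M} (hu : u ∈ U)
    (hz : ∀ J ∈ Pi, u ∈ zm M J) : u = 1 := by
  by_contra hu1
  by_cases hul : u ∈ lam
  · exact hu1 (F.inf_zm hJl hul (hz J hJ))
  obtain ⟨a, ha, ha1⟩ := F.exists_ne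
  obtain ⟨h, hh⟩ := F.uu u hu hul a ha
  have h1 : h • u ∈ zm M J := by
    have h2 := (smul_mem_zm (h := h)).2 (hz _ (hP.conj J hJ h⁻¹))
    rwa [cj_cj, mul_inv_cancel, cj_one] at h2
  rw [hh] at h1
  exact ha1 (F.inf_zm hJl ha (((zm M J).mul_mem_cancel_left (hz J hJ)).1 h1))

/-- **(3.3)(ii)** -/
theorem not_mem (hP : PSq R T lam Pi) {J₁ J₂ : Subgroup H} (h1 : J₁ ∈ Pi) (h2 : J₂ ∈ Pi) (hne : J₁ ≠ J₂)
    (h1l : ¬ lam ≤ zm M J₁) (h2l : ¬ lam ≤ zm M J₂) {J : Subgroup H} (hJ : J ∈ Pi) {u : M} (hu : u ∈ U)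
    (huJ : u ∈ em M J) : u ∈ zm M J := by
  by_contra huz
  -- some block `K ≠ J` moves `lam`
  obtain ⟨K, hK, hKJ, hKl⟩ : ∃ K ∈ Pi, K ≠ J ∧ ¬ lam ≤ zm M K := by
    by_cases e : J₁ = J
    · exact ⟨J₂, h2, fun e' => hne (e.trans e'.symm), h2l⟩
    · exact ⟨J₁, h1, e, h1l⟩
  have huK : ∀ K ∈ Pi, K ≠ J → u ∈ zm M K := fun K hK hKJ => hP.em_le J hJ K hK hKJ.symm huJ
  have hul : u ∉ lam := by
    intro e
    have := F.inf_zm hKl e (huK K hK hKJ)
    exact huz (this ▸ one_mem _)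
  -- the block of `u a`
  have key : ∀ a ∈ lam, a ≠ 1 → ∃ J' ∈ Pi, ∀ K ∈ Pi, u * a ∉ zm M K → K = J' := by
    intro a ha ha1
    obtain ⟨h, hh⟩ := F.uu u hu hul a ha
    refine ⟨cj h J, hP.conj J hJ h, fun K hK hKu => ?_⟩
    by_contra hne'
    apply hKu
    rw [← hh]
    exact hP.em_le _ (hP.conj J hJ h) K hK (fun e => hne' e.symm) (smul_mem_em huJ)
  have hKu : ∀ K ∈ Pi, K ≠ J → ¬ lam ≤ zm M K → ∀ a ∈ lam, a ≠ 1 → u * a ∉ zm M K := by
    intro K hK hKJ hKl a ha ha1 e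
    exact ha1 (F.inf_zm hKl ha (((zm M K).mul_mem_cancel_left (huK K hK hKJ)).1 e))
  obtain ⟨a, ha, b, hb, ha1, hb1, hab⟩ := exists_two F.four
  -- `u a ∈ zm M J`, so `J` moves `lam`, ...
  have hz : ∀ a ∈ lam, a ≠ 1 → u * a ∈ zm M J := by
    intro a ha ha1
    by_contra e
    obtain ⟨J', -, hJ'⟩ := key a ha ha1
    have e1 := hJ' J hJ e
    have e2 := hJ' K hK (hKu K hK hKJ hKl a ha ha1)
    exact hKJ (e2.trans e1.symm)
  have hJl : ¬ lam ≤ zm M J := fun e => huz (((zm M J).mul_mem_cancel_right (e ha)).1 (hz a ha ha1))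
  have h3 : a * b⁻¹ ∈ zm M J := by
    have h4 := (zm M J).mul_mem (hz a ha ha1) ((zm M J).inv_mem (hz b hb hb1))
    have e : u * a * (u * b)⁻¹ = a * b⁻¹ := by
      rw [mul_inv_rev, mul_comm u a, mul_assoc, mul_comm b⁻¹ u⁻¹, mul_inv_cancel_left]
    rwa [e] at h4
  exact hab (mul_inv_eq_one.1 (F.inf_zm hJl (mul_mem ha (inv_mem hb)) h3))

end Flag

/-! ### The torus lemma (3.1) -/

namespace PSq

variable (F : Flag T lam U Kh) (hP : PSq R T lam Pi)
include F hP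

/-- A product of `T`-conjugates of the torus element. -/
theorem exists_theta {J₀ : Subgroup H} (h0 : J₀ ∈ Pi) (h0l : ¬ lam ≤ zm M J₀) : ∃ θ ∈ normalizer (T : Set H),
    θ ∈ closure {x | ∃ t ∈ T, x ∈ cj t J₀} ∧ ∀ a ∈ lam, θ • a = a → a = 1 := by
  classical
  have hfin := F.finH
  obtain ⟨θ, hθ, hθT, hθl⟩ := hP.tor J₀ h0 h0l
  set O : Set (Subgroup H) := {J | ∃ t ∈ T, J = cj t J₀} with hO
  have : Finite O := inferInstance
  have : Fintype O := Fintype.ofFinite O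
  have hOPi : ∀ i : O, i.1 ∈ Pi := fun i => by
    obtain ⟨t, -, ht⟩ := i.2
    rw [ht]
    exact hP.conj J₀ h0 t
  choose τ hτ hτJ using fun i : O => i.2
  let f : O → H := fun i => τ i * θ * (τ i)⁻¹
  have hf : ∀ i : O, f i ∈ i.1 := fun i => by
    have h1 : f i ∈ cj (τ i) J₀ := conj_mem_cj hθ
    rwa [← hτJ i] at h1
  have hcomm : ∀ (g : O → H) (g' : O → H), (∀ i, g i ∈ i.1) → (∀ i, g' i ∈ i.1) → ∀ i j, i ≠ j →
      Commute (g i) (g' j) := fun g g' hg hg' i j hij =>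
    hP.comm i.1 (hOPi i) j.1 (hOPi j) (fun e => hij (Subtype.ext e)) _ (hg i) _ (hg' j)
  have hpair : ∀ g : O → H, (∀ i, g i ∈ i.1) →
      (((Finset.univ : Finset O) : Set O).Pairwise (Function.onFun Commute g)) := fun g hg i _ j _ hij =>
    hcomm g g hg hg i j hij
  set θ' := Finset.univ.noncommProd f (hpair f hf) with hθ'
  -- `T` permutes
  have hnorm : ∀ t ∈ T, t * θ' * t⁻¹ * θ'⁻¹ ∈ T := by
    intro t ht
    let σ : O ≃ O :=
      { toFun := fun i => ⟨cj t i.1, by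
          obtain ⟨s, hs, e⟩ := i.2
          exact ⟨t * s, mul_mem ht hs, by rw [e, cj_cj]⟩⟩
        invFun := fun i => ⟨cj t⁻¹ i.1, by
          obtain ⟨s, hs, e⟩ := i.2
          exact ⟨t⁻¹ * s, mul_mem (inv_mem ht) hs, by rw [e, cj_cj]⟩⟩
        left_inv := fun i => Subtype.ext (by
          show cj t⁻¹ (cj t i.1) = i.1
          rw [cj_cj, inv_mul_cancel, cj_one])
        right_inv := fun i => Subtype.ext (by
          show cj t (cj t⁻¹ i.1) = i.1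
          rw [cj_cj, mul_inv_cancel, cj_one]) }
    have hσ : ∀ i, (σ i).1 = cj t i.1 := fun i => rfl
    let g : O → H := fun i => t * f (σ.symm i) * t⁻¹
    have hg : ∀ i, g i ∈ i.1 := fun i => by
      have h1 : g i ∈ cj t (σ.symm i).1 := conj_mem_cj (hf _)
      have h2 : cj t (σ.symm i).1 = i.1 := by rw [← hσ, Equiv.apply_symm_apply]
      rwa [h2] at h1
    let u : O → H := fun i => g i * (f i)⁻¹
    have hu : ∀ i, u i ∈ i.1 := fun i => mul_mem (hg i) (inv_mem (hf i))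
    have huT : ∀ i, u i ∈ T := by
      intro i
      set j := σ.symm i with hj
      set n := (τ i)⁻¹ * t * τ j with hn
      have hnT : n ∈ T := mul_mem (mul_mem (inv_mem (hτ i)) ht) (hτ j)
      have hnJ : cj n J₀ = J₀ := by
        rw [hn, ← cj_cj, ← cj_cj, ← hτJ j]
        have h2 : cj t j.1 = i.1 := by rw [← hσ, hj, Equiv.apply_symm_apply]
        rw [h2]
        nth_rewrite 1 [hτJ i]
        rw [cj_cj, inv_mul_cancel, cj_one]
      have h3 := (hθT n hnT hnJ).1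
      have e : u i = τ i * (n * θ * n⁻¹ * θ⁻¹) * (τ i)⁻¹ := by
        show t * (τ j * θ * (τ j)⁻¹) * t⁻¹ * (τ i * θ * (τ i)⁻¹)⁻¹ = _
        rw [hn]; group
      rw [e]
      exact mul_mem (mul_mem (hτ i) h3) (inv_mem (hτ i))
    have e1 : t * θ' * t⁻¹ = Finset.univ.noncommProd g (hpair g hg) := by
      have e2 : t * θ' * t⁻¹ = (MulAut.conj t).toMonoidHom θ' := rfl
      rw [e2, hθ', Finset.map_noncommProd]
      have e3 := noncommProd_equiv σ g (by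
        intro i _ j _ hij
        exact hcomm g g hg hg (σ i) (σ j) (fun e => hij (σ.injective e))) (hpair g hg)
      rw [← e3]
      refine Finset.noncommProd_congr rfl (fun i _ => ?_) _
      show t * f i * t⁻¹ = t * f (σ.symm (σ i)) * t⁻¹
      rw [Equiv.symm_apply_apply]
    have e2 : Finset.univ.noncommProd g (hpair g hg) =
        Finset.univ.noncommProd u (hpair u hu) * θ' := by
      rw [hθ', ← Finset.noncommProd_mul_distrib u f (hpair u hu) (hpair f hf) (by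
        intro i _ j _ hij
        exact hcomm f u hf hu i j hij)]
      refine Finset.noncommProd_congr rfl (fun i _ => ?_) _
      show g i = g i * (f i)⁻¹ * f i
      rw [inv_mul_cancel_right]
    rw [e1, e2, mul_inv_cancel_right]
    exact Subgroup.noncommProd_mem T _ fun i _ => huT i
  have hTn : ∀ t ∈ T, θ' * t * θ'⁻¹ ∈ T := by
    intro t ht
    have h1 := mul_mem (inv_mem (hnorm t⁻¹ (inv_mem ht))) (inv_mem ht)
    have h2 := mul_mem (inv_mem ht) (hnorm t ht)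
    have e : t⁻¹ * (t * θ' * t⁻¹ * θ'⁻¹) = (θ' * t * θ'⁻¹)⁻¹ := by group
    rw [e] at h2
    have h3 := inv_mem h2
    rwa [inv_inv] at h3
  refine ⟨θ', ?_, ?_, ?_⟩
  · rw [← cj_eq_iff]
    refine Subgroup.eq_of_le_of_card_ge ?_ (card_cj _ _).ge
    intro x hx
    obtain ⟨t, ht, rfl⟩ := mem_cj'.1 hx
    exact hTn t ht
  · refine Subgroup.noncommProd_mem _ _ fun i _ => subset_closure ⟨τ i, hτ i, ?_⟩
    rw [← hτJ i]
    exact hf i
  · intro a ha hθa
    let i₀ : O := ⟨J₀, 1, one_mem _, (cj_one _).symm⟩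
    -- `f i₀ • a ∈ a • zm`
    have hrest : ∀ i : O, i ≠ i₀ → f i ∈ am (zm M J₀) := by
      intro i hi
      have h1 : em M i.1 ≤ zm M J₀ := hP.em_le i.1 (hOPi i) J₀ h0 (fun e => hi (Subtype.ext e))
      exact le_am.2 h1 (hf i)
    have e1 := Finset.mul_noncommProd_erase Finset.univ (Finset.mem_univ i₀) f (hpair f hf)
    set ρ := (Finset.univ.erase i₀).noncommProd f (fun x hx y hy h => hpair f hf
      (Finset.mem_of_mem_erase hx) (Finset.mem_of_mem_erase hy) h) with hρ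
    have hρm : ρ ∈ am (zm M J₀) :=
      Subgroup.noncommProd_mem _ _ fun i hi => hrest i (Finset.ne_of_mem_erase hi)
    have e2 : f i₀ • ρ • a = a := by
      rw [smul_smul, e1]
      exact hθa
    -- `f i₀` is a conjugate of `θ` under `N_T(J₀)`
    have hn : cj (τ i₀) J₀ = J₀ := (hτJ i₀).symm
    have h3 := (hθT (τ i₀) (hτ i₀) hn)
    have h4 : f i₀ = (τ i₀ * θ * (τ i₀)⁻¹ * θ⁻¹) * θ := by
      show τ i₀ * θ * (τ i₀)⁻¹ = _
      group
    refine hθl a ha ?_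
    set v := τ i₀ * θ * (τ i₀)⁻¹ * θ⁻¹ with hv
    -- `v θ ρ a = a`, `v⁻¹ a = a`
    have h5 : θ • ρ • a = a := by
      rw [h4, mul_smul] at e2
      have h6 : v⁻¹ • a = a := F.fix _ (inv_mem h3.1) a ha
      calc θ • ρ • a = v⁻¹ • v • θ • ρ • a := (inv_smul_smul v _).symm
        _ = a := by rw [e2, h6]
    -- `(θ a) a⁻¹ = (θ (ρ a a⁻¹))⁻¹`
    have h7 : (θ • a) * a⁻¹ = (θ • ((ρ • a) * a⁻¹))⁻¹ := by
      rw [smul_mul', h5, smul_inv', mul_inv_rev, inv_inv]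
    rw [h7]
    refine inv_mem ?_
    have h8 := hρm a
    have h9 : θ • ((ρ • a) * a⁻¹) = (ρ • a) * a⁻¹ := h8 θ hθ
    rw [h9]
    exact h8

/-- **(3.1)** -/
theorem torus {J₀ : Subgroup H} (h0 : J₀ ∈ Pi) (h0l : ¬ lam ≤ zm M J₀) :
    lam ≤ closure {x | ∃ t ∈ T, x ∈ em M (cj t J₀)} := by
  obtain ⟨θ, hθT, hθ, hθl⟩ := exists_theta F hP h0 h0l
  have hfin := F.finM
  set N : Subgroup M := closure {x | ∃ t ∈ T, x ∈ em M (cj t J₀)} with hN
  have h1 : θ ∈ am N := by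
    have h2 : closure {x | ∃ t ∈ T, x ∈ cj t J₀} ≤ am N := by
      refine (closure_le _).2 ?_
      rintro x ⟨t, ht, hx⟩
      refine le_am.2 ?_ hx
      intro y hy
      exact subset_closure ⟨t, ht, hy⟩
    exact h2 hθ
  let d : lam → lam := fun a => ⟨(θ • (a : M)) * (a : M)⁻¹, mul_mem (F.norm θ hθT a a.2) (inv_mem a.2)⟩
  have hinj : Function.Injective d := by
    intro a b hab
    have h2 : (θ • (a : M)) * (a : M)⁻¹ = (θ • (b : M)) * (b : M)⁻¹ := congrArg Subtype.val hab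
    have h3 : θ • ((a : M) * (b : M)⁻¹) = (a : M) * (b : M)⁻¹ := by
      rw [mul_inv_eq_iff_eq_mul] at h2
      rw [smul_mul', smul_inv', h2, mul_comm _ (θ • (b : M))⁻¹, mul_assoc, inv_mul_cancel_left, mul_comm]
    have h4 := hθl _ (mul_mem a.2 (inv_mem b.2)) h3
    exact Subtype.ext (mul_inv_eq_one.1 h4)
  have hsurj : Function.Surjective d := Finite.injective_iff_surjective.1 hinj
  intro a ha
  obtain ⟨b, hb⟩ := hsurj ⟨a, ha⟩
  have h2 : (θ • (b : M)) * (b : M)⁻¹ = a := congrArg Subtype.val hb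
  rw [← h2]
  exact h1 _

omit F in
/-- a block which does not meet the orbit of `J₀` centralises `[M, cj t J₀]`, `t ∈ T` -/
theorem closure_le_zm {J₀ J : Subgroup H} (h0 : J₀ ∈ Pi) (hJ : J ∈ Pi) (X : Set H) (hne : ∀ t ∈ X, cj t J₀ ≠ J) :
    closure {x | ∃ t ∈ X, x ∈ em M (cj t J₀)} ≤ zm M J := by
  refine (closure_le _).2 ?_
  rintro x ⟨t, ht, hx⟩
  exact hP.em_le _ (hP.conj J₀ h0 t) J hJ (hne t ht) hx

/-- `supp(lam)` is one `T`-orbit. -/
theorem orbit {J₀ J : Subgroup H} (h0 : J₀ ∈ Pi) (h0l : ¬ lam ≤ zm M J₀) (hJ : J ∈ Pi) (hJl : ¬ lam ≤ zm M J) :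
    ∃ t ∈ T, cj t J₀ = J := by
  by_contra hcon
  push Not at hcon
  exact hJl ((torus F hP h0 h0l).trans (closure_le_zm hP h0 hJ T hcon))

/-- `M` is generated by the `[M, J₀^h]`. -/
theorem closure_eq_top {J₀ : Subgroup H} (h0 : J₀ ∈ Pi) (h0l : ¬ lam ≤ zm M J₀) :
    closure {x | ∃ h : H, x ∈ em M (cj h J₀)} = ⊤ := by
  refine F.gen _ fun h a ha => ?_
  have h1 : closure {x | ∃ t ∈ T, x ∈ em M (cj t J₀)} ≤
      (closure {x | ∃ h : H, x ∈ em M (cj h J₀)}).comap (MulDistribMulAction.toMonoidHom M h) := by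
    refine (closure_le _).2 ?_
    rintro x ⟨t, -, hx⟩
    refine subset_closure ⟨h * t, ?_⟩
    rw [← cj_cj]
    exact smul_mem_em hx
  exact h1 (torus F hP h0 h0l ha)

/-- All blocks are conjugate. -/
theorem conj_all {J₀ J : Subgroup H} (h0 : J₀ ∈ Pi) (h0l : ¬ lam ≤ zm M J₀) (hJ : J ∈ Pi) : ∃ h : H, cj h J₀ = J := by
  by_contra hcon
  push Not at hcon
  have h1 : closure {x | ∃ h : H, x ∈ em M (cj h J₀)} ≤ zm M J := by
    refine (closure_le _).2 ?_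
    rintro x ⟨t, hx⟩
    exact hP.em_le _ (hP.conj J₀ h0 t) J hJ (hcon t) hx
  rw [closure_eq_top F hP h0 h0l] at h1
  refine hP.ne J hJ ((eq_bot_iff_forall _).2 fun j hj => F.faith j fun m => h1 (mem_top m) j hj)

/-- If `J` is the only block moving `lam` then `lam ≤ [M, J]`. -/
theorem le_em {J : Subgroup H} (hJ : J ∈ Pi) (hJl : ¬ lam ≤ zm M J)
    (huniq : ∀ J' ∈ Pi, ¬ lam ≤ zm M J' → J' = J) : lam ≤ em M J := by
  refine (torus F hP hJ hJl).trans ((closure_le _).2 ?_)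
  rintro x ⟨t, ht, hx⟩
  have h1 : cj t J = J := by
    refine huniq _ (hP.conj J hJ t) fun h2 => hJl fun a ha => ?_
    have h3 := h2 ha
    rw [← F.fix t ht a ha, smul_mem_zm] at h3
    exact h3
  rwa [h1] at hx

omit hP in
/-- `T` permutes the blocks moving `lam`. -/
theorem not_le_cj {J : Subgroup H} (hJl : ¬ lam ≤ zm M J) {t : H} (ht : t ∈ T) : ¬ lam ≤ zm M (cj t J) := by
  intro h2
  refine hJl fun a ha => ?_
  have h3 := h2 ha
  rw [← F.fix t ht a ha, smul_mem_zm] at h3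
  exact h3

/-- If `J` is the only block moving `lam` then `T` normalises `J`. -/
theorem cj_eq_of_uniq {J : Subgroup H} (hJ : J ∈ Pi) (hJl : ¬ lam ≤ zm M J)
    (huniq : ∀ J' ∈ Pi, ¬ lam ≤ zm M J' → J' = J) : ∀ t ∈ T, cj t J = J := fun t ht =>
  huniq _ (hP.conj J hJ t) (not_le_cj F hJl ht)

/-! ### (K) -/

/-- `Kh_J`: the functionals in `Kh` which are trivial on `C_M(J)`. -/
def kj (Kh : Subgroup (M →* R)) (J : Subgroup H) : Subgroup (M →* R) where
  carrier := {φ | φ ∈ Kh ∧ ∀ z ∈ zm M J, φ z = 1}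
  one_mem' := ⟨one_mem _, fun _ _ => rfl⟩
  mul_mem' := fun {φ ψ} hφ hψ => ⟨mul_mem hφ.1 hψ.1, fun z hz => by
    rw [MonoidHom.mul_apply, hφ.2 z hz, hψ.2 z hz, one_mul]⟩
  inv_mem' := fun {φ} hφ => ⟨inv_mem hφ.1, fun z hz => by rw [MonoidHom.inv_apply, hφ.2 z hz, inv_one]⟩

omit hP in
/-- `Kh_J` is moved to `Kh_{J^h}` -/
theorem exists_kj {J : Subgroup H} {φ : M →* R} (h : H) (hφ : φ ∈ kj Kh (cj h J)) :
    ∃ ψ ∈ kj Kh J, ∀ m, ψ m = φ (h • m) := by
  obtain ⟨ψ, hψ, hψφ⟩ := F.kh φ hφ.1 h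
  refine ⟨ψ, ⟨hψ, fun z hz => ?_⟩, hψφ⟩
  rw [hψφ]
  exact hφ.2 _ (smul_mem_zm.2 hz)

omit hP in
theorem kj_inv {J : Subgroup H} {φ : M →* R} (hφ : φ ∈ kj Kh J) {j : H} (hj : j ∈ J) :
    ∃ ψ ∈ kj Kh J, ∀ m, ψ m = φ (j • m) := by
  have h1 : cj j J = J := cj_eq_iff.2 (le_normalizer hj)
  exact exists_kj F j (by rwa [h1])

/-- **(K)** -/
theorem kj_ne_bot {J : Subgroup H} (hJ : J ∈ Pi) {J₀ : Subgroup H} (h0 : J₀ ∈ Pi) (h0l : ¬ lam ≤ zm M J₀) :
    kj Kh J ≠ ⊥ := by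
  -- first for `J₀`
  have key : kj Kh J₀ ≠ ⊥ := by
    obtain ⟨a, ha, ha1⟩ := F.exists_ne
    obtain ⟨φ, hφ, hφa⟩ := F.f1 a ha ha1
    -- some `[M, cj t J₀]` is moved
    obtain ⟨t, ht, e, he, hφe⟩ : ∃ t ∈ T, ∃ e ∈ em M (cj t J₀), φ e ≠ 1 := by
      by_contra hcon
      push Not at hcon
      have h1 : closure {x | ∃ t ∈ T, x ∈ em M (cj t J₀)} ≤ φ.ker :=
        (closure_le _).2 (by rintro x ⟨t, ht, hx⟩; exact MonoidHom.mem_ker.2 (hcon t ht x hx))
      exact hφa (MonoidHom.mem_ker.1 (h1 (torus F hP h0 h0l ha)))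
    obtain ⟨ψ, hψ, hψφ⟩ := F.kh φ hφ t
    obtain ⟨j, hj, m, hm, hjm⟩ : ∃ j ∈ J₀, ∃ m ∈ em M J₀, ψ ((j • m) * m⁻¹) ≠ 1 := by
      by_contra hcon
      push Not at hcon
      have h1 : cm (em M J₀) J₀ ≤ ψ.ker := cm_le fun j hj m hm => MonoidHom.mem_ker.2 (hcon j hj m hm)
      rw [hP.perf J₀ h0] at h1
      have h2 : t⁻¹ • e ∈ em M J₀ := by
        have h3 := smul_mem_em (h := t⁻¹) he
        rwa [cj_cj, inv_mul_cancel, cj_one] at h3
      have h3 := MonoidHom.mem_ker.1 (h1 h2)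
      rw [hψφ, smul_inv_smul] at h3
      exact hφe h3
    obtain ⟨χ, hχ, hχψ⟩ := F.kh ψ hψ j
    intro hbot
    have h1 : χ * ψ⁻¹ ∈ kj Kh J₀ := ⟨mul_mem hχ (inv_mem hψ), fun z hz => by
      rw [MonoidHom.mul_apply, MonoidHom.inv_apply, hχψ, hz j hj, mul_inv_cancel]⟩
    rw [hbot, mem_bot] at h1
    apply hjm
    have h2 := congrArg (fun f : M →* R => f m) h1
    simp only [MonoidHom.mul_apply, MonoidHom.inv_apply, MonoidHom.one_apply, hχψ] at h2
    rw [map_mul, map_inv]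
    exact h2
  obtain ⟨h, rfl⟩ := conj_all F hP h0 h0l hJ
  intro hbot
  apply key
  rw [eq_bot_iff]
  intro φ hφ
  have h1 : cj h⁻¹ (cj h J₀) = J₀ := by rw [cj_cj, inv_mul_cancel, cj_one]
  obtain ⟨ψ, hψ, hψφ⟩ := exists_kj F (J := cj h J₀) h⁻¹ (by rwa [h1])
  rw [hbot, mem_bot] at hψ
  rw [mem_bot]
  ext m
  have h2 := hψφ (h • m)
  rw [inv_smul_smul, hψ] at h2
  exact h2.symm

/-- `{φ a : φ ∈ Kh_J}` is the same for all blocks moving `lam`. -/
theorem kj_transfer {J J' : Subgroup H} (hJ : J ∈ Pi) (hJl : ¬ lam ≤ zm M J) (hJ' : J' ∈ Pi)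
    (hJl' : ¬ lam ≤ zm M J') {a : M} (ha : a ∈ lam) {φ : M →* R} (hφ : φ ∈ kj Kh J) :
    ∃ ψ ∈ kj Kh J', ψ a = φ a := by
  obtain ⟨t, ht, rfl⟩ := orbit F hP hJ' hJl' hJ hJl
  obtain ⟨ψ, hψ, hψφ⟩ := exists_kj F t hφ
  exact ⟨ψ, hψ, by rw [hψφ, F.fix t ht a ha]⟩

end PSq

end

end Cfsg.Agent.Omega.NO3S.FarQ

end

section


/-!
# FarQ, abstract part: the abstract halves of (4.0), (6.1), (6.2) (TEXT 263-Q)

* `PSq.no_alpha` : (6.1) (α): `[M, A] ≤ U` is impossible unless `Single Pi lam`;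
* `PSq.no_beta` : (6.1) (β): `C_M(A) ≤ U` is impossible unless `Single Pi lam`;
* `PSq.single` : (6.2): if `Single Pi lam` then every nontrivial element of `[M, A]` lies in some `h • lam`;
* `PSq.sepA` : (4.0), `|τ| ≥ 2`; `PSq.uniq_case` : `|τ| = 1`.
-/

set_option autoImplicit false

namespace Cfsg.Agent.Omega.NO3S.FarQ

open Subgroup Cfsg.Agent.ZN Cfsg.Agent.Omega.NO3S.PT
open Cfsg.Agent.ClassTwoFusion.Quad (cv mem_cv cv_anti)
open scoped Pointwise

variable {H M R : Type*} [Group H] [CommGroup M] [MulDistribMulAction H M] [CommGroup R]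
variable {T : Subgroup H} {lam U : Subgroup M} {Kh : Subgroup (M →* R)} {Pi : Set (Subgroup H)}

namespace PSq

variable (F : Flag T lam U Kh) (hP : PSq R T lam Pi)
include F hP

omit F in
/-- some block meets `A` -/
theorem exists_block {A : Subgroup H} (hA : Exact lam A) : ∃ J ∈ Pi, A ⊓ J ≠ ⊥ := by
  by_contra hcon
  push Not at hcon
  apply hA.ne
  rw [eq_bot_iff]
  refine (hP.prod A hA).trans ((closure_le _).2 ?_)
  rintro x ⟨J, hJ, hx⟩
  rw [hcon J hJ] at hx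
  exact hx

omit F in
/-- If `J` is the only block moving `lam` then `A ≤ J`. -/
theorem le_of_uniq {A : Subgroup H} (hA : Exact lam A) {J : Subgroup H}
    (huniq : ∀ J' ∈ Pi, ¬ lam ≤ zm M J' → J' = J) : A ≤ J := by
  refine (hP.prod A hA).trans ((closure_le _).2 ?_)
  rintro x ⟨J', hJ', hx⟩
  by_cases h1 : A ⊓ J' = ⊥
  · rw [h1] at hx
    rw [mem_bot.1 hx]
    exact one_mem _
  · rw [← huniq J' hJ' (hP.hit A hA J' hJ' h1)]
    exact hx.2

omit F in
/-- `[[M, J], A ∩ J]` contains an element outside `C_M(J)`. -/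
theorem exists_cm {A J : Subgroup H} (hJ : J ∈ Pi) (hAJ : A ⊓ J ≠ ⊥) :
    ∃ e ∈ cm (em M J) (A ⊓ J), e ∉ zm M J := by
  by_contra hcon
  push Not at hcon
  apply hAJ
  rw [eq_bot_iff]
  intro x hx
  refine mem_bot.2 (hP.faith J hJ x hx.2 fun m => ?_)
  have hm : m ∈ em M J ⊔ zm M J := by rw [hP.cover J hJ]; exact mem_top m
  obtain ⟨e, he, z, hz, rfl⟩ := mem_sup.1 hm
  have h1 : (x • (e * z)) * (e * z)⁻¹ = (x • e) * e⁻¹ := by
    rw [smul_mul', hz x hx.2, mul_inv_rev, mul_assoc, mul_inv_cancel_left]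
  rw [h1]
  exact hcon _ (comm_mem_cm hx he)

/-- If `|τ| ≥ 2` then `J` splits off ... -/
theorem dich {J : Subgroup H} (hJ : J ∈ Pi) (hJl : ¬ lam ≤ zm M J) (hns : ¬ Single Pi lam) :
    (∃ J' ∈ Pi, J' ≠ J ∧ ¬ lam ≤ zm M J') ∨ ((∀ J' ∈ Pi, ¬ lam ≤ zm M J' → J' = J) ∧ tm M J ≠ ⊥) := by
  by_cases h : ∃ J' ∈ Pi, J' ≠ J ∧ ¬ lam ≤ zm M J'
  · exact Or.inl h
  · push Not at h
    have huniq : ∀ J' ∈ Pi, ¬ lam ≤ zm M J' → J' = J := fun J' hJ' h' => by
      by_contra hne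
      exact h' (h J' hJ' hne)
    exact Or.inr ⟨huniq, fun ht => hns ⟨J, hJ, le_em F hP hJ hJl huniq, ht⟩⟩

/-- **(6.1) (α)** -/
theorem no_alpha {A : Subgroup H} (hA : Exact lam A) (hns : ¬ Single Pi lam) (hU : em M A ≤ U) : False := by
  obtain ⟨J, hJ, hAJ⟩ := exists_block hP hA
  have hJl := hP.hit A hA J hJ hAJ
  have hle : cm (em M J) (A ⊓ J) ≤ em M A := cm_mono le_top inf_le_left
  have hle2 : cm (em M J) (A ⊓ J) ≤ em M J := cm_mono le_top inf_le_right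
  rcases dich F hP hJ hJl hns with ⟨J', hJ', hne, hJl'⟩ | ⟨huniq, ht⟩
  · obtain ⟨e, he, hez⟩ := exists_cm hP hJ hAJ
    exact hez (F.not_mem hP hJ' hJ hne hJl' hJl hJ (hU (hle he)) (hle2 he))
  · have h1 := hP.meets A hA J hJ hAJ ht
    apply h1
    rw [eq_bot_iff]
    intro e he
    refine mem_bot.2 (F.inf_zPi hP hJ hJl (hU (hle he.1)) fun K hK => ?_)
    by_cases hKJ : K = J
    · rw [hKJ]; exact he.2
    · exact hP.em_le J hJ K hK (fun h => hKJ h.symm) (hle2 he.1)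

omit F in
/-- an element of `[M, J]` centralised by `A ∩ J` is centralised by `A` -/
theorem mem_zm_of {A : Subgroup H} (hA : Exact lam A) {J : Subgroup H} (hJ : J ∈ Pi) {e : M} (he : e ∈ em M J)
    (hz : e ∈ zm M (A ⊓ J)) : e ∈ zm M A := by
  have h1 : A ≤ MulAction.stabilizer H e := by
    refine (hP.prod A hA).trans ((closure_le _).2 ?_)
    rintro x ⟨K, hK, hx⟩
    by_cases hKJ : K = J
    · rw [hKJ] at hx
      exact hz x hx
    · exact hP.em_le J hJ K hK (fun h => hKJ h.symm) he x hx.2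
  exact fun x hx => h1 hx

/-- **(6.1) (β)** -/
theorem no_beta {A : Subgroup H} (hA : Exact lam A) (hns : ¬ Single Pi lam) (hU : zm M A ≤ U) : False := by
  obtain ⟨J, hJ, hAJ⟩ := exists_block hP hA
  have hJl := hP.hit A hA J hJ hAJ
  have hle2 : cm (em M J) (A ⊓ J) ≤ em M J := cm_mono le_top inf_le_right
  rcases dich F hP hJ hJl hns with ⟨J', hJ', hne, hJl'⟩ | ⟨huniq, ht⟩
  · obtain ⟨e, he, hez⟩ := exists_cm hP hJ hAJ
    -- quadratic action
    have h1 : cm (em M J) (A ⊓ J) ≤ zm M (A ⊓ J) := by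
      refine cm_le fun a ha m _ b hb => hA.quad a ha.1 b hb.1 m
    exact hez (F.not_mem hP hJ' hJ hne hJl' hJl hJ (hU (mem_zm_of hP hA hJ (hle2 he) (h1 he))) (hle2 he))
  · apply ht
    rw [eq_bot_iff]
    intro e he
    have h1 : e ∈ zm M (A ⊓ J) := zm_anti inf_le_right he.2
    refine mem_bot.2 (F.inf_zPi hP hJ hJl (hU (mem_zm_of hP hA hJ he.1 h1)) fun K hK => ?_)
    by_cases hKJ : K = J
    · rw [hKJ]; exact he.2
    · exact hP.em_le J hJ K hK (fun h => hKJ h.symm) he.1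

/-- **(6.2)** -/
theorem single (hs : Single Pi lam) {A : Subgroup H} (hA : Exact lam A) {e : M} (he : e ∈ em M A) (he1 : e ≠ 1) :
    ∃ h : H, ∃ a ∈ lam, h • a = e := by
  obtain ⟨J, hJ, hlJ, ht⟩ := hs
  have huniq : ∀ J' ∈ Pi, ¬ lam ≤ zm M J' → J' = J := fun J' hJ' h' => by
    by_contra hne
    exact h' (hlJ.trans (hP.em_le J hJ J' hJ' fun h => hne h.symm))
  have hAJ : A ≤ J := le_of_uniq hP hA huniq
  have h1 : A ⊓ J ≠ ⊥ := by rw [inf_eq_left.2 hAJ]; exact hA.ne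
  obtain ⟨a, ha, ha1⟩ := F.exists_ne
  obtain ⟨j, -, hj⟩ := hP.trans A hA J hJ h1 ht a (hlJ ha) e (cm_mono le_rfl hAJ he) ha1 he1
  exact ⟨j, a, ha, hj⟩

/-- **(4.0), `|τ| ≥ 2`**: `(g, α)` of type A separates. -/
theorem sepA {A : Subgroup H} {J J' : Subgroup H} (hJ : J ∈ Pi) (hJl : ¬ lam ≤ zm M J)
    (hJ' : J' ∈ Pi) (hne : J' ≠ J) (hJl' : ¬ lam ≤ zm M J') {g α : H} (hg : g ∈ J) (hα : α ∈ J)
    (hgood : GoodA R lam A J g α) {a : M} (ha : a ∈ lam) (ha1 : a ≠ 1) :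
    ∃ φ ∈ Kh, ∃ h ∈ oj lam A J, φ (g • a) = 1 ∧ φ ((α • g • a) * (g • a)⁻¹) = 1 ∧
      φ (((g * h * g⁻¹) • ((α • g • a) * (g • a)⁻¹)) * ((α • g • a) * (g • a)⁻¹)⁻¹) ≠ 1 := by
  obtain ⟨φ, hφ, h, hh, h1, h2⟩ := hgood (kj Kh J) (kj_ne_bot F hP hJ hJ hJl) (fun φ hφ j hj => kj_inv F hφ hj)
    (fun φ hφ => hφ.2) a ha ha1
  -- `ψ ∈ Kh_{J'}` with `ψ a = φ (g a)`
  obtain ⟨χ, hχ, hχφ⟩ := kj_inv F hφ hg
  obtain ⟨ψ, hψ, hψa⟩ := kj_transfer F hP hJ hJl hJ' hJl' ha hχ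
  rw [hχφ] at hψa
  have hJψ : ∀ x ∈ J, ∀ m : M, ψ (x • m) = ψ m := by
    intro x hx m
    have h3 := hψ.2 _ (hP.em_le J hJ J' hJ' hne.symm (comm_mem_em hx m))
    rw [map_mul, map_inv, mul_inv_eq_one] at h3
    exact h3
  have hoj : oj lam A J ≤ J := by
    refine (closure_le _).2 ?_
    rintro x ⟨c, hc, y, hy, rfl⟩
    exact mul_mem (mul_mem hc.1 hy.2) (inv_mem hc.1)
  have hgh : g * h * g⁻¹ ∈ J := mul_mem (mul_mem hg (hoj hh)) (inv_mem hg)
  refine ⟨φ * ψ⁻¹, mul_mem hφ.1 (inv_mem hψ.1), h, hh, ?_, ?_, ?_⟩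
  · rw [MonoidHom.mul_apply, MonoidHom.inv_apply, hJψ g hg, hψa, mul_inv_cancel]
  · rw [MonoidHom.mul_apply, MonoidHom.inv_apply, h1, map_mul, map_inv, hJψ α hα, mul_inv_cancel, one_mul, inv_one]
  · rw [MonoidHom.mul_apply, MonoidHom.inv_apply]
    have h3 : ψ (((g * h * g⁻¹) • ((α • g • a) * (g • a)⁻¹)) * ((α • g • a) * (g • a)⁻¹)⁻¹) = 1 := by
      rw [map_mul, map_inv, hJψ _ hgh, mul_inv_cancel]
    rw [h3, inv_one, mul_one]
    exact h2

/-- **(4.0), `|τ| = 1`, nonsplit**: the hypotheses of `GoodB`. -/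
theorem uniq_case {A : Subgroup H} (hA : Exact lam A) {J : Subgroup H} (hJ : J ∈ Pi) (hJl : ¬ lam ≤ zm M J)
    (huniq : ∀ J' ∈ Pi, ¬ lam ≤ zm M J' → J' = J) :
    A ≤ J ∧ lam ≤ em M J ∧ ∀ t ∈ T, cj t J = J :=
  ⟨le_of_uniq hP hA huniq, le_em F hP hJ hJl huniq, cj_eq_of_uniq F hP hJ hJl huniq⟩

end PSq

end Cfsg.Agent.Omega.NO3S.FarQ

end

section


/-!
# FarQ, abstract part: Sylow subgroups of the blocks

* `syl_of` : `S` a 2-group with `|K S : S|` odd normalises `K` ⟹ `S ∩ K` is a Sylow subgroup of `K`;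
* `syl_block` : `T ∩ J` is a Sylow 2-subgroup of `J` if the `T`-conjugates of `J` commute;
* `st` : (ST) an element of `J` fixing `a ∈ lam` modulo `C_M(J)` fixes `a`.
-/

set_option autoImplicit false

namespace Cfsg.Agent.Omega.NO3S.FarQ

open Subgroup Cfsg.Agent.ZN Cfsg.Agent.Omega.NO3S.PT
open Cfsg.Agent.ClassTwoFusion.Quad (cv mem_cv cv_anti)
open scoped Pointwise

variable {H M R : Type*} [Group H] [CommGroup M] [MulDistribMulAction H M] [CommGroup R]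

theorem card_mul_relIndex' {A B : Subgroup H} (h : A ≤ B) : Nat.card A * A.relIndex B = Nat.card B := by
  rw [← Subgroup.relIndex_bot_left A, ← Subgroup.relIndex_bot_left B]
  exact relIndex_mul_relIndex ⊥ A B bot_le h

/-- `S` normalises `K` and `|K S : S|` is odd: `|K : S ∩ K|` is odd. -/
theorem syl_of [Finite H] {S K : Subgroup H} (hn : S ≤ normalizer (K : Set H)) (h : ¬ 2 ∣ S.relIndex (K ⊔ S)) :
    ¬ 2 ∣ (S ⊓ K).relIndex K := by
  have h1 := Cfsg.Agent.Omega.NoFF.ThmJ.card_sup_mul hn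
  have h2 := card_mul_relIndex' (le_sup_right : S ≤ K ⊔ S)
  have h3 := card_mul_relIndex' (inf_le_right : S ⊓ K ≤ K)
  rw [inf_comm K S] at h1
  have h4 : S.relIndex (K ⊔ S) = (S ⊓ K).relIndex K := by
    have hS : 0 < Nat.card S := Nat.card_pos
    have hI : 0 < Nat.card (S ⊓ K : Subgroup H) := Nat.card_pos
    rw [← h2, ← h3] at h1
    have h5 : (Nat.card S * Nat.card (S ⊓ K : Subgroup H)) * S.relIndex (K ⊔ S) =
        (Nat.card S * Nat.card (S ⊓ K : Subgroup H)) * (S ⊓ K).relIndex K := by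
      calc _ = Nat.card S * S.relIndex (K ⊔ S) * Nat.card (S ⊓ K : Subgroup H) := by ring
        _ = _ := h1
        _ = _ := by ring
    exact Nat.eq_of_mul_eq_mul_left (Nat.mul_pos hS hI) h5
  rwa [← h4]

theorem not_dvd_relIndex_of_le [Finite H] {A B C : Subgroup H} (hAB : A ≤ B) (hBC : B ≤ C)
    (h : ¬ 2 ∣ A.relIndex C) : ¬ 2 ∣ A.relIndex B := by
  intro h2
  apply h
  rw [← relIndex_mul_relIndex A B C hAB hBC]
  exact h2.mul_right _

/-- `T ∩ J` is a Sylow 2-subgroup of `J` if different `T`-conjugates of `J` commute. -/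
theorem syl_block [Finite H] {T J : Subgroup H} (hT : ¬ 2 ∣ T.index)
    (hc : ∀ s ∈ T, ∀ t ∈ T, cj s J ≠ cj t J → ∀ x ∈ cj s J, ∀ y ∈ cj t J, x * y = y * x) :
    ¬ 2 ∣ (T ⊓ J).relIndex J := by
  set K : Subgroup H := closure {x | ∃ t ∈ T, x ∈ cj t J} with hK
  have hJK : J ≤ K := fun x hx => subset_closure ⟨1, one_mem _, by rw [cj_one]; exact hx⟩
  -- `T` normalises `K`
  have hTK : T ≤ normalizer (K : Set H) := by
    have key : ∀ t ∈ T, cj t K ≤ K := by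
      intro t ht
      rw [cj_le_iff]
      refine (closure_le _).2 ?_
      rintro x ⟨s, hs, hx⟩
      show x ∈ cj t⁻¹ K
      rw [mem_cj, inv_inv]
      refine subset_closure ⟨t * s, mul_mem ht hs, ?_⟩
      rw [← cj_cj]
      exact conj_mem_cj hx
    intro t ht
    rw [← cj_eq_iff]
    refine le_antisymm (key t ht) ?_
    rw [le_cj_iff]
    exact key t⁻¹ (inv_mem ht)
  -- `K` normalises `J`
  have hKJ : K ≤ normalizer (J : Set H) := by
    refine (closure_le _).2 ?_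
    rintro x ⟨t, ht, hx⟩
    by_cases h1 : cj t J = J
    · rw [h1] at hx
      exact le_normalizer hx
    · refine centralizer_le_normalizer _ (mem_centralizer_iff.2 fun y hy => ?_)
      have hy' : y ∈ cj 1 J := by rw [cj_one]; exact hy
      exact hc 1 (one_mem _) t ht (by rw [cj_one]; exact fun e => h1 e.symm) y hy' x hx
  have h1 : ¬ 2 ∣ T.relIndex (K ⊔ T) := by
    intro h2
    apply hT
    rw [← relIndex_top_right]
    rw [← relIndex_mul_relIndex T (K ⊔ T) ⊤ le_sup_right le_top]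
    exact h2.mul_right _
  have h2 := syl_of hTK h1
  have h3 : ¬ 2 ∣ (T ⊓ K).relIndex (J ⊔ (T ⊓ K)) :=
    not_dvd_relIndex_of_le le_sup_right (sup_le hJK inf_le_right) h2
  have h4 := syl_of (inf_le_right.trans hKJ) h3
  have h5 : T ⊓ K ⊓ J = T ⊓ J := by
    rw [inf_assoc, inf_eq_right.2 hJK]
  rwa [h5] at h4

/-- **(ST)** -/
theorem st_aux [Finite H] [Finite M] (hsq : ∀ m : M, m * m = 1) {T J : Subgroup H}
    (hS : ¬ 2 ∣ (T ⊓ J).relIndex J) {a : M} (ha : ∀ t ∈ T ⊓ J, t • a = a) {j : H} (hj : j ∈ J)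
    (h : (j • a) * a⁻¹ ∈ zm M J) : j • a = a := by
  let X : Subgroup H :=
    { carrier := {x | x ∈ J ∧ (x • a) * a⁻¹ ∈ zm M J}
      one_mem' := ⟨one_mem _, by rw [one_smul, mul_inv_cancel]; exact one_mem _⟩
      mul_mem' := by
        rintro x y ⟨hx, hx'⟩ ⟨hy, hy'⟩
        refine ⟨mul_mem hx hy, ?_⟩
        have h1 : x • ((y • a) * a⁻¹) = (y • a) * a⁻¹ := hy' x hx
        have e : ((x * y) • a) * a⁻¹ = (x • ((y • a) * a⁻¹)) * ((x • a) * a⁻¹) := by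
          rw [smul_mul', smul_inv', mul_smul, mul_assoc, inv_mul_cancel_left]
        rw [e, h1]
        exact mul_mem hy' hx'
      inv_mem' := by
        rintro x ⟨hx, hx'⟩
        refine ⟨inv_mem hx, ?_⟩
        have h1 : x⁻¹ • ((x • a) * a⁻¹) = (x • a) * a⁻¹ := hx' _ (inv_mem hx)
        rw [smul_mul', inv_smul_smul, smul_inv'] at h1
        have h2 : (x⁻¹ • a) * a⁻¹ = ((x • a) * a⁻¹)⁻¹ := by
          rw [← h1, mul_inv_rev, inv_inv]
        rw [h2]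
        exact inv_mem hx' }
  let f : X →* M :=
    { toFun := fun x => ((x : H) • a) * a⁻¹
      map_one' := by
        show (((1 : X) : H) • a) * a⁻¹ = 1
        rw [OneMemClass.coe_one, one_smul, mul_inv_cancel]
      map_mul' := by
        intro x y
        have h1 : (x : H) • (((y : H) • a) * a⁻¹) = ((y : H) • a) * a⁻¹ := y.2.2 x x.2.1
        show (((x * y : X) : H) • a) * a⁻¹ = (((x : H) • a) * a⁻¹) * (((y : H) • a) * a⁻¹)
        have e : (((x * y : X) : H) • a) * a⁻¹ = ((x : H) • (((y : H) • a) * a⁻¹)) * (((x : H) • a) * a⁻¹) := by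
          rw [smul_mul', smul_inv', Subgroup.coe_mul, mul_smul, mul_assoc, inv_mul_cancel_left]
        rw [e, h1, mul_comm] }
  have hr : IsPGroup 2 f.range := by
    intro x
    refine ⟨1, Subtype.ext ?_⟩
    rw [pow_one, pow_two]
    exact hsq _
  obtain ⟨k, hk⟩ := IsPGroup.iff_card.1 hr
  have h1 : (T ⊓ J).subgroupOf X ≤ f.ker := by
    intro x hx
    rw [MonoidHom.mem_ker]
    show ((x : H) • a) * a⁻¹ = 1
    rw [ha _ (mem_subgroupOf.1 hx), mul_inv_cancel]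
  have h2 : f.ker.index ∣ (T ⊓ J).relIndex X := index_dvd_of_le h1
  rw [index_ker, hk] at h2
  have hTX : T ⊓ J ≤ X := fun t ht => ⟨ht.2, by rw [ha t ht, mul_inv_cancel]; exact one_mem _⟩
  have h3 : ¬ 2 ∣ (T ⊓ J).relIndex X := not_dvd_relIndex_of_le hTX (fun x hx => hx.1) hS
  have hk0 : k = 0 := by
    by_contra hk0
    exact h3 ((dvd_pow_self 2 hk0).trans h2)
  rw [hk0, pow_zero] at hk
  have h4 : f ⟨j, hj, h⟩ = 1 := by
    have h5 : (⟨f ⟨j, hj, h⟩, ⟨_, rfl⟩⟩ : f.range) = 1 := by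
      have := Subgroup.card_eq_one.1 hk
      exact Subtype.ext (mem_bot.1 (this ▸ (⟨_, rfl⟩ : f ⟨j, hj, h⟩ ∈ f.range)))
    exact congrArg Subtype.val h5
  exact mul_inv_eq_one.1 h4

section

variable {T : Subgroup H} {lam U : Subgroup M} {Kh : Subgroup (M →* R)} {Pi : Set (Subgroup H)}

theorem PSq.syl (F : Flag T lam U Kh) (hP : PSq R T lam Pi) {J : Subgroup H} (hJ : J ∈ Pi) :
    ¬ 2 ∣ (T ⊓ J).relIndex J := by
  have := F.finH
  exact syl_block F.ndvd fun s _ t _ hne => hP.comm _ (hP.conj J hJ s) _ (hP.conj J hJ t) hne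

/-- **(ST)** -/
theorem PSq.st (F : Flag T lam U Kh) (hP : PSq R T lam Pi) {J : Subgroup H} (hJ : J ∈ Pi) {a : M} (ha : a ∈ lam)
    {j : H} (hj : j ∈ J) (h : (j • a) * a⁻¹ ∈ zm M J) : j • a = a := by
  have := F.finH
  have := F.finM
  exact st_aux F.sq (hP.syl F hJ) (fun t ht => F.fix t ht.1 a ha) hj h

end

end Cfsg.Agent.Omega.NO3S.FarQ

end

end

-- merged: Cfsg.Agent.Mrg.Omega.NO3S.FarQ.Glue
section

section


/-!
# NO-3S, `q ≥ 4`: the module facts (6.1), (6.2) on the `G`-side (helper263 #15995)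

* `RF inc R W V p l ρ π lam U` : the flag `(p, l)` is realised by `(H, M)`, `lam = V_l / R_p`, `U = I_l / R_p`;
  `RF.smul` : transport;
* `RF.exact` : `Ex p l A` gives `Exact lam (ρ A)`;
* `RF.k1`, `RF.k2` : (6.1) (α), (β) if not `Single`; `RF.sp` : (6.2) if `Single`.
-/

set_option autoImplicit false
set_option linter.unusedSectionVars false

namespace Cfsg.Agent.Omega.NO3S.FarQ.Glue

open Subgroup Cfsg Cfsg.Agent.ZN Cfsg.Agent.MinSimple.VModule Cfsg.Agent.Omega.NOThree.Pts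
open Cfsg.Agent.Omega.NOThree.LemmaM (NoOver)
open Cfsg.Agent.Omega.NO3S.FarQ.Asm

variable {G X L : Type*} [Group G] [MulAction G X] [MulAction G L]
variable {inc : X → L → Prop} {R W : X → Subgroup G} {V : L → Subgroup G} {s t n : ℕ}
variable {H M : Type*} [Group H] [CommGroup M] [MulDistribMulAction H M]

/-- **A realised flag.** -/
structure RF (inc : X → L → Prop) (R W : X → Subgroup G) (V : L → Subgroup G) (p : X) (l : L)
    (ρ : G → H) (π : G → M) (lam U : Subgroup M) : Prop where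
  re : Four.Real R W p ρ π
  pl : inc p l
  mlam : ∀ m, m ∈ lam ↔ ∃ v ∈ V l, π v = m
  mU : ∀ m, m ∈ U ↔ ∃ u ∈ W p, (∀ y, inc y l → u ∈ W y) ∧ π u = m
  cov : ∀ c ∈ fixer lam, ∃ g ∈ centralizer (V l : Set G), ρ g = c

/-- `ρ(A)` -/
def im {p : X} {ρ : G → H} {π : G → M} (Re : Four.Real R W p ρ π) (A : Subgroup G)
    (hA : A ≤ centralizer (R p : Set G)) : Subgroup H where
  carrier := {h | ∃ a ∈ A, ρ a = h}
  one_mem' := ⟨1, one_mem _, Re.one⟩
  mul_mem' := by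
    rintro _ _ ⟨a, ha, rfl⟩ ⟨b, hb, rfl⟩
    exact ⟨a * b, mul_mem ha hb, Re.mul a (hA ha) b (hA hb)⟩
  inv_mem' := by
    rintro _ ⟨a, ha, rfl⟩
    exact ⟨a⁻¹, inv_mem ha, Re.inv (hA ha)⟩

theorem mem_im {p : X} {ρ : G → H} {π : G → M} {Re : Four.Real R W p ρ π} {A : Subgroup G}
    {hA : A ≤ centralizer (R p : Set G)} {h : H} : h ∈ im Re A hA ↔ ∃ a ∈ A, ρ a = h := Iff.rfl

section real

variable {p : X} {ρ : G → H} {π : G → M} (Re : Four.Real R W p ρ π)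
include Re

theorem π_one : π 1 = 1 := (Re.pker 1 (one_mem _)).2 (one_mem _)

theorem π_inv {v : G} (hv : v ∈ W p) : π v⁻¹ = (π v)⁻¹ := by
  have h4 := Re.pmul v hv v⁻¹ (inv_mem hv)
  rw [mul_inv_cancel, π_one Re] at h4
  exact (inv_eq_of_mul_eq_one_right h4.symm).symm

/-- `π [g, w] = (ρ g • π w) (π w)⁻¹` -/
theorem π_comm (D : Geom inc R W V s t) {g w : G} (hg : g ∈ centralizer (R p : Set G)) (hw : w ∈ W p) :
    π (g * w * g⁻¹ * w⁻¹) = (ρ g • π w) * (π w)⁻¹ := by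
  rw [Re.pmul _ (Four.norm_p D hg hw) _ (inv_mem hw), Re.act g hg w hw, π_inv Re hw]

theorem comm_mem_iff (D : Geom inc R W V s t) {g w : G} (hg : g ∈ centralizer (R p : Set G)) (hw : w ∈ W p) :
    g * w * g⁻¹ * w⁻¹ ∈ R p ↔ ρ g • π w = π w := by
  rw [← Re.pker _ (mul_mem (Four.norm_p D hg hw) (inv_mem hw)), π_comm Re D hg hw, mul_inv_eq_one]

/-- the fibres of `π` -/
theorem mem_mul_R {v w : G} (hv : v ∈ W p) (hw : w ∈ W p) (h : π v = π w) : v * w⁻¹ ∈ R p := by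
  rw [← Re.pker _ (mul_mem hv (inv_mem hw)), Re.pmul _ hv _ (inv_mem hw), π_inv Re hw, h, mul_inv_cancel]

end real

namespace RF

variable {p : X} {l : L} {ρ : G → H} {π : G → M} {lam U : Subgroup M}

/-- Transport. -/
theorem smul (D : Geom inc R W V s t) (F : RF inc R W V p l ρ π lam U) (g : G) :
    RF inc R W V (g • p) (g • l) (fun a => ρ (g⁻¹ * a * g)) (fun w => π (g⁻¹ * w * g)) lam U := by
  have mR : ∀ {x : X} {a : G}, a ∈ R (g • x) ↔ g⁻¹ * a * g ∈ R x := D.R_smul_iff g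
  have mW : ∀ {x : X} {a : G}, a ∈ W (g • x) ↔ g⁻¹ * a * g ∈ W x := D.W_smul_iff g
  have mV : ∀ {x : L} {a : G}, a ∈ V (g • x) ↔ g⁻¹ * a * g ∈ V x := by
    intro x a
    constructor
    · intro h
      have := D.V_smul g⁻¹ _ a h
      rwa [inv_smul_smul, inv_inv] at this
    · intro h
      have := D.V_smul g _ _ h
      have e : g * (g⁻¹ * a * g) * g⁻¹ = a := by group
      rwa [e] at this
  have hc : ∀ {a}, a ∈ centralizer (R (g • p) : Set G) → g⁻¹ * a * g ∈ centralizer (R p : Set G) := by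
    intro a ha
    rw [mem_centralizer_iff] at ha ⊢
    intro r hr
    have h1 := ha (g * r * g⁻¹) (D.R_smul g p r hr)
    calc r * (g⁻¹ * a * g) = g⁻¹ * ((g * r * g⁻¹) * a) * g := by group
      _ = g⁻¹ * (a * (g * r * g⁻¹)) * g := by rw [h1]
      _ = g⁻¹ * a * g * r := by group
  have hc' : ∀ {a}, a ∈ centralizer (R p : Set G) → g * a * g⁻¹ ∈ centralizer (R (g • p) : Set G) := by
    intro a ha
    rw [mem_centralizer_iff] at ha ⊢
    intro r hr
    have h1 := ha _ (mR.1 hr)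
    calc r * (g * a * g⁻¹) = g * ((g⁻¹ * r * g) * a) * g⁻¹ := by group
      _ = g * (a * (g⁻¹ * r * g)) * g⁻¹ := by rw [h1]
      _ = g * a * g⁻¹ * r := by group
  refine ⟨⟨?_, ?_, ?_, ?_, ?_, ?_, ?_⟩, D.inc_smul g _ _ F.pl, ?_, ?_, ?_⟩
  · intro a ha b hb
    have e : g⁻¹ * (a * b) * g = (g⁻¹ * a * g) * (g⁻¹ * b * g) := by group
    show ρ (g⁻¹ * (a * b) * g) = _
    rw [e, F.re.mul _ (hc ha) _ (hc hb)]
  · intro h
    obtain ⟨a, ha, rfl⟩ := F.re.surj h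
    refine ⟨g * a * g⁻¹, hc' ha, ?_⟩
    show ρ (g⁻¹ * (g * a * g⁻¹) * g) = ρ a
    congr 1; group
  · intro a ha
    show ρ (g⁻¹ * a * g) = 1 ↔ _
    rw [F.re.ker _ (hc ha)]
    constructor
    · intro h w hw
      rw [mR]
      have h1 := h _ (mW.1 hw)
      have e : g⁻¹ * (a * w * a⁻¹ * w⁻¹) * g = g⁻¹ * a * g * (g⁻¹ * w * g) * (g⁻¹ * a * g)⁻¹ * (g⁻¹ * w * g)⁻¹ := by
        group
      rwa [e]
    · intro h w hw
      have h1 := h (g * w * g⁻¹) (D.W_smul g p w hw)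
      rw [mR] at h1
      have e : g⁻¹ * (a * (g * w * g⁻¹) * a⁻¹ * (g * w * g⁻¹)⁻¹) * g =
          g⁻¹ * a * g * w * (g⁻¹ * a * g)⁻¹ * w⁻¹ := by group
      rwa [e] at h1
  · intro a ha b hb
    have e : g⁻¹ * (a * b) * g = (g⁻¹ * a * g) * (g⁻¹ * b * g) := by group
    show π (g⁻¹ * (a * b) * g) = _
    rw [e, F.re.pmul _ (mW.1 ha) _ (mW.1 hb)]
  · intro m
    obtain ⟨a, ha, rfl⟩ := F.re.psurj m
    refine ⟨g * a * g⁻¹, D.W_smul g p a ha, ?_⟩
    show π (g⁻¹ * (g * a * g⁻¹) * g) = π a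
    congr 1; group
  · intro a ha
    show π (g⁻¹ * a * g) = 1 ↔ _
    rw [F.re.pker _ (mW.1 ha), mR]
  · intro a ha w hw
    have e : g⁻¹ * (a * w * a⁻¹) * g = (g⁻¹ * a * g) * (g⁻¹ * w * g) * (g⁻¹ * a * g)⁻¹ := by group
    show π (g⁻¹ * (a * w * a⁻¹) * g) = _
    rw [e, F.re.act _ (hc ha) _ (mW.1 hw)]
  · intro m
    rw [F.mlam]
    constructor
    · rintro ⟨v, hv, rfl⟩
      refine ⟨g * v * g⁻¹, D.V_smul g l v hv, ?_⟩
      show π (g⁻¹ * (g * v * g⁻¹) * g) = π v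
      congr 1; group
    · rintro ⟨v, hv, rfl⟩
      exact ⟨_, mV.1 hv, rfl⟩
  · intro m
    rw [F.mU]
    constructor
    · rintro ⟨u, hu, hu', rfl⟩
      refine ⟨g * u * g⁻¹, D.W_smul g p u hu, fun y hy => ?_, ?_⟩
      · have h1 := D.inc_smul g⁻¹ _ _ hy
        rw [inv_smul_smul] at h1
        have h2 := D.W_smul g _ _ (hu' _ h1)
        rwa [smul_inv_smul] at h2
      · show π (g⁻¹ * (g * u * g⁻¹) * g) = π u
        congr 1; group
    · rintro ⟨u, hu, hu', rfl⟩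
      exact ⟨_, mW.1 hu, fun y hy => mW.1 (hu' _ (D.inc_smul g _ _ hy)), rfl⟩
  · intro c hcf
    obtain ⟨a, ha, rfl⟩ := F.cov c hcf
    refine ⟨g * a * g⁻¹, ?_, ?_⟩
    · rw [mem_centralizer_iff] at ha ⊢
      intro v hv
      have h1 := ha _ (mV.1 hv)
      calc v * (g * a * g⁻¹) = g * ((g⁻¹ * v * g) * a) * g⁻¹ := by group
        _ = g * (a * (g⁻¹ * v * g)) * g⁻¹ := by rw [h1]
        _ = g * a * g⁻¹ * v := by group
    · show ρ (g⁻¹ * (g * a * g⁻¹) * g) = ρ a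
      congr 1; group

variable (D : Geom inc R W V s t) (F : RF inc R W V p l ρ π lam U)
include D F

theorem cent_V_le : centralizer (V l : Set G) ≤ centralizer (R p : Set G) := centralizer_le (D.R_le p l F.pl)

omit F in
theorem A_le {A : Subgroup G} (hE : Ex inc R W V p l A) : A ≤ centralizer (R p : Set G) :=
  hE.le.trans ((o2_le _).trans (centralizer_le (D.R_le p l hE.ql)))

variable [Finite G]

/-- `ρ(O₂(C_G(V_l))) ≤ O₂(C_H(lam))` -/
theorem im_le {A : Subgroup G} (hA : A ≤ o2 (centralizer (V l : Set G))) (hA' : A ≤ centralizer (R p : Set G)) :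
    im F.re A hA' ≤ o2 (fixer lam) := by
  set Q := o2 (centralizer (V l : Set G)) with hQ
  have hQC : Q ≤ centralizer (V l : Set G) := o2_le _
  have hQR : Q ≤ centralizer (R p : Set G) := hQC.trans (cent_V_le D F)
  have h1 : im F.re Q hQR ≤ o2 (fixer lam) := by
    refine le_o2 ?_ ?_ ?_
    · rintro _ ⟨a, ha, rfl⟩
      intro m hm
      obtain ⟨v, hv, rfl⟩ := (F.mlam m).1 hm
      have hvW : v ∈ W p := D.V_le p l F.pl hv
      rw [← F.re.act a (hQR ha) v hvW]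
      congr 1
      have h2 := mem_centralizer_iff.1 (hQC ha) v hv
      rw [← h2]; group
    · rintro ⟨_, a, ha, rfl⟩
      obtain ⟨k, hk⟩ := o2_isPGroup (centralizer (V l : Set G)) ⟨a, ha⟩
      have hk' : a ^ 2 ^ k = 1 := congrArg Subtype.val hk
      refine ⟨k, Subtype.ext ?_⟩
      show ρ a ^ 2 ^ k = 1
      have hpow : ∀ j : ℕ, ρ (a ^ j) = ρ a ^ j := by
        intro j
        induction j with
        | zero => rw [pow_zero, pow_zero, F.re.one]
        | succ j ih => rw [pow_succ, pow_succ, F.re.mul _ (pow_mem (hQR ha) j) _ (hQR ha), ih]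
      rw [← hpow, hk', F.re.one]
    · refine mem_normalizer_of_conj ?_
      rintro c hc _ ⟨a, ha, rfl⟩
      obtain ⟨g, hg, rfl⟩ := F.cov c hc
      refine ⟨g * a * g⁻¹, conj_mem_of_le_normalizer (le_normalizer_o2 _) hg ha, ?_⟩
      exact F.re.conj (cent_V_le D F hg) (hQR ha)
  refine le_trans ?_ h1
  rintro _ ⟨a, ha, rfl⟩
  exact ⟨a, hA ha, rfl⟩

/-- **The image of an exact group is exact.** -/
theorem exact {A : Subgroup G} (hE : Ex inc R W V p l A) : Exact lam (im F.re A (A_le D hE)) := by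
  have hAR := A_le D hE
  have hcomm : ∀ a ∈ A, ∀ u ∈ W p, π (a * u * a⁻¹ * u⁻¹) = (ρ a • π u) * (π u)⁻¹ :=
    fun a ha u hu => π_comm F.re D (hAR ha) hu
  refine ⟨?_, im_le D F hE.le _, ?_, ?_, ?_, ?_⟩
  · intro h0
    obtain ⟨a, ha, u, hu, hne⟩ := hE.ne
    apply hne
    have h1 : ρ a ∈ im F.re A hAR := ⟨a, ha, rfl⟩
    rw [h0, mem_bot] at h1
    rw [comm_mem_iff F.re D (hAR ha) hu, h1, one_smul]
  · rintro _ ⟨a, ha, rfl⟩ _ ⟨b, hb, rfl⟩
    rw [← F.re.mul a (hAR ha) b (hAR hb), hE.comm a ha b hb, F.re.mul b (hAR hb) a (hAR ha)]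
  · rintro _ ⟨a, ha, rfl⟩
    rw [← F.re.mul a (hAR ha) a (hAR ha), hE.sq a ha, F.re.one]
  · rintro _ ⟨a, ha, rfl⟩ _ ⟨b, hb, rfl⟩ m
    obtain ⟨u, hu, rfl⟩ := F.re.psurj m
    rw [← hcomm a ha u hu, ← F.re.act b (hAR hb) _ (mul_mem (Four.norm_p D (hAR ha) hu) (inv_mem hu))]
    congr 1
    rw [hE.quad a ha b hb u hu, mul_inv_cancel_right]
  · -- cardinalities
    let φ : A →* H := MonoidHom.mk' (fun a => ρ a) (fun a b => F.re.mul a (hAR a.2) b (hAR b.2))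
    let ψ : W p →* M := MonoidHom.mk' (fun a => π a) (fun a b => F.re.pmul a a.2 b b.2)
    have hψ : Function.Surjective ψ := fun m => by
      obtain ⟨u, hu, rfl⟩ := F.re.psurj m
      exact ⟨⟨u, hu⟩, rfl⟩
    have hrange : φ.range = im F.re A hAR := by
      ext h
      constructor
      · rintro ⟨a, rfl⟩
        exact ⟨a, a.2, rfl⟩
      · rintro ⟨a, ha, rfl⟩
        exact ⟨⟨a, ha⟩, rfl⟩
    set C' := (zm M (im F.re A hAR)).comap ψ with hC'
    have h1 := hE.eq (φ.ker.map A.subtype) (C'.map (W p).subtype) ?_ ?_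
    · have e0 : Nat.card (im F.re A hAR) = φ.ker.index := by rw [← hrange, index_ker]
      rw [e0, ← index_comap_of_surjective _ hψ, ← hC']
      have e1 : (φ.ker.map A.subtype).relIndex A = φ.ker.index := by
        unfold relIndex
        rw [subgroupOf, comap_map_eq_self_of_injective A.subtype_injective]
      have e2 : (C'.map (W p).subtype).relIndex (W p) = C'.index := by
        unfold relIndex
        rw [subgroupOf, comap_map_eq_self_of_injective (W p).subtype_injective]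
      rw [e1, e2] at h1
      exact h1
    · intro a
      constructor
      · rintro ⟨⟨b, hb⟩, hb1, rfl⟩
        refine ⟨hb, fun u hu => ?_⟩
        have hb1' : ρ b = 1 := hb1
        show b * u * b⁻¹ * u⁻¹ ∈ R p
        rw [comm_mem_iff F.re D (hAR hb) hu, hb1', one_smul]
      · rintro ⟨ha, ha'⟩
        refine ⟨⟨a, ha⟩, ?_, rfl⟩
        show ρ a = 1
        exact (F.re.ker a (hAR ha)).2 ha'
    · intro u
      constructor
      · rintro ⟨⟨v, hv⟩, hv1, rfl⟩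
        refine ⟨hv, fun a ha => ?_⟩
        have hv1' : π v ∈ zm M (im F.re A hAR) := hv1
        show a * v * a⁻¹ * v⁻¹ ∈ R p
        rw [comm_mem_iff F.re D (hAR ha) hv]
        exact hv1' _ ⟨a, ha, rfl⟩
      · rintro ⟨hu, hu'⟩
        refine ⟨⟨u, hu⟩, ?_, rfl⟩
        show π u ∈ zm M (im F.re A hAR)
        rintro _ ⟨a, ha, rfl⟩
        exact (comm_mem_iff F.re D (hAR ha) hu).1 (hu' a ha)

variable {K : Type*} [CommGroup K] {T : Subgroup H} {Kh : Subgroup (M →* K)} {Pi : Set (Subgroup H)}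
  (hF : Flag T lam U Kh) (hP : PSq K T lam Pi)
include hF hP

/-- **(6.1)(α)** -/
theorem k1 (hns : ¬ Single Pi lam) {A : Subgroup G} (hE : Ex inc R W V p l A) {y : X} (hy : inc y l)
    (hyp : y ≠ p) : ¬ ∀ a ∈ A, ∀ u ∈ W p, a * u * a⁻¹ * u⁻¹ ∈ W y := by
  intro h
  have hAR := A_le D hE
  refine PSq.no_alpha hF hP (exact D F hE) hns (em_le_iff.2 ?_)
  rintro _ ⟨a, ha, rfl⟩ m
  obtain ⟨u, hu, rfl⟩ := F.re.psurj m
  have h1 : a * u * a⁻¹ * u⁻¹ ∈ W p := mul_mem (Four.norm_p D (hAR ha) hu) (inv_mem hu)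
  rw [← π_comm F.re D (hAR ha) hu, F.mU]
  exact ⟨_, h1, fun z hz => D.inf_le F.pl hy hz hyp.symm ⟨h1, h a ha u hu⟩, rfl⟩

/-- **(6.1)(β)** -/
theorem k2 (hns : ¬ Single Pi lam) {A : Subgroup G} (hE : Ex inc R W V p l A) {y : X} (hy : inc y l)
    (hyp : y ≠ p) : ¬ ∀ u ∈ W p, (∀ a ∈ A, a * u * a⁻¹ * u⁻¹ ∈ R p) → u ∈ W y := by
  intro h
  have hAR := A_le D hE
  refine PSq.no_beta hF hP (exact D F hE) hns ?_
  intro m hm
  obtain ⟨u, hu, rfl⟩ := F.re.psurj m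
  have h1 : u ∈ W y := h u hu fun a ha =>
    (comm_mem_iff F.re D (hAR ha) hu).2 (hm _ (show ρ a ∈ im F.re A hAR from ⟨a, ha, rfl⟩))
  refine (F.mU _).2 ⟨u, hu, fun z hz => D.inf_le F.pl hy hz hyp.symm (mem_inf.2 ⟨hu, h1⟩), rfl⟩

/-- **(6.2)** -/
theorem sp (hs : Single Pi lam) {A : Subgroup G} (hE : Ex inc R W V p l A) {a u : G} (ha : a ∈ A)
    (hu : u ∈ W p) : ∃ m, inc p m ∧ a * u * a⁻¹ * u⁻¹ ∈ V m := by
  have hAR := A_le D hE
  have h1 : a * u * a⁻¹ * u⁻¹ ∈ W p := mul_mem (Four.norm_p D (hAR ha) hu) (inv_mem hu)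
  by_cases h0 : π (a * u * a⁻¹ * u⁻¹) = 1
  · exact ⟨l, F.pl, D.R_le p l F.pl ((F.re.pker _ h1).1 h0)⟩
  have he : π (a * u * a⁻¹ * u⁻¹) ∈ em M (im F.re A hAR) := by
    rw [π_comm F.re D (hAR ha) hu]
    exact comm_mem_em (show ρ a ∈ im F.re A hAR from ⟨a, ha, rfl⟩) _
  obtain ⟨h, b, hb, hhb⟩ := PSq.single hF hP hs (exact D F hE) he h0
  obtain ⟨g, hg, rfl⟩ := F.re.surj h
  obtain ⟨v, hv, rfl⟩ := (F.mlam b).1 hb
  have hvW : v ∈ W p := D.V_le p l F.pl hv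
  rw [← F.re.act g hg v hvW] at hhb
  have h2 := mem_mul_R F.re h1 (Four.norm_p D hg hvW) hhb.symm
  have h3 : inc p (g • l) := by
    have := D.inc_smul g _ _ F.pl
    rwa [Four.fix_p D hg] at this
  refine ⟨g • l, h3, ?_⟩
  have h4 := mul_mem (D.R_le p _ h3 h2) (D.V_smul g l v hv)
  rwa [inv_mul_cancel_right] at h4

end RF

end Cfsg.Agent.Omega.NO3S.FarQ.Glue

end

section


/-!
# NO-3S, `q ≥ 4`: the realised flag with its Sylow subgroup and `K_p` (helper263 #15995)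

* `RD inc R W V p l Sy ρ π ζ T lam U Kh` : `Glue.RF`, `Abs.Flag`, `T = ρ(Sy)`, `ζ : K ≃ R_p`, `Kh` = the maps
  `m ↦ [k, w]`, `k ∈ K_p`, and the transitivity of `K_p` on the points `≠ p` of `l`;
* `RD.smul` : transport; `RD.four` : helper712's `Four.Flag`.
-/

set_option autoImplicit false
set_option linter.unusedSectionVars false

namespace Cfsg.Agent.Omega.NO3S.FarQ

open Subgroup Cfsg Cfsg.Agent.ZN Cfsg.Agent.MinSimple.VModule Cfsg.Agent.Omega.NOThree.Pts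
open Cfsg.Agent.Omega.NO3S.FarQ.Glue

variable {G X L : Type*} [Group G] [MulAction G X] [MulAction G L]
variable {inc : X → L → Prop} {R W : X → Subgroup G} {V : L → Subgroup G} {s t n : ℕ}
variable {H M K : Type*} [Group H] [CommGroup M] [MulDistribMulAction H M] [CommGroup K]

/-- **A realised flag with all its data.** -/
structure RD (inc : X → L → Prop) (R W : X → Subgroup G) (V : L → Subgroup G) (p : X) (l : L) (Sy : Subgroup G)
    (ρ : G → H) (π : G → M) (ζ : K →* G) (T : Subgroup H) (lam U : Subgroup M) (Kh : Subgroup (M →* K)) : Prop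
    extends RF inc R W V p l ρ π lam U where
  flag : Flag T lam U Kh
  sy : Sy ≤ centralizer (R p : Set G)
  mT : ∀ t, t ∈ T ↔ ∃ s ∈ Sy, ρ s = t
  cen : ∀ w ∈ W p, (∀ s ∈ Sy, s * w = w * s) → w ∈ R p
  inj : Function.Injective ζ
  ran : ∀ g, g ∈ R p ↔ ∃ r, ζ r = g
  kh : ∀ φ ∈ Kh, ∃ k ∈ centralizer (R p : Set G), ∀ w ∈ W p, k * w * k⁻¹ * w⁻¹ = ζ (φ (π w))
  kh' : ∀ k ∈ centralizer (R p : Set G), (∀ w ∈ W p, k * w * k⁻¹ * w⁻¹ ∈ R p) →
    ∃ φ ∈ Kh, ∀ w ∈ W p, k * w * k⁻¹ * w⁻¹ = ζ (φ (π w))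
  line : ∀ x, inc x l → x ≠ p → ∀ v ∈ V l, ∃ r ∈ R p, ∃ r' ∈ R x, v = r * r'
  tr : ∀ x y, inc x l → x ≠ p → inc y l → y ≠ p →
    ∃ k ∈ centralizer (R p : Set G), (∀ w ∈ W p, k * w * k⁻¹ * w⁻¹ ∈ R p) ∧ k • y = x

namespace RD

variable {p : X} {l : L} {Sy : Subgroup G} {ρ : G → H} {π : G → M} {ζ : K →* G} {T : Subgroup H}
  {lam U : Subgroup M} {Kh : Subgroup (M →* K)}

/-- helper712's flag -/
theorem four (F : RD inc R W V p l Sy ρ π ζ T lam U Kh) {x₁ q : X} (h1 : inc x₁ l) (h2 : x₁ ≠ p)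
    (h3 : ∀ f ∈ W q, f ∈ centralizer (R p : Set G)) (h4 : ∀ f ∈ W q, ∀ w ∈ W x₁, f * w = w * f) :
    Four.Flag inc R W V p x₁ q l where
  pl := F.pl
  xl := h1
  ne := h2
  cen := h3
  com := h4
  line := F.line x₁ h1 h2
  tr y hy hyp := F.tr x₁ y h1 h2 hy hyp

/-- `lam` is helper712's `Lam` -/
theorem mem_Lam (F : RD inc R W V p l Sy ρ π ζ T lam U Kh) {m : M} : m ∈ Four.Lam π V l ↔ m ∈ lam := by
  rw [F.mlam]
  constructor
  · rintro ⟨v, hv, rfl⟩
    exact ⟨v, hv, rfl⟩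
  · rintro ⟨v, hv, rfl⟩
    exact ⟨v, hv, rfl⟩

/-- Transport. -/
theorem smul (D : Geom inc R W V s t) (F : RD inc R W V p l Sy ρ π ζ T lam U Kh) (g : G) :
    RD inc R W V (g • p) (g • l) (Sy.map (MulAut.conj g).toMonoidHom) (fun a => ρ (g⁻¹ * a * g))
      (fun w => π (g⁻¹ * w * g)) ((MulAut.conj g).toMonoidHom.comp ζ) T lam U Kh := by
  have mR : ∀ {x : X} {a : G}, a ∈ R (g • x) ↔ g⁻¹ * a * g ∈ R x := D.R_smul_iff g
  have mW : ∀ {x : X} {a : G}, a ∈ W (g • x) ↔ g⁻¹ * a * g ∈ W x := D.W_smul_iff g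
  have mV : ∀ {x : L} {a : G}, a ∈ V (g • x) ↔ g⁻¹ * a * g ∈ V x := by
    intro x a
    constructor
    · intro h
      have := D.V_smul g⁻¹ _ a h
      rwa [inv_smul_smul, inv_inv] at this
    · intro h
      have := D.V_smul g _ _ h
      have e : g * (g⁻¹ * a * g) * g⁻¹ = a := by group
      rwa [e] at this
  have hc : ∀ {a}, a ∈ centralizer (R (g • p) : Set G) → g⁻¹ * a * g ∈ centralizer (R p : Set G) := by
    intro a ha
    rw [mem_centralizer_iff] at ha ⊢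
    intro r hr
    have h1 := ha (g * r * g⁻¹) (D.R_smul g p r hr)
    calc r * (g⁻¹ * a * g) = g⁻¹ * ((g * r * g⁻¹) * a) * g := by group
      _ = g⁻¹ * (a * (g * r * g⁻¹)) * g := by rw [h1]
      _ = g⁻¹ * a * g * r := by group
  have hc' : ∀ {a}, a ∈ centralizer (R p : Set G) → g * a * g⁻¹ ∈ centralizer (R (g • p) : Set G) := by
    intro a ha
    rw [mem_centralizer_iff] at ha ⊢
    intro r hr
    have h1 := ha _ (mR.1 hr)
    calc r * (g * a * g⁻¹) = g * ((g⁻¹ * r * g) * a) * g⁻¹ := by group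
      _ = g * (a * (g⁻¹ * r * g)) * g⁻¹ := by rw [h1]
      _ = g * a * g⁻¹ * r := by group
  have hi : ∀ {x : X} {m : L}, inc x (g • m) ↔ inc (g⁻¹ • x) m := by
    intro x m
    constructor
    · intro h
      have := D.inc_smul g⁻¹ _ _ h
      rwa [inv_smul_smul] at this
    · intro h
      have := D.inc_smul g _ _ h
      rwa [smul_inv_smul] at this
  have hne : ∀ {x : X}, x ≠ g • p → g⁻¹ • x ≠ p := by
    rintro x h rfl
    exact h (smul_inv_smul g x).symm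
  refine { toRF := F.toRF.smul D g, flag := F.flag, sy := ?_, mT := ?_, cen := ?_, inj := ?_, ran := ?_,
           kh := ?_, kh' := ?_, line := ?_, tr := ?_ }
  · rintro _ ⟨s, hs, rfl⟩
    exact hc' (F.sy hs)
  · intro t
    rw [F.mT]
    constructor
    · rintro ⟨s, hs, rfl⟩
      refine ⟨_, ⟨s, hs, rfl⟩, ?_⟩
      show ρ (g⁻¹ * (g * s * g⁻¹) * g) = ρ s
      congr 1; group
    · rintro ⟨_, ⟨s, hs, rfl⟩, rfl⟩
      refine ⟨s, hs, ?_⟩
      show ρ s = ρ (g⁻¹ * (g * s * g⁻¹) * g)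
      congr 1; group
  · intro w hw h
    rw [mR]
    refine F.cen _ (mW.1 hw) fun s hs => ?_
    have h1 := h _ ⟨s, hs, rfl⟩
    have h1' : g * s * g⁻¹ * w = w * (g * s * g⁻¹) := h1
    calc s * (g⁻¹ * w * g) = g⁻¹ * (g * s * g⁻¹ * w) * g := by group
      _ = g⁻¹ * (w * (g * s * g⁻¹)) * g := by rw [h1']
      _ = g⁻¹ * w * g * s := by group
  · intro a b hab
    apply F.inj
    have h1 : g * ζ a * g⁻¹ = g * ζ b * g⁻¹ := hab
    simpa using h1
  · intro a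
    rw [mR, F.ran]
    constructor
    · rintro ⟨r, hr⟩
      refine ⟨r, ?_⟩
      show g * ζ r * g⁻¹ = a
      rw [hr]; group
    · rintro ⟨r, rfl⟩
      refine ⟨r, ?_⟩
      show ζ r = g⁻¹ * (g * ζ r * g⁻¹) * g
      group
  · intro φ hφ
    obtain ⟨k, hk, hk'⟩ := F.kh φ hφ
    refine ⟨g * k * g⁻¹, hc' hk, fun w hw => ?_⟩
    show g * k * g⁻¹ * w * (g * k * g⁻¹)⁻¹ * w⁻¹ = g * ζ (φ (π (g⁻¹ * w * g))) * g⁻¹
    rw [← hk' _ (mW.1 hw)]
    group
  · intro k hk hk'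
    obtain ⟨φ, hφ, h1⟩ := F.kh' _ (hc hk) fun w hw => by
      have h2 := hk' (g * w * g⁻¹) (D.W_smul g p w hw)
      rw [mR] at h2
      have e : g⁻¹ * (k * (g * w * g⁻¹) * k⁻¹ * (g * w * g⁻¹)⁻¹) * g =
          g⁻¹ * k * g * w * (g⁻¹ * k * g)⁻¹ * w⁻¹ := by group
      rwa [e] at h2
    refine ⟨φ, hφ, fun w hw => ?_⟩
    show k * w * k⁻¹ * w⁻¹ = g * ζ (φ (π (g⁻¹ * w * g))) * g⁻¹
    rw [← h1 _ (mW.1 hw)]
    group
  · intro x hx hxp v hv
    obtain ⟨r, hr, r', hr', h1⟩ := F.line _ (hi.1 hx) (hne hxp) _ (mV.1 hv)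
    refine ⟨g * r * g⁻¹, D.R_smul g p r hr, g * r' * g⁻¹, ?_, ?_⟩
    · have := D.R_smul g _ r' hr'
      rwa [smul_inv_smul] at this
    · calc v = g * (g⁻¹ * v * g) * g⁻¹ := by group
        _ = g * (r * r') * g⁻¹ := by rw [h1]
        _ = _ := by group
  · intro x y hx hxp hy hyp
    obtain ⟨k, hk, hk', h1⟩ := F.tr _ _ (hi.1 hx) (hne hxp) (hi.1 hy) (hne hyp)
    refine ⟨g * k * g⁻¹, hc' hk, fun w hw => ?_, ?_⟩
    · rw [mR]
      have h2 := hk' _ (mW.1 hw)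
      have e : g⁻¹ * (g * k * g⁻¹ * w * (g * k * g⁻¹)⁻¹ * w⁻¹) * g =
          k * (g⁻¹ * w * g) * k⁻¹ * (g⁻¹ * w * g)⁻¹ := by group
      rwa [e]
    · rw [mul_smul, mul_smul, h1, smul_inv_smul]

end RD

end Cfsg.Agent.Omega.NO3S.FarQ

end

section


/-!
# NO-3S, `q ≥ 4`, K-free: existence of movers (#19123 (M))

`D : Geom inc R W V s t`, `F : RF inc R W V p l ρ π lam U`, `hF : Flag T lam U Kh`.

* `pCore_eq_bot` : `O₂(H) = 1`;
* `exists_inv` : `f ∈ C_G(R_p)`, `f² = 1`, `ρ f ≠ 1` : some `h ∈ C_G(R_p)` of odd order has `f h f⁻¹ = h⁻¹`, `ρ h ≠ 1`;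
* `not_norm`, `smul_l_ne` : `f ∈ O₂(C_G(V_l))` : such an `h` does not normalise `V_l`;
* `f_moves` : `f (h x₁) ≠ h x₁` for the points `x₁ ≠ p` of `l`;
* `mem_of_comm` : `f ∈ C_G(W_{x₁})`, `u ∈ W_{h x₁}`, `f u = u f` : `u ∈ W_{x₁}`;
* `exists_mover` : everything together.
-/

set_option autoImplicit false
set_option linter.unusedSectionVars false

namespace Cfsg.Agent.Omega.NO3S.FarQ.Free

open Subgroup Cfsg Cfsg.Agent.ZN Cfsg.Agent.MinSimple.VModule Cfsg.Agent.Omega.NOThree.Pts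
open Cfsg.Agent.Omega.NO3S.FarQ.Glue

section grp

variable {G : Type*} [Group G]

/-- an element of odd order is a power of its square -/
theorem exists_pow_sq {h : G} (ho : Odd (orderOf h)) : ∃ k : ℕ, (h * h) ^ k = h := by
  obtain ⟨k, hk⟩ := ho
  refine ⟨k + 1, ?_⟩
  rw [← pow_two, ← pow_mul, show 2 * (k + 1) = orderOf h + 1 by omega, pow_succ, pow_orderOf_eq_one, one_mul]

theorem mem_of_sq_mem {h : G} (ho : Odd (orderOf h)) {N : Subgroup G} (h2 : h * h ∈ N) : h ∈ N := by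
  obtain ⟨k, hk⟩ := exists_pow_sq ho
  rw [← hk]
  exact pow_mem h2 k

/-- `h f h⁻¹ f⁻¹ = h²` if `f` inverts `h` -/
theorem conj_eq_sq {f h : G} (hi : f * h * f⁻¹ = h⁻¹) : h * f * h⁻¹ * f⁻¹ = h * h := by
  have h1 : f * h⁻¹ * f⁻¹ = h := by
    have := congrArg (fun x => x⁻¹) hi
    simpa [mul_assoc] using this
  calc h * f * h⁻¹ * f⁻¹ = h * (f * h⁻¹ * f⁻¹) := by group
    _ = h * h := by rw [h1]

/-- `N(A) ≤ N(C(A))` -/
theorem norm_cent {A : Subgroup G} : normalizer (A : Set G) ≤ normalizer ((centralizer (A : Set G) : Subgroup G) : Set G) := by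
  refine mem_normalizer_of_conj fun g hg a ha => ?_
  rw [mem_centralizer_iff] at ha ⊢
  intro w hw
  have hw' : g⁻¹ * w * g ∈ A := by
    have := (mem_normalizer_iff.1 (inv_mem hg) w).1 hw
    rwa [inv_inv] at this
  have h3 := cg g (ha _ hw')
  have e1 : g * (g⁻¹ * w * g * a) * g⁻¹ = w * (g * a * g⁻¹) := by group
  have e2 : g * (a * (g⁻¹ * w * g)) * g⁻¹ = g * a * g⁻¹ * w := by group
  rwa [e1, e2] at h3

end grp

variable {G X L : Type*} [Group G] [MulAction G X] [MulAction G L]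
variable {inc : X → L → Prop} {R W : X → Subgroup G} {V : L → Subgroup G} {s t n : ℕ}
variable {H M K : Type*} [Group H] [CommGroup M] [MulDistribMulAction H M] [CommGroup K]
variable {p : X} {l : L} {ρ : G → H} {π : G → M} {T : Subgroup H} {lam U : Subgroup M} {Kh : Subgroup (M →* K)}

/-- `O₂(H) = 1`: a normal 2-subgroup of `H` is trivial. -/
theorem eq_bot_of_normal (hF : Flag T lam U Kh) {N : Subgroup H} [N.Normal] (hN : IsPGroup 2 N) : N = ⊥ := by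
  have := hF.finH
  have : Fact (Nat.Prime 2) := ⟨Nat.prime_two⟩
  -- `N ≤ T`
  have hTN : N ≤ T := by
    obtain ⟨Q, hQ⟩ := hN.exists_le_sylow
    obtain ⟨g, hg⟩ := MulAction.exists_smul_eq H Q (hF.two.toSylow hF.ndvd)
    intro x hx
    have h1 : g⁻¹ * x * g ∈ N := by
      have := Normal.conj_mem (inferInstance : N.Normal) x hx g⁻¹
      rwa [inv_inv] at this
    have h2 : x ∈ ((g • Q : Sylow 2 H) : Subgroup H) := by
      rw [Sylow.coe_subgroup_smul, Subgroup.mem_pointwise_smul_iff_inv_smul_mem, ← map_inv, MulAut.smul_def,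
        MulAut.conj_apply, inv_inv]
      exact hQ h1
    rw [hg] at h2
    exact h2
  have hfixl : ∀ n ∈ N, ∀ h : H, ∀ a ∈ lam, n • h • a = h • a := by
    intro n hn h a ha
    have h1 : h⁻¹ * n * h ∈ N := by
      have := Normal.conj_mem (inferInstance : N.Normal) n hn h⁻¹
      rwa [inv_inv] at this
    have h2 := hF.fix _ (hTN h1) a ha
    rw [mul_smul, mul_smul, inv_smul_eq_iff] at h2
    exact h2
  rw [eq_bot_iff]
  intro n hn
  rw [mem_bot]
  apply hF.faith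
  have h3 := hF.gen (zm M N) (fun h a ha n' hn' => hfixl n' hn' h a ha)
  intro m
  have h4 : m ∈ zm M N := by rw [h3]; exact mem_top m
  exact h4 n hn

section inv

variable [Finite G] (D : Geom inc R W V s t) (F : RF inc R W V p l ρ π lam U) (hF : Flag T lam U Kh)
include D F hF

omit D in
/-- powers -/
theorem rho_pow {g : G} (hg : g ∈ centralizer (R p : Set G)) (j : ℕ) : ρ (g ^ j) = ρ g ^ j := by
  induction j with
  | zero => rw [pow_zero, pow_zero, F.re.one]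
  | succ j ih => rw [pow_succ, pow_succ, F.re.mul _ (pow_mem hg j) _ hg, ih]

omit D in
/-- **Baer-Suzuki, lifted.** -/
theorem exists_inv {f : G} (hf : f ∈ centralizer (R p : Set G)) (hff : f * f = 1) (hf1 : ρ f ≠ 1) :
    ∃ h ∈ centralizer (R p : Set G), Odd (orderOf h) ∧ f * h * f⁻¹ = h⁻¹ ∧ ρ h ≠ 1 := by
  have := hF.finH
  have hrr : ρ f * ρ f = 1 := by rw [← F.re.mul _ hf _ hf, hff, F.re.one]
  obtain ⟨k, hk1, hko, hki⟩ := Cfsg.Agent.Involutions.BaerSuzuki.exists_odd_inverted (ρ f) hrr (by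
    intro h1
    apply hf1
    have h2 := eq_bot_of_normal hF h1
    have h3 : ρ f ∈ (normalClosure {ρ f} : Subgroup H) := subset_normalClosure rfl
    rw [h2] at h3
    exact mem_bot.1 h3)
  -- `k² = k f k⁻¹ f⁻¹`; lift `k`
  obtain ⟨g, hg, rfl⟩ := F.re.surj k
  set d := g * f * g⁻¹ * f⁻¹ with hd
  have hgf : g * f * g⁻¹ ∈ centralizer (R p : Set G) := mul_mem (mul_mem hg hf) (inv_mem hg)
  have hdc : d ∈ centralizer (R p : Set G) := mul_mem hgf (inv_mem hf)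
  have hρd : ρ d = ρ g * ρ g := by
    rw [hd, F.re.mul _ hgf _ (inv_mem hf), F.re.conj hg hf, F.re.inv hf, conj_eq_sq hki]
  have hfi : f⁻¹ = f := inv_eq_of_mul_eq_one_left hff
  have hdi : f * d * f⁻¹ = d⁻¹ := by
    rw [hd]
    simp only [mul_inv_rev, inv_inv, hfi]
    calc f * (g * f * g⁻¹ * f) * f = f * (g * f * g⁻¹) * (f * f) := by group
      _ = f * (g * f * g⁻¹) := by rw [hff, mul_one]
      _ = f * (g * (f * g⁻¹)) := by group
  have hdi' : ∀ j : ℕ, f * d ^ j * f⁻¹ = (d ^ j)⁻¹ := by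
    intro j
    rw [← conj_pow, hdi, inv_pow]
  obtain ⟨a, m, hm, hda⟩ := Nat.exists_eq_two_pow_mul_odd (orderOf_pos d).ne'
  have hord : orderOf (d ^ 2 ^ a) = m := by
    rw [orderOf_pow_of_dvd (pow_ne_zero _ two_ne_zero) (by rw [hda]; exact dvd_mul_right _ _), hda,
      Nat.mul_div_cancel_left _ (pow_pos two_pos a)]
  refine ⟨d ^ 2 ^ a, pow_mem hdc _, by rw [hord]; exact hm, hdi' _, ?_⟩
  intro h1
  rw [rho_pow F hF hdc, hρd, ← pow_two, ← pow_mul, ← pow_succ'] at h1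
  -- `ρ g ^ 2 ^ (a + 1) = 1` and odd order
  have h2 : orderOf (ρ g) ∣ 2 ^ (a + 1) := orderOf_dvd_of_pow_eq_one h1
  have h3 : Nat.Coprime (orderOf (ρ g)) (2 ^ (a + 1)) := Nat.Coprime.pow_right _ (Nat.coprime_two_right.2 hko)
  exact hk1 (orderOf_eq_one_iff.1 (Nat.eq_one_of_dvd_coprimes h3 dvd_rfl h2))

end inv

section moves

variable [Finite G] (D : Geom inc R W V s t)

/-- `h ≠ 1` of odd order, inverted by `f ∈ O₂(C_G(V_l))`, does not normalise `V_l`. -/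
theorem not_norm {f h : G} (hfo : f ∈ o2 (centralizer (V l : Set G))) (ho : Odd (orderOf h))
    (hi : f * h * f⁻¹ = h⁻¹) (h1 : h ≠ 1) : h ∉ normalizer (V l : Set G) := by
  intro hn
  have : Fact (Nat.Prime 2) := ⟨Nat.prime_two⟩
  have hN : normalizer (V l : Set G) ≤ normalizer ((o2 (centralizer (V l : Set G)) : Subgroup G) : Set G) := by
    exact norm_cent.trans (Omega.normalizer_le_normalizer_o2' _)
  have h2 : h * f * h⁻¹ * f⁻¹ ∈ o2 (centralizer (V l : Set G)) :=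
    mul_mem (conj_mem_of_le_normalizer hN hn hfo) (inv_mem hfo)
  rw [conj_eq_sq hi] at h2
  have h3 := mem_of_sq_mem ho h2
  obtain ⟨k, hk⟩ := o2_isPGroup (centralizer (V l : Set G)) ⟨h, h3⟩
  have hk' : h ^ 2 ^ k = 1 := congrArg Subtype.val hk
  have h4 : orderOf h ∣ 2 ^ k := orderOf_dvd_of_pow_eq_one hk'
  have h5 : Nat.Coprime (orderOf h) (2 ^ k) := Nat.Coprime.pow_right _ (Nat.coprime_two_right.2 ho)
  exact h1 (orderOf_eq_one_iff.1 (Nat.eq_one_of_dvd_coprimes h5 dvd_rfl h4))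

include D

theorem smul_l_ne {f h : G} (hfo : f ∈ o2 (centralizer (V l : Set G))) (ho : Odd (orderOf h))
    (hi : f * h * f⁻¹ = h⁻¹) (h1 : h ≠ 1) : h • l ≠ l := by
  intro hl
  refine not_norm hfo ho hi h1 (mem_normalizer_fintype ?_)
  intro a ha
  have := D.V_smul h l a ha
  rwa [hl] at this

/-- `f` moves the point `h x₁`. -/
theorem f_moves {f h : G} (hfo : f ∈ o2 (centralizer (V l : Set G))) (ho : Odd (orderOf h))
    (hi : f * h * f⁻¹ = h⁻¹) (h1 : h ≠ 1) (hp : h ∈ centralizer (R p : Set G)) (hpl : inc p l) {x₁ : X}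
    (hx₁ : inc x₁ l) (hline : ∀ v ∈ V l, ∃ r ∈ R p, ∃ r' ∈ R x₁, v = r * r') : f • h • x₁ ≠ h • x₁ := by
  intro hfx
  have hfx₁ : f • x₁ = x₁ := D.cent_V_le hx₁ (o2_le _ hfo)
  have h2 : (h * f * h⁻¹ * f⁻¹) ∈ MulAction.stabilizer G (h • x₁) := by
    show (h * f * h⁻¹ * f⁻¹) • h • x₁ = h • x₁
    have e : f⁻¹ • h • x₁ = h • x₁ := by rw [inv_smul_eq_iff, hfx]
    rw [mul_smul, e, mul_smul, mul_smul, inv_smul_smul, hfx₁]
  rw [conj_eq_sq hi] at h2
  have h3 : h • h • x₁ = h • x₁ := mem_of_sq_mem ho h2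
  have h4 : h • x₁ = x₁ := smul_left_cancel h h3
  have h5 : h • p = p := Four.fix_p D hp
  refine not_norm hfo ho hi h1 (mem_normalizer_fintype ?_)
  intro a ha
  obtain ⟨r, hr, r', hr', rfl⟩ := hline a ha
  have e : h * (r * r') * h⁻¹ = (h * r * h⁻¹) * (h * r' * h⁻¹) := by group
  rw [e]
  exact mul_mem (D.R_le p l hpl (D.norm_R h5 hr)) (D.R_le x₁ l hx₁ (D.norm_R h4 hr'))

/-- `C(f) ∩ W_{h x₁} ≤ W_{x₁}` -/
theorem mem_of_comm {f h : G} {x₁ : X} (hfx : f ∈ centralizer (W x₁ : Set G)) (ho : Odd (orderOf h))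
    (hi : f * h * f⁻¹ = h⁻¹) {u : G} (hu : u ∈ W (h • x₁)) (hfu : f * u = u * f) : u ∈ W x₁ := by
  have h1 : h⁻¹ * u * h ∈ W x₁ := (D.W_smul_iff h).1 hu
  have h2 : (h * f * h⁻¹) * u = u * (h * f * h⁻¹) := by
    have h3 := mem_centralizer_iff.1 hfx _ h1
    have h4 := cg h h3
    have e1 : h * (h⁻¹ * u * h * f) * h⁻¹ = u * (h * f * h⁻¹) := by group
    have e2 : h * (f * (h⁻¹ * u * h)) * h⁻¹ = h * f * h⁻¹ * u := by group
    rw [e1, e2] at h4
    exact h4.symm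
  have h3 : h * h ∈ centralizer ({u} : Set G) := by
    rw [← conj_eq_sq hi]
    refine mul_mem ?_ (inv_mem ?_)
    · rw [mem_centralizer_singleton_iff]; exact h2
    · rw [mem_centralizer_singleton_iff]; exact hfu
  have h4 := mem_of_sq_mem ho h3
  rw [mem_centralizer_singleton_iff] at h4
  have e : h⁻¹ * u * h = u := by rw [mul_assoc, ← h4]; group
  rwa [e] at h1

end moves

/-- **Movers.** -/
theorem exists_mover [Finite G] {Sy : Subgroup G} {ζ : K →* G} (D : Geom inc R W V s t)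
    (F : RD inc R W V p l Sy ρ π ζ T lam U Kh) {f : G} (hff : f * f = 1)
    (hfo : f ∈ o2 (centralizer (V l : Set G))) (hf1 : ρ f ≠ 1) :
    ∃ h ∈ centralizer (R p : Set G), Odd (orderOf h) ∧ f * h * f⁻¹ = h⁻¹ ∧ ρ h ≠ 1 ∧ h • l ≠ l ∧
      (∀ x₁, inc x₁ l → x₁ ≠ p → f • h • x₁ ≠ h • x₁) ∧
      ∀ x₁, inc x₁ l → f ∈ centralizer (W x₁ : Set G) → ∀ u ∈ W (h • x₁), f * u = u * f → u ∈ W x₁ := by
  have hfp : f ∈ centralizer (R p : Set G) := RF.cent_V_le D F.toRF (o2_le _ hfo)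
  obtain ⟨h, hh, ho, hi, hne⟩ := exists_inv F.toRF F.flag hfp hff hf1
  have h1 : h ≠ 1 := by
    rintro rfl
    exact hne F.re.one
  exact ⟨h, hh, ho, hi, hne, smul_l_ne D hfo ho hi h1,
    fun x₁ hx₁ hx₁p => f_moves D hfo ho hi h1 hh F.pl hx₁ (F.line x₁ hx₁ hx₁p),
    fun x₁ _ hfx u hu hfu => mem_of_comm D hfx ho hi hu hfu⟩

/-- For critical pairs: `f ∈ W_q`, `l` the first line of a walk from `p` to `q`, `x₁` its second point. -/
theorem exists_mover_crit [Finite G] {Sy : Subgroup G} {ζ : K →* G} (D : Geom inc R W V s t)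
    (F : RD inc R W V p l Sy ρ π ζ T lam U Kh) {q x₁ : X} (hc : Crit inc W n p q) (hn : 1 ≤ n) (hx₁ : inc x₁ l)
    (hw : Walk inc (n - 1) x₁ q) {f : G} (hf : f ∈ W q) (hf1 : ρ f ≠ 1) :
    ∃ h ∈ centralizer (R p : Set G), Odd (orderOf h) ∧ f * h * f⁻¹ = h⁻¹ ∧ ρ h ≠ 1 ∧ h • l ≠ l ∧
      f • h • x₁ ≠ h • x₁ ∧ ∀ u ∈ W (h • x₁), f * u = u * f → u ∈ W x₁ := by
  have hx₁p : x₁ ≠ p := by
    rintro rfl
    exact hc.not_walk (by omega) hw
  have hcom : Com W q x₁ := hc.min (n - 1) (by omega) _ _ hw.symm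
  have hfo : f ∈ o2 (centralizer (V l : Set G)) := D.low_line hc.min hw.symm (by omega) hcom hx₁ hf
  obtain ⟨h, hh, ho, hi, hne, hl, hm, hu⟩ := exists_mover D F (D.sq q f hf) hfo hf1
  refine ⟨h, hh, ho, hi, hne, hl, hm x₁ hx₁ hx₁p, hu x₁ hx₁ ?_⟩
  rw [mem_centralizer_iff]
  exact fun w hw' => (hcom f hf w hw').symm

end Cfsg.Agent.Omega.NO3S.FarQ.Free

end

end
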