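import Cfsg.Agent.Omega.NO3S.PointTI
import Cfsg.Agent.Mrg.Omega.NO3S.FarQ.Abs
import Cfsg.Agent.Mrg.Omega.NO3S.FarQ.Glue
import Cfsg.Agent.Mrg.Omega.NOThree.Pts
import Cfsg.Agent.Mrg.Omega.NoFF.ThmJ
import Cfsg.Agent.MinSimple.CosetFam

-- merged: Cfsg.Agent.Omega.NO3S.FarQ.Theta
section

/-!
# The product of the `T`-conjugates of an element of a block

`exists_theta` : `θ ∈ J`, the `T`-conjugates of `J` commute pairwise, `[θ, N_T(J)] ≤ T ∩ J`: some `θ'` in the product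
of the other `T`-conjugates of `J` has `[θ θ', T] ≤ ∏ (T ∩ J ^ s)`.
-/

set_option autoImplicit false

namespace Cfsg.Agent.Omega.NO3S.FarQ.Theta

open Subgroup Cfsg.Agent.Omega.NO3S.PT
open scoped Pointwise

variable {H : Type*} [Group H]

theorem noncommProd_equiv {ι : Type*} [Fintype ι] (f g : ι → H) (e : ι ≃ ι) (h : ∀ i, f i = g (e i))
    (hf : ((Finset.univ : Finset ι) : Set ι).Pairwise (Function.onFun Commute f))
    (hg : ((Finset.univ : Finset ι) : Set ι).Pairwise (Function.onFun Commute g)) :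
    Finset.univ.noncommProd f hf = Finset.univ.noncommProd g hg := by
  have h1 : Multiset.map f (Finset.univ : Finset ι).val = Multiset.map g (Finset.univ : Finset ι).val := by
    have h2 : Multiset.map g (Finset.univ : Finset ι).val =
        Multiset.map g (Multiset.map e (Finset.univ : Finset ι).val) := by
      rw [Multiset.map_univ_val_equiv e]
    rw [h2, Multiset.map_map]
    exact Multiset.map_congr rfl fun i _ => h i
  unfold Finset.noncommProd
  congr 1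

theorem exists_theta [Finite H] {T J : Subgroup H} {θ : H} (hθ : θ ∈ J)
    (hc : ∀ s ∈ T, ∀ t ∈ T, cj s J ≠ cj t J → ∀ x ∈ cj s J, ∀ y ∈ cj t J, x * y = y * x)
    (hT : ∀ t ∈ T, cj t J = J → t * θ * t⁻¹ * θ⁻¹ ∈ T ⊓ J) :
    ∃ θ' ∈ closure {x : H | ∃ t ∈ T, cj t J ≠ J ∧ x ∈ cj t J},
      ∀ t ∈ T, t * (θ * θ') * t⁻¹ * (θ * θ')⁻¹ ∈ closure {x : H | ∃ s ∈ T, x ∈ T ⊓ cj s J} := by
  classical
  let ι := {K : Subgroup H // ∃ t ∈ T, K = cj t J}
  have : Finite ι := by infer_instance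
  have : Fintype ι := Fintype.ofFinite ι
  let j₀ : ι := ⟨J, 1, T.one_mem, (cj_one J).symm⟩
  have hr : ∀ K : ι, ∃ t ∈ T, K.1 = cj t J ∧ (K = j₀ → t = 1) := by
    intro K
    by_cases hK : K = j₀
    · exact ⟨1, T.one_mem, by rw [cj_one, hK], fun _ => rfl⟩
    · obtain ⟨t, ht, hK'⟩ := K.2
      exact ⟨t, ht, hK', fun h => absurd h hK⟩
  choose r hr1 hr2 hr3 using hr
  let f : ι → H := fun K => r K * θ * (r K)⁻¹
  have hf : ∀ K, f K ∈ K.1 := by
    intro K
    rw [hr2 K]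
    exact conj_mem_cj hθ
  have hcomm : ∀ K K' : ι, K ≠ K' → ∀ x ∈ K.1, ∀ y ∈ K'.1, Commute x y := by
    intro K K' hne x hx y hy
    rw [hr2 K] at hx
    rw [hr2 K'] at hy
    refine hc _ (hr1 K) _ (hr1 K') (fun e => hne ?_) x hx y hy
    exact Subtype.ext (by rw [hr2 K, hr2 K', e])
  have hff : ((Finset.univ : Finset ι) : Set ι).Pairwise (Function.onFun Commute f) :=
    fun K _ K' _ hne => hcomm K K' hne _ (hf K) _ (hf K')
  -- the action of `T`
  have hσ : ∀ t ∈ T, ∃ σ : ι ≃ ι, ∀ K, (σ K).1 = cj t K.1 := by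
    intro t ht
    have h1 : ∀ s ∈ T, ∀ K : ι, ∃ u ∈ T, cj s K.1 = cj u J := by
      intro s hs K
      refine ⟨s * r K, T.mul_mem hs (hr1 K), ?_⟩
      rw [← cj_cj, ← hr2 K]
    refine ⟨⟨fun K => ⟨cj t K.1, h1 t ht K⟩, fun K => ⟨cj t⁻¹ K.1, h1 _ (T.inv_mem ht) K⟩, ?_, ?_⟩,
      fun K => rfl⟩
    · intro K
      refine Subtype.ext ?_
      show cj t⁻¹ (cj t K.1) = K.1
      rw [cj_cj, inv_mul_cancel, cj_one]
    · intro K
      refine Subtype.ext ?_
      show cj t (cj t⁻¹ K.1) = K.1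
      rw [cj_cj, mul_inv_cancel, cj_one]
  have hmain : f j₀ * (Finset.univ.erase j₀).noncommProd f
      (fun _ hx _ hy hxy ↦ hff (Finset.mem_of_mem_erase hx) (Finset.mem_of_mem_erase hy) hxy) =
      Finset.univ.noncommProd f hff :=
    Finset.mul_noncommProd_erase Finset.univ (Finset.mem_univ j₀) f hff
  have hf0 : f j₀ = θ := by
    show r j₀ * θ * (r j₀)⁻¹ = θ
    rw [hr3 j₀ rfl]; group
  rw [hf0] at hmain
  refine ⟨(Finset.univ.erase j₀).noncommProd f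
      (fun _ hx _ hy hxy ↦ hff (Finset.mem_of_mem_erase hx) (Finset.mem_of_mem_erase hy) hxy),
      ?_, fun t ht => ?_⟩
  · exact noncommProd_mem (K := closure {x : H | ∃ t ∈ T, cj t J ≠ J ∧ x ∈ cj t J})
      (fun _ hx _ hy hxy ↦ hff (Finset.mem_of_mem_erase hx) (Finset.mem_of_mem_erase hy) hxy) fun K hK => by
        refine subset_closure ⟨r K, hr1 K, ?_, ?_⟩
        · intro e
          refine Finset.ne_of_mem_erase hK (Subtype.ext ?_)
          rw [hr2 K, e]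
        · rw [← hr2 K]; exact hf K
  · rw [hmain]
    obtain ⟨σ, hσ⟩ := hσ t ht
    -- `t (f K) t⁻¹ ∈ (T ∩ σ K) f (σ K)`
    have key : ∀ K, t * f K * t⁻¹ * (f (σ K))⁻¹ ∈ T ⊓ (σ K).1 := by
      intro K
      set u : H := (r (σ K))⁻¹ * t * r K with hu
      have huT : u ∈ T := T.mul_mem (T.mul_mem (T.inv_mem (hr1 _)) ht) (hr1 K)
      have huJ : cj u J = J := by
        rw [hu, ← cj_cj, ← cj_cj, ← hr2 K, ← hσ K, hr2 (σ K), cj_cj, inv_mul_cancel, cj_one]
      have h1 := hT u huT huJ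
      have e : t * f K * t⁻¹ * (f (σ K))⁻¹ = r (σ K) * (u * θ * u⁻¹ * θ⁻¹) * (r (σ K))⁻¹ := by
        show t * (r K * θ * (r K)⁻¹) * t⁻¹ * (r (σ K) * θ * (r (σ K))⁻¹)⁻¹ = _
        rw [hu]; group
      rw [e]
      refine ⟨T.mul_mem (T.mul_mem (hr1 _) h1.1) (T.inv_mem (hr1 _)), ?_⟩
      have h2 : r (σ K) * (u * θ * u⁻¹ * θ⁻¹) * (r (σ K))⁻¹ ∈ cj (r (σ K)) J := conj_mem_cj h1.2
      rw [← hr2 (σ K)] at h2
      exact h2
    let c : ι → H := fun K => t * f (σ.symm K) * t⁻¹ * (f K)⁻¹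
    have hcm : ∀ K, c K ∈ T ⊓ K.1 := by
      intro K
      have := key (σ.symm K)
      rw [σ.apply_symm_apply] at this
      exact this
    have hcc : ((Finset.univ : Finset ι) : Set ι).Pairwise (Function.onFun Commute c) :=
      fun K _ K' _ hne => hcomm K K' hne _ (hcm K).2 _ (hcm K').2
    have hgf : ((Finset.univ : Finset ι) : Set ι).Pairwise fun x y => Commute (f x) (c y) :=
      fun K _ K' _ hne => hcomm K K' hne _ (hf K) _ (hcm K').2
    have e1 := Finset.map_noncommProd Finset.univ f hff (MulAut.conj t)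
    have e2 : Finset.univ.noncommProd (fun K => MulAut.conj t (f K))
        (fun _ hx _ hy _ => (hff.of_refl hx hy).map (MulAut.conj t)) =
        Finset.univ.noncommProd (c * f) (Finset.noncommProd_mul_distrib_aux hcc hff hgf) := by
      refine noncommProd_equiv _ _ σ (fun K => ?_) _ _
      show t * f K * t⁻¹ = (t * f (σ.symm (σ K)) * t⁻¹ * (f (σ K))⁻¹) * f (σ K)
      rw [σ.symm_apply_apply]
      group
    rw [e2, Finset.noncommProd_mul_distrib c f hcc hff hgf] at e1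
    have e3 : t * Finset.univ.noncommProd f hff * t⁻¹ = Finset.univ.noncommProd c hcc *
      Finset.univ.noncommProd f hff := e1
    rw [e3, mul_inv_cancel_right]
    exact noncommProd_mem (K := closure {x : H | ∃ s ∈ T, x ∈ T ⊓ cj s J}) hcc fun K _ =>
      subset_closure ⟨r K, hr1 K, by rw [← hr2 K]; exact hcm K⟩

end Cfsg.Agent.Omega.NO3S.FarQ.Theta

end

-- merged: Cfsg.Agent.Mrg.Omega.NO3S.FarQ.FOneAbs
section

/-!
# (F1) for `q ≥ 4`, abstract part (bb OMEGA #15867, proof with UNIQ)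

`H` acts on `W = W_p` and on `M = W_p / R`, `R = p` (in the situation `¬ (F1)`: `K_p = C_G(W_p)`).

* `Dat T V R π` : the K-free data;
* `KDat T A J lam Pi` : the K-input for one exact offender `A` and one block `J` (fields of `PSq`, and `pf`, `cent`);
* `false_of` : the contradiction.
-/

set_option autoImplicit false

namespace Cfsg.Agent.Omega.NO3S.FarQ.FOneAbs

open Subgroup Cfsg.Agent.ZN Cfsg.Agent.Omega.NO3S.PT Cfsg.Agent.Omega.NO3S.FarQ
open Cfsg.Agent.ClassTwoFusion.Quad (cv mem_cv cv_anti)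
open scoped Pointwise

variable {H W M : Type*} [Group H] [CommGroup W] [MulDistribMulAction H W] [CommGroup M]
  [MulDistribMulAction H M]

/-- The K-free data. -/
structure Dat (T : Subgroup H) (V R : Subgroup W) (π : W →* M) : Prop where
  finH : Finite H
  ker : ∀ w, π w = 1 ↔ w ∈ R
  equi : ∀ (h : H) (w : W), π (h • w) = h • π w
  fixR : ∀ (h : H), ∀ r ∈ R, h • r = r
  act : ∀ t ∈ T, ∀ v ∈ V, (t • v) * v⁻¹ ∈ R
  RV : R ≤ V
  free : ∀ t ∈ T, ∀ v ∈ V, v ∉ R → t • v = v → ∀ u ∈ V, t • u = u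
  ne : ∃ t ∈ T, ∃ v ∈ V, t • v ≠ v
  /-- from UNIQ: `N_G(S) ≤ N_G(V)` -/
  norm : ∀ h ∈ normalizer (T : Set H), ∀ v ∈ V, h • v ∈ V

/-- The K-input for one exact offender `A` and one block `J`. -/
structure KDat (T A J : Subgroup H) (lam : Subgroup M) (Pi : Set (Subgroup H)) : Prop where
  mem : J ∈ Pi
  conj : ∀ J ∈ Pi, ∀ h : H, cj h J ∈ Pi
  comm : ∀ J ∈ Pi, ∀ J' ∈ Pi, J ≠ J' → ∀ x ∈ J, ∀ y ∈ J', x * y = y * x
  em_le : ∀ J ∈ Pi, ∀ J' ∈ Pi, J ≠ J' → em M J ≤ zm M J'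
  pf : J ≤ ⁅J, J⁆
  tor : ∃ θ ∈ J, (∀ t ∈ T, cj t J = J → t * θ * t⁻¹ * θ⁻¹ ∈ T ⊓ J) ∧
    ∀ a ∈ lam, (θ • a) * a⁻¹ ∈ zm M J → a = 1
  prod : A ≤ closure {x | ∃ J ∈ Pi, x ∈ A ⊓ J}
  cent : T ⊓ J ≤ A ∨ ∃ C ≤ J, T ⊓ J ≤ ⁅C, C⁆ ∧
    ∀ m ∈ em M J, (∀ t ∈ T ⊓ J, t • m = m) → ∀ c ∈ C, (c • m) * m⁻¹ ∈ zm M J

/-- If `C` centralises `Y` and `[w, C] ≤ Y`, then `C'` centralises `w`. -/
theorem commutator_le_stabilizer {C : Subgroup H} {w : W} {Y : Subgroup W} (hY : ∀ c ∈ C, ∀ y ∈ Y, c • y = y)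
    (h : ∀ c ∈ C, (c • w) * w⁻¹ ∈ Y) : ⁅C, C⁆ ≤ MulAction.stabilizer H w := by
  have key : ∀ c ∈ C, ∀ d ∈ C, (c * d) • w = (d * c) • w := by
    have h1 : ∀ c ∈ C, ∀ d ∈ C, (c * d) • w = ((d • w) * w⁻¹) * (c • w) := by
      intro c hc d hd
      have e : d • w = ((d • w) * w⁻¹) * w := by group
      rw [mul_smul]
      nth_rewrite 1 [e]
      rw [smul_mul', hY c hc _ (h d hd)]
    intro c hc d hd
    rw [h1 c hc d hd, h1 d hd c hc, mul_right_comm, mul_right_comm (c • w), mul_comm (d • w)]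
  rw [commutator_le]
  intro c hc d hd
  rw [MulAction.mem_stabilizer_iff, commutatorElement_def]
  have e1 : (c * d * c⁻¹ * d⁻¹) • w = (c * d) • ((c⁻¹ * d⁻¹) • w) := by rw [← mul_smul]; congr 1; group
  rw [e1, key c⁻¹ (C.inv_mem hc) d⁻¹ (C.inv_mem hd), ← mul_smul]
  have e2 : c * d * (d⁻¹ * c⁻¹) = 1 := by group
  rw [e2, one_smul]

/-- `{h : [M, h] ≤ N}` -/
def kk (N : Subgroup M) : Subgroup H where
  carrier := {h | ∀ m : M, (h • m) * m⁻¹ ∈ N}
  one_mem' := fun m => by rw [one_smul, mul_inv_cancel]; exact one_mem _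
  mul_mem' := by
    intro a b ha hb m
    have e : ((a * b) • m) * m⁻¹ = ((a • (b • m)) * (b • m)⁻¹) * ((b • m) * m⁻¹) := by
      rw [mul_smul]; group
    rw [e]
    exact mul_mem (ha _) (hb _)
  inv_mem' := by
    intro a ha m
    have h1 := N.inv_mem (ha (a⁻¹ • m))
    rw [smul_inv_smul, mul_inv_rev, inv_inv] at h1
    exact h1

theorem mem_kk {N : Subgroup M} {h : H} : h ∈ kk N ↔ ∀ m : M, (h • m) * m⁻¹ ∈ N := Iff.rfl

theorem comm_mem_em {J : Subgroup H} {j : H} (hj : j ∈ J) (m : M) : (j • m) * m⁻¹ ∈ em M J :=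
  subset_closure ⟨j, hj, m, mem_top m, rfl⟩

namespace Dat

variable {T A J : Subgroup H} {V R : Subgroup W} {π : W →* M} {Pi : Set (Subgroup H)}
variable (D : Dat T V R π) (K : KDat T A J (V.map π) Pi)

include D

/-- a perfect `J` centralises the preimage of `C_M(J)` -/
theorem fix_of_zm {J : Subgroup H} (pf : J ≤ ⁅J, J⁆) {w : W} (hw : π w ∈ zm M J) {j : H} (hj : j ∈ J) :
    j • w = w := by
  refine (pf.trans (commutator_le_stabilizer (Y := R) (fun c _ y hy => D.fixR c y hy) fun c hc => ?_)) hj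
  rw [← D.ker, map_mul, map_inv, D.equi, mem_cv.1 hw c hc, mul_inv_cancel]

theorem em_map {J : Subgroup H} {w : W} (hw : w ∈ em W J) : π w ∈ em M J := by
  have h1 : em W J ≤ (em M J).comap π := by
    rw [em, cm, closure_le]
    rintro _ ⟨j, hj, m, -, rfl⟩
    show π ((j • m) * m⁻¹) ∈ em M J
    rw [map_mul, map_inv, D.equi]
    exact comm_mem_em hj _
  exact h1 hw

theorem smul_mem {t : H} (ht : t ∈ T) {v : W} (hv : v ∈ V) : t • v ∈ V := by
  have h1 := V.mul_mem (D.RV (D.act t ht v hv)) hv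
  rwa [inv_mul_cancel_right] at h1

include K

/-- `T ∩ J` centralises the elements of `[W, J]` which it centralises modulo `R`. -/
theorem claim (hAT : A ≤ T) (hex : ∀ w : W, (∀ a ∈ A, a • π w = π w) → ∀ a ∈ A, a • w = w) {u : W}
    (hu : u ∈ em W J) (huR : ∀ t ∈ T ⊓ J, (t • u) * u⁻¹ ∈ R) : ∀ t ∈ T ⊓ J, t • u = u := by
  have hπ : ∀ t ∈ T ⊓ J, t • π u = π u := by
    intro t ht
    have h1 := (D.ker _).2 (huR t ht)
    rwa [map_mul, map_inv, D.equi, mul_inv_eq_one] at h1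
  rcases K.cent with h | ⟨C, hC, hTC, hm⟩
  · have h1 : A ≤ MulAction.stabilizer H (π u) := by
      refine K.prod.trans ?_
      rw [closure_le]
      rintro x ⟨J', hJ', hx, hxJ⟩
      show x • π u = π u
      by_cases e : J' = J
      · rw [e] at hxJ
        exact hπ x ⟨hAT hx, hxJ⟩
      · exact mem_cv.1 (K.em_le J K.mem J' hJ' (Ne.symm e) (D.em_map hu)) x hxJ
    intro t ht
    exact hex u (fun a ha => h1 ha) t (h ht)
  · intro t ht
    refine commutator_le_stabilizer (Y := cv W (J : Set H)) (fun c hc y hy => mem_cv.1 hy c (hC hc))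
      (fun c hc => ?_) (hTC ht)
    rw [mem_cv]
    intro j hj
    refine D.fix_of_zm K.pf ?_ hj
    rw [map_mul, map_inv, D.equi]
    exact hm (π u) (D.em_map hu) hπ c hc

/-- **(F1) for `q ≥ 4`, the abstract contradiction.** -/
theorem false_of (hAT : A ≤ T) (hex : ∀ w : W, (∀ a ∈ A, a • π w = π w) → ∀ a ∈ A, a • w = w) : False := by
  have := D.finH
  obtain ⟨θ, hθ, hθT, hθl⟩ := K.tor
  obtain ⟨θ', hθ', hcomm⟩ := Theta.exists_theta hθ (fun s _ t _ hne x hx y hy =>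
    K.comm _ (K.conj J K.mem s) _ (K.conj J K.mem t) hne x hx y hy) hθT
  set T₀ : Subgroup H := closure {x : H | ∃ s ∈ T, x ∈ T ⊓ cj s J} with hT₀
  set Θ : H := θ * θ' with hΘ
  have hT₀T : T₀ ≤ T := by
    rw [hT₀, closure_le]
    rintro x ⟨s, -, hx⟩
    exact hx.1
  -- `Θ` normalises `T`
  have hΘN : Θ ∈ normalizer (T : Set H) := by
    have h1 : cj Θ T ≤ T := by
      intro x hx
      have hx' : Θ⁻¹ * x * Θ ∈ T := mem_cj.1 hx
      have h2 := hT₀T (hcomm _ (T.inv_mem hx'))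
      have h3 := T.mul_mem hx' h2
      have e : Θ⁻¹ * x * Θ * ((Θ⁻¹ * x * Θ)⁻¹ * Θ * (Θ⁻¹ * x * Θ)⁻¹⁻¹ * Θ⁻¹) = x := by group
      rwa [e] at h3
    exact cj_eq_iff.1 (eq_of_le_of_card_ge h1 (card_cj Θ T).ge)
  -- `θ'` is trivial modulo `C_M(J)`
  have hθ'k : θ' ∈ (kk (zm M J) : Subgroup H) := by
    have h1 : closure {x : H | ∃ t ∈ T, cj t J ≠ J ∧ x ∈ cj t J} ≤ kk (zm M J) := by
      rw [closure_le]
      rintro x ⟨t, -, hne, hx⟩
      exact fun m => K.em_le _ (K.conj J K.mem t) J K.mem hne (comm_mem_em hx m)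
    exact h1 hθ'
  have hV : ∀ v ∈ V, Θ • v ∈ V := D.norm Θ hΘN
  -- `Θ` has no fixed point on `V / R`
  have hfree : ∀ v ∈ V, (Θ • v) * v⁻¹ ∈ R → v ∈ R := by
    intro v hv hvR
    have h1 : Θ • π v = π v := by
      have := (D.ker _).2 hvR
      rwa [map_mul, map_inv, D.equi, mul_inv_eq_one] at this
    rw [← D.ker]
    refine hθl _ (mem_map_of_mem π hv) ?_
    have h2 : (θ' • π v) * (π v)⁻¹ ∈ zm M J := hθ'k (π v)
    set z := (θ' • π v) * (π v)⁻¹ with hz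
    have e : θ' • π v = z * π v := by rw [hz, inv_mul_cancel_right]
    rw [hΘ, mul_smul, e, smul_mul', mem_cv.1 h2 θ hθ] at h1
    have e2 : (θ • π v) * (π v)⁻¹ = z⁻¹ := by
      rw [mul_inv_eq_iff_eq_mul, eq_inv_mul_iff_mul_eq]
      exact h1
    rw [e2]
    exact inv_mem h2
  -- `T ∩ J` centralises `[V, Θ]`
  have hTJ : ∀ v ∈ V, ∀ t ∈ T ⊓ J, t • ((Θ • v) * v⁻¹) = (Θ • v) * v⁻¹ := by
    intro v hv t ht
    have huV : (Θ • v) * v⁻¹ ∈ V := V.mul_mem (hV v hv) (V.inv_mem hv)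
    have e : (Θ • v) * v⁻¹ = ((θ • (θ' • v)) * (θ' • v)⁻¹) * ((θ' • v) * v⁻¹) := by
      rw [hΘ, mul_smul]; group
    set a := (θ • (θ' • v)) * (θ' • v)⁻¹ with ha
    set b := (θ' • v) * v⁻¹ with hb
    have haJ : a ∈ em W J := comm_mem_em hθ _
    have hbJ : ∀ j ∈ J, j • b = b := by
      intro j hj
      refine D.fix_of_zm K.pf ?_ hj
      rw [hb, map_mul, map_inv, D.equi]
      exact hθ'k (π v)
    have h1 : ∀ t ∈ T ⊓ J, t • a = a := by
      refine D.claim K hAT hex haJ fun s hs => ?_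
      have h2 := D.act s hs.1 _ huV
      have h3 : (s • ((Θ • v) * v⁻¹)) * ((Θ • v) * v⁻¹)⁻¹ = (s • a) * a⁻¹ := by
        rw [e, smul_mul', hbJ s hs.2]
        rw [mul_inv_rev, mul_assoc, mul_inv_cancel_left]
      rwa [h3] at h2
    rw [e, smul_mul', hbJ t ht.2, h1 t ht]
  -- an element `u = [v, Θ]` not in `R`
  obtain ⟨t₀, ht₀, v, hv, htv⟩ := D.ne
  have hvR : v ∉ R := fun h => htv (D.fixR t₀ v h)
  set u := (Θ • v) * v⁻¹ with hu
  have huV : u ∈ V := V.mul_mem (hV v hv) (V.inv_mem hv)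
  have huR : u ∉ R := fun h => hvR (hfree v hv h)
  have hTJV : ∀ t ∈ T ⊓ J, ∀ x ∈ V, t • x = x := fun t ht =>
    D.free t ht.1 u huV huR (hTJ v hv t ht)
  -- `T₀` centralises `V`
  have hT₀V : T₀ ≤ (fixer V : Subgroup H) := by
    rw [hT₀, closure_le]
    rintro x ⟨s, hs, hxT, hxJ⟩
    intro y hy
    have h1 : s⁻¹ * x * s ∈ T ⊓ J := ⟨T.mul_mem (T.mul_mem (T.inv_mem hs) hxT) hs, mem_cj.1 hxJ⟩
    have h2 := hTJV _ h1 _ (D.smul_mem (T.inv_mem hs) hy)
    have h3 := congrArg (fun w => s • w) h2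
    simp only [smul_inv_smul] at h3
    rw [← mul_smul, ← mul_smul] at h3
    have e : s * (s⁻¹ * x * s) * s⁻¹ = x := by group
    rwa [e] at h3
  -- so `T` centralises `u`
  have hfin : ∀ t ∈ T, t • u = u := by
    intro t ht
    have h1 : (t * Θ * t⁻¹ * Θ⁻¹ * (Θ * t)) • v = (Θ * t) • v := by
      rw [mul_smul _ (Θ * t), mul_smul Θ t]
      exact hT₀V (hcomm t ht) (Θ • (t • v)) (hV _ (D.smul_mem ht hv))
    have e : t * Θ * t⁻¹ * Θ⁻¹ * (Θ * t) = t * Θ := by group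
    rw [e] at h1
    have h2 : t • (Θ • v) = Θ • (t • v) := by
      rw [← mul_smul, ← mul_smul]
      exact h1
    set ρ := (t • v) * v⁻¹ with hρ
    have hρR : ρ ∈ R := D.act t ht v hv
    have e3 : t • v = ρ * v := by rw [hρ, inv_mul_cancel_right]
    rw [hu, smul_mul', smul_inv', h2, e3, smul_mul', D.fixR Θ ρ hρR, mul_inv_rev]
    calc ρ * Θ • v * (v⁻¹ * ρ⁻¹) = (ρ * ρ⁻¹) * (Θ • v * v⁻¹) := by
          rw [mul_comm v⁻¹, ← mul_assoc, mul_assoc ρ, mul_comm (Θ • v), ← mul_assoc, mul_assoc]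
      _ = Θ • v * v⁻¹ := by rw [mul_inv_cancel, one_mul]
  exact htv (D.free t₀ ht₀ u huV huR (hfin t₀ ht₀) v hv)

end Dat

end Cfsg.Agent.Omega.NO3S.FarQ.FOneAbs

end

-- merged: Cfsg.Agent.Mrg.Omega.NO3S.FarQ.Real
section

section


/-!
# NO-3S, `q ≥ 4`: the instance of `RD` (helper263 #15995, helper238)

* `exists_mod` : `C` acts on `W / R` by conjugation;
* `exists_rd` : `PL S P V Z`, (F1), (T6), `N_G(S) ≤ N_G(V)` and `|Z| ≥ 4` give `RD` at the base flag `(Z, V)`;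
* `exists_rd_flag` : all the flags are realised by the same `H`, `M`.
-/

set_option autoImplicit false
set_option linter.unusedSectionVars false

namespace Cfsg.Agent.Omega.NO3S.FarQ

open Subgroup Cfsg Cfsg.Agent.ZN Cfsg.Agent.MinSimple.VModule Cfsg.Agent.Omega.NOThree.Pts
open Cfsg.Agent.Omega.NO3S.FarQ.Glue Cfsg.Agent.Omega.NO3S.PT Cfsg.Agent.Omega.NO3S.PtGeom
open scoped Pointwise

universe u

variable {G : Type u} [Group G]

theorem exists_mod {C W R : Subgroup G} (hCW : ∀ c ∈ C, ∀ w ∈ W, c * w * c⁻¹ ∈ W)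
    (hCR : ∀ c ∈ C, ∀ w ∈ R, c * w * c⁻¹ ∈ R) (hWc : ∀ a ∈ W, ∀ b ∈ W, a * b = b * a) :
    ∃ (H M : Type u) (_ : Group H) (_ : CommGroup M) (_ : MulDistribMulAction H M) (ρ : G → H) (π : G → M),
      (∀ a ∈ C, ∀ b ∈ C, ρ (a * b) = ρ a * ρ b) ∧ (∀ h, ∃ a ∈ C, ρ a = h) ∧
      (∀ a ∈ C, ρ a = 1 ↔ ∀ w ∈ W, a * w * a⁻¹ * w⁻¹ ∈ R) ∧
      (∀ a ∈ W, ∀ b ∈ W, π (a * b) = π a * π b) ∧ (∀ m, ∃ a ∈ W, π a = m) ∧ (∀ a ∈ W, π a = 1 ↔ a ∈ R) ∧
      (∀ g ∈ C, ∀ w ∈ W, π (g * w * g⁻¹) = ρ g • π w) := by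
  classical
  let _ : CommGroup W := { (inferInstance : Group W) with mul_comm := fun a b => Subtype.ext (hWc a a.2 b b.2) }
  let R' : Subgroup W := R.subgroupOf W
  let α : C → (W →* W) := fun c =>
    { toFun := fun w => ⟨(c : G) * w * (c : G)⁻¹, hCW c c.2 w w.2⟩
      map_one' := Subtype.ext (by
        show (c : G) * (1 : G) * (c : G)⁻¹ = 1
        group)
      map_mul' := fun a b => Subtype.ext (by
        show (c : G) * ((a : G) * b) * (c : G)⁻¹ = (c : G) * a * (c : G)⁻¹ * ((c : G) * b * (c : G)⁻¹)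
        group) }
  have hα : ∀ c : C, R' ≤ R'.comap (α c) := by
    intro c w hw
    exact mem_subgroupOf.2 (hCR c c.2 w (mem_subgroupOf.1 hw))
  let act : MulDistribMulAction C (W ⧸ R') :=
    { smul := fun c m => QuotientGroup.map R' R' (α c) (hα c) m
      one_smul := fun m => by
        induction m using QuotientGroup.induction_on with
        | H w =>
          change (QuotientGroup.mk (α 1 w) : W ⧸ R') = QuotientGroup.mk w
          congr 1
          refine Subtype.ext ?_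
          show (1 : G) * w * (1 : G)⁻¹ = w
          group
      mul_smul := fun c d m => by
        induction m using QuotientGroup.induction_on with
        | H w =>
          change (QuotientGroup.mk (α (c * d) w) : W ⧸ R') = QuotientGroup.mk (α c (α d w))
          congr 1
          refine Subtype.ext ?_
          show (c : G) * d * w * ((c : G) * d)⁻¹ = (c : G) * ((d : G) * w * (d : G)⁻¹) * (c : G)⁻¹
          group
      smul_one := fun c => map_one _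
      smul_mul := fun c m n => map_mul _ m n }
  let β : C →* MulAut (W ⧸ R') := MulDistribMulAction.toMulAut C (W ⧸ R')
  let ρ : G → β.range := fun g => if hg : g ∈ C then β.rangeRestrict ⟨g, hg⟩ else 1
  let π : G → W ⧸ R' := fun w => if hw : w ∈ W then QuotientGroup.mk ⟨w, hw⟩ else 1
  have hρ : ∀ g (hg : g ∈ C), ρ g = β.rangeRestrict ⟨g, hg⟩ := fun g hg => dif_pos hg
  have hπ : ∀ w (hw : w ∈ W), π w = QuotientGroup.mk ⟨w, hw⟩ := fun w hw => dif_pos hw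
  have hact : ∀ g ∈ C, ∀ w ∈ W, π (g * w * g⁻¹) = ρ g • π w := by
    intro g hg w hw
    rw [hρ g hg, hπ w hw, hπ _ (hCW g hg w hw)]
    rfl
  have hπker : ∀ a ∈ W, π a = 1 ↔ a ∈ R := by
    intro a ha
    rw [hπ a ha, QuotientGroup.eq_one_iff]
    exact mem_subgroupOf
  have hπmul : ∀ a ∈ W, ∀ b ∈ W, π (a * b) = π a * π b := by
    intro a ha b hb
    rw [hπ a ha, hπ b hb, hπ _ (mul_mem ha hb)]
    rfl
  have hπsurj : ∀ m, ∃ a ∈ W, π a = m := by
    intro m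
    induction m using QuotientGroup.induction_on with
    | H w => exact ⟨w, w.2, hπ w w.2⟩
  refine ⟨β.range, W ⧸ R', inferInstance, inferInstance, inferInstance, ρ, π, ?_, ?_, ?_, hπmul, hπsurj, hπker, hact⟩
  · intro a ha b hb
    rw [hρ a ha, hρ b hb, hρ _ (mul_mem ha hb), ← map_mul]
    rfl
  · intro h
    obtain ⟨⟨c, hc⟩, hc'⟩ := β.rangeRestrict_surjective h
    exact ⟨c, hc, by rw [hρ c hc, hc']⟩
  · intro a ha
    have h1 : ρ a = 1 ↔ ∀ m : W ⧸ R', ρ a • m = m := by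
      constructor
      · intro h m
        rw [h, one_smul]
      · intro h
        refine Subtype.ext (MulEquiv.ext fun m => ?_)
        exact h m
    rw [h1]
    constructor
    · intro h w hw
      rw [← hπker _ (mul_mem (hCW a ha w hw) (inv_mem hw)), hπmul _ (hCW a ha w hw) _ (inv_mem hw), hact a ha w hw, h]
      rw [← hπmul w hw _ (inv_mem hw), mul_inv_cancel]
      exact (hπker 1 (one_mem _)).2 (one_mem _)
    · intro h m
      obtain ⟨w, hw, rfl⟩ := hπsurj m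
      have h2 := (hπker _ (mul_mem (hCW a ha w hw) (inv_mem hw))).2 (h w hw)
      rw [← hact a ha w hw]
      have h3 := hπmul _ (mul_mem (hCW a ha w hw) (inv_mem hw)) w hw
      rw [inv_mul_cancel_right, h2, one_mul] at h3
      exact h3

section

variable [Finite G] {S : Sylow 2 G} {P V Z : Subgroup G} (h : PL S P V Z)
include h

theorem line_base {X : Subgroup G} (hX : IsCj Z X) (hXV : X ≤ V) (hne : X ≠ Z) {v : G} (hv : v ∈ V) :
    ∃ r ∈ Z, ∃ r' ∈ X, v = r * r' := h.exists_mul h.isCj_self h.ZV hX hXV hne.symm hv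

/-- `N_G(Z)` = `C_G(Z) N_G(S)`: all lines on `Z` are conjugate in `C_G(Z)`. -/
theorem exists_cent_line (hns : normalizer ((S : Subgroup G) : Set G) ≤ normalizer (V : Set G)) {M : Subgroup G}
    (hM : IsCj V M) (hZM : Z ≤ M) : ∃ c ∈ centralizer (Z : Set G), M = cj c V := by
  obtain ⟨g, hg, rfl⟩ := exists_conj_flag h h.isCj_self hM hZM
  have hgN : g ∈ normalizer (Z : Set G) := cj_eq_iff.1 hg.symm
  have h1 : cj g (S : Subgroup G) ≤ centralizer (Z : Set G) := by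
    have h2 : cj g (S : Subgroup G) ≤ cj g (centralizer (Z : Set G)) := cj_le_cj.2 h.S_le
    rwa [cj_centralizer, ← hg] at h2
  obtain ⟨c, hc, hcS⟩ := exists_conj (S := S) (T := g • S) h.S_le h1
  refine ⟨c, hc, ?_⟩
  have h2 : c⁻¹ * g ∈ normalizer ((S : Subgroup G) : Set G) := by
    have h3 : cj c (S : Subgroup G) = cj g (S : Subgroup G) := hcS
    rw [← cj_eq_iff, ← cj_cj, ← h3, cj_cj, inv_mul_cancel, cj_one]
  have h5 := cj_eq_iff.2 (hns h2)
  rw [← cj_cj] at h5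
  have h6 := congrArg (cj c) h5
  rwa [cj_cj, mul_inv_cancel, cj_one] at h6

end

/-- `Z` as an abstract commutative group -/
theorem exists_group {Z : Subgroup G} (hc : ∀ a ∈ Z, ∀ b ∈ Z, a * b = b * a) :
    ∃ (K : Type u) (_ : CommGroup K) (ζ : K →* G), Function.Injective ζ ∧ ∀ g, g ∈ Z ↔ ∃ r, ζ r = g := by
  let _ : CommGroup Z := { (inferInstance : Group Z) with mul_comm := fun a b => Subtype.ext (hc a a.2 b b.2) }
  refine ⟨Z, inferInstance, Z.subtype, Z.subtype_injective, fun g => ?_⟩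
  constructor
  · intro hg
    exact ⟨⟨g, hg⟩, rfl⟩
  · rintro ⟨r, rfl⟩
    exact r.2

/-! ### Subgroups of `M` and of `M →* K` from a realisation -/

section geo

variable {X L : Type*} [MulAction G X] [MulAction G L]
variable {inc : X → L → Prop} {R W : X → Subgroup G} {V : L → Subgroup G} {s t n : ℕ}
variable {H M K : Type*} [Group H] [CommGroup M] [MulDistribMulAction H M] [CommGroup K]
variable {p : X} {ρ : G → H} {π : G → M} (Re : Four.Real R W p ρ π)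

/-- `π(B)` -/
def pim (B : Subgroup G) (hB : B ≤ W p) : Subgroup M where
  carrier := {m | ∃ b ∈ B, π b = m}
  one_mem' := ⟨1, one_mem _, π_one Re⟩
  mul_mem' := by
    rintro _ _ ⟨a, ha, rfl⟩ ⟨b, hb, rfl⟩
    exact ⟨a * b, mul_mem ha hb, Re.pmul a (hB ha) b (hB hb)⟩
  inv_mem' := by
    rintro _ ⟨a, ha, rfl⟩
    exact ⟨a⁻¹, inv_mem ha, π_inv Re (hB ha)⟩

theorem mem_pim {B : Subgroup G} {hB : B ≤ W p} {m : M} : m ∈ pim Re B hB ↔ ∃ b ∈ B, π b = m := Iff.rfl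

variable {ζ : K →* G} (hran : ∀ g, g ∈ R p ↔ ∃ r, ζ r = g)

/-- the homomorphisms `m ↦ [k, m]`, `k ∈ K_p` -/
def khat (π : G → M) (hran : ∀ g, g ∈ R p ↔ ∃ r, ζ r = g) : Subgroup (M →* K) where
  carrier := {φ | ∃ k ∈ centralizer (R p : Set G), ∀ w ∈ W p, k * w * k⁻¹ * w⁻¹ = ζ (φ (π w))}
  one_mem' := ⟨1, one_mem _, fun w _ => by rw [MonoidHom.one_apply, map_one]; group⟩
  mul_mem' := by
    rintro φ ψ ⟨a, ha, ha'⟩ ⟨b, hb, hb'⟩
    refine ⟨a * b, mul_mem ha hb, fun w hw => ?_⟩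
    have h1 : ζ (ψ (π w)) ∈ R p := (hran _).2 ⟨_, rfl⟩
    have h2 := mem_centralizer_iff.1 ha _ h1
    calc a * b * w * (a * b)⁻¹ * w⁻¹ = a * (b * w * b⁻¹ * w⁻¹) * a⁻¹ * (a * w * a⁻¹ * w⁻¹) := by group
      _ = ζ (ψ (π w)) * ζ (φ (π w)) := by rw [hb' w hw, ha' w hw, ← h2, mul_inv_cancel_right]
      _ = ζ ((φ * ψ) (π w)) := by rw [MonoidHom.mul_apply, mul_comm, map_mul]
  inv_mem' := by
    rintro φ ⟨a, ha, ha'⟩
    refine ⟨a⁻¹, inv_mem ha, fun w hw => ?_⟩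
    have h1 : (ζ (φ (π w)))⁻¹ ∈ R p := inv_mem ((hran _).2 ⟨_, rfl⟩)
    have h2 := mem_centralizer_iff.1 ha _ h1
    calc a⁻¹ * w * a⁻¹⁻¹ * w⁻¹ = a⁻¹ * (a * w * a⁻¹ * w⁻¹)⁻¹ * a := by group
      _ = a⁻¹ * ((ζ (φ (π w)))⁻¹ * a) := by rw [ha' w hw]; group
      _ = (ζ (φ (π w)))⁻¹ := by rw [h2, inv_mul_cancel_left]
      _ = ζ (φ⁻¹ (π w)) := by rw [MonoidHom.inv_apply, map_inv]

theorem mem_khat {φ : M →* K} : φ ∈ khat (W := W) π hran ↔ ∃ k ∈ centralizer (R p : Set G),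
    ∀ w ∈ W p, k * w * k⁻¹ * w⁻¹ = ζ (φ (π w)) := Iff.rfl

include Re in
/-- every element of `K_p` gives an element of `khat` -/
theorem exists_khat (D : Geom inc R W V s t) (hinj : Function.Injective ζ) (hRW : R p ≤ W p) {k : G}
    (hk : k ∈ centralizer (R p : Set G)) (hk' : ∀ w ∈ W p, k * w * k⁻¹ * w⁻¹ ∈ R p) :
    ∃ φ ∈ khat (W := W) π hran, ∀ w ∈ W p, k * w * k⁻¹ * w⁻¹ = ζ (φ (π w)) := by
  have hc : ∀ a ∈ W p, ∀ b ∈ W p, a * b = b * a := D.comm p
  have key : ∀ v ∈ W p, ∀ w ∈ W p, π v = π w → k * v * k⁻¹ * v⁻¹ = k * w * k⁻¹ * w⁻¹ := by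
    intro v hv w hw hvw
    have h1 := mem_mul_R Re hv hw hvw
    have h2 := mem_centralizer_iff.1 hk _ h1
    have h3 := hc _ (hRW h1) _ (hRW (hk' w hw))
    have h4 : v = v * w⁻¹ * w := by group
    calc k * v * k⁻¹ * v⁻¹ = k * (v * w⁻¹) * k⁻¹ * (k * w * k⁻¹ * w⁻¹) * (v * w⁻¹)⁻¹ := by group
      _ = (v * w⁻¹) * (k * w * k⁻¹ * w⁻¹) * (v * w⁻¹)⁻¹ := by rw [← h2, mul_inv_cancel_right]
      _ = k * w * k⁻¹ * w⁻¹ := by rw [h3, mul_inv_cancel_right]
  have hmul : ∀ v ∈ W p, ∀ w ∈ W p, k * (v * w) * k⁻¹ * (v * w)⁻¹ = (k * v * k⁻¹ * v⁻¹) * (k * w * k⁻¹ * w⁻¹) := by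
    intro v hv w hw
    have h3 := hc _ hv _ (hRW (hk' w hw))
    calc k * (v * w) * k⁻¹ * (v * w)⁻¹ = (k * v * k⁻¹ * v⁻¹) * (v * (k * w * k⁻¹ * w⁻¹) * v⁻¹) := by group
      _ = _ := by rw [h3, mul_inv_cancel_right]
  choose r hr1 hr2 using Re.psurj
  have hz : ∀ m : M, ∃ z : K, ζ z = k * r m * k⁻¹ * (r m)⁻¹ := fun m => (hran _).1 (hk' _ (hr1 m))
  choose f hf using hz
  have hf' : ∀ w ∈ W p, k * w * k⁻¹ * w⁻¹ = ζ (f (π w)) := by
    intro w hw
    rw [hf]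
    exact key w hw _ (hr1 _) (hr2 _).symm
  let φ : M →* K := MonoidHom.mk' f (by
    intro a b
    obtain ⟨v, hv, rfl⟩ := Re.psurj a
    obtain ⟨w, hw, rfl⟩ := Re.psurj b
    apply hinj
    rw [map_mul, ← hf' v hv, ← hf' w hw, ← Re.pmul v hv w hw, ← hf' _ (mul_mem hv hw), hmul v hv w hw])
  exact ⟨φ, ⟨k, hk, hf'⟩, hf'⟩

end geo

section

variable [Finite G] {S : Sylow 2 G} {P V Z : Subgroup G} (h : PL S P V Z)
include h

set_option maxHeartbeats 1000000 in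
/-- **The instance.** -/
theorem exists_rd (hf : ¬ kx V Z ≤ centralizer (V : Set G)) (hO : OmQ S V)
    (hns : normalizer ((S : Subgroup G) : Set G) ≤ normalizer (V : Set G)) (hq : 4 ≤ Nat.card Z) :
    ∃ (H M K : Type u) (_ : Group H) (_ : CommGroup M) (_ : MulDistribMulAction H M) (_ : CommGroup K)
      (ρ : G → H) (π : G → M) (ζ : K →* G) (T : Subgroup H) (lam U : Subgroup M) (Kh : Subgroup (M →* K)),
      RD (inc (Z := Z) (V := V)) (fun x => x.sg) (fun x => ws V x.sg) (fun l => l.sg) (Pt.base Z) (Pt.base V)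
        (S : Subgroup G) ρ π ζ T lam U Kh := by
  have D := geom h hf hO
  have hWn := normalizer_le_ws V Z
  have hCn : centralizer (Z : Set G) ≤ normalizer (Z : Set G) := centralizer_le_normalizer _
  have hWcomm : ∀ a ∈ ws V Z, ∀ b ∈ ws V Z, a * b = b * a := fun a ha b hb =>
    (mem_centralizer_iff.1 (h.Wcomm ha) b hb).symm
  obtain ⟨H, M, iH, iM, iA, ρ, π, hρm, hρs, hρk, hπm, hπs, hπk, hact⟩ := exists_mod (C := centralizer (Z : Set G))
    (W := ws V Z) (R := Z) (fun c hc w hw => (mem_normalizer_iff.1 (hWn (hCn hc)) w).1 hw)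
    (fun c hc w hw => (mem_normalizer_iff.1 (hCn hc) w).1 hw) hWcomm
  obtain ⟨K, iK, ζ, hinj, hran⟩ := exists_group (Z := Z) fun a ha b hb => h.Vcomm (h.ZV ha) (h.ZV hb)
  have Re : Four.Real (fun x : Pt Z => x.sg) (fun x => ws V x.sg) (Pt.base Z) ρ π :=
    ⟨hρm, hρs, hρk, hπm, hπs, hπk, hact⟩
  have hran' : ∀ g, g ∈ (fun x : Pt Z => x.sg) (Pt.base Z) ↔ ∃ r, ζ r = g := hran
  have hVW : V ≤ ws V Z := h.V_le_ws h.ZV
  have hS : (S : Subgroup G) ≤ centralizer (Z : Set G) := h.S_le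
  have hcen : ∀ {k}, k ∈ centralizer (Z : Set G) → ∀ z ∈ Z, k * z = z * k := fun hk z hz =>
    (mem_centralizer_iff.1 hk z hz).symm
  have hcm : ∀ {g w : G}, g ∈ centralizer (Z : Set G) → w ∈ ws V Z →
      (g * w * g⁻¹ * w⁻¹ ∈ Z ↔ ρ g • π w = π w) := fun hg hw => comm_mem_iff Re D hg hw
  let T : Subgroup H := im Re (S : Subgroup G) hS
  let lam : Subgroup M := pim Re V hVW
  let U : Subgroup M := pim Re (IV V Z) h.IV_le_ws
  let Kh : Subgroup (M →* K) := khat (W := fun x : Pt Z => ws V x.sg) π hran'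
  have hlam : ∀ m, m ∈ lam ↔ ∃ v ∈ V, π v = m := fun m => Iff.rfl
  have hlam1 : ∀ v ∈ V, π v ≠ 1 → v ∉ Z := fun v hv hv1 hvZ => hv1 ((hπk v (hVW hv)).2 hvZ)
  have hKx : ∀ k ∈ kx V Z, k ∈ centralizer (Z : Set G) ∧ ∀ w ∈ ws V Z, k * w * k⁻¹ * w⁻¹ ∈ Z := fun k hk =>
    ⟨kx_le_cent hk, (mem_kx.1 hk).2⟩
  have hexK : ∀ k ∈ kx V Z, ∃ φ ∈ Kh, ∀ w ∈ ws V Z, k * w * k⁻¹ * w⁻¹ = ζ (φ (π w)) := fun k hk =>
    exists_khat Re hran' D hinj h.Z_le_ws (hKx k hk).1 (hKx k hk).2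
  have hfinH : Finite H := Finite.of_surjective ρ fun x => by
    obtain ⟨g, -, hg⟩ := hρs x
    exact ⟨g, hg⟩
  have hfinM : Finite M := Finite.of_surjective π fun x => by
    obtain ⟨g, -, hg⟩ := hπs x
    exact ⟨g, hg⟩
  -- cardinality of `lam`
  have hcard : Nat.card lam = Nat.card Z := by
    let φ : V →* M := MonoidHom.mk' (fun a => π a) (fun a b => hπm a (hVW a.2) b (hVW b.2))
    have h1 := Subgroup.card_mul_index φ.ker
    rw [Subgroup.index_ker] at h1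
    have h2 : φ.range = lam := by
      ext m
      constructor
      · rintro ⟨a, rfl⟩
        exact ⟨a, a.2, rfl⟩
      · rintro ⟨a, ha, rfl⟩
        exact ⟨⟨a, ha⟩, rfl⟩
    have h3 : Nat.card φ.ker = Nat.card Z := by
      refine Nat.card_congr ⟨fun x => ⟨x, ?_⟩, fun x => ⟨⟨x, h.ZV x.2⟩, ?_⟩, fun x => rfl, fun x => rfl⟩
      · exact (hπk _ (hVW x.1.2)).1 x.2
      · exact (hπk _ (hVW (h.ZV x.2))).2 x.2
    rw [h2, h3, h.card] at h1
    exact Nat.eq_of_mul_eq_mul_left Nat.card_pos h1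
  have hcardK : Nat.card K = Nat.card Z := by
    refine Nat.card_congr ⟨fun x => ⟨ζ x, (hran _).2 ⟨x, rfl⟩⟩, fun x => ((hran _).1 x.2).choose,
      fun x => ?_, fun x => ?_⟩
    · exact hinj ((hran (ζ x)).1 ((hran _).2 ⟨x, rfl⟩)).choose_spec
    · exact Subtype.ext ((hran _).1 x.2).choose_spec
  have hflag : Flag T lam U Kh := by
    refine ⟨hfinH, hfinM, ?_, ?_, hcardK.trans hcard.symm, ?_, ?_, ?_, hcard.symm ▸ hq, ?_, ?_, ?_, ?_, ?_, ?_,
      ?_, ?_, ?_⟩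
    · -- sq
      intro m
      obtain ⟨w, hw, rfl⟩ := hπs m
      rw [← hπm w hw w hw, h.ws_sq w hw]
      exact π_one Re
    · -- sqR
      intro r
      apply hinj
      rw [map_mul, map_one]
      exact h.Vsq _ (h.ZV ((hran _).2 ⟨r, rfl⟩))
    · -- faith
      intro x hx
      obtain ⟨g, hg, rfl⟩ := hρs x
      exact (hρk g hg).2 fun w hw => (hcm hg hw).2 (hx _)
    · -- two
      rintro ⟨_, s, hs, rfl⟩
      obtain ⟨k, hk⟩ := S.isPGroup' ⟨s, hs⟩
      have hk' : s ^ 2 ^ k = 1 := congrArg Subtype.val hk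
      refine ⟨k, Subtype.ext ?_⟩
      show ρ s ^ 2 ^ k = 1
      have hpow : ∀ j : ℕ, ρ (s ^ j) = ρ s ^ j := by
        intro j
        induction j with
        | zero => rw [pow_zero, pow_zero, Re.one]
        | succ j ih => rw [pow_succ, pow_succ, hρm _ (pow_mem (hS hs) j) _ (hS hs), ih]
      rw [← hpow, hk', Re.one]
    · -- ndvd
      have : Fact (Nat.Prime 2) := ⟨Nat.prime_two⟩
      let f : centralizer (Z : Set G) →* H := MonoidHom.mk' (fun a => ρ a) (fun a b => hρm a a.2 b b.2)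
      have hfs : Function.Surjective f := fun x => by
        obtain ⟨g, hg, rfl⟩ := hρs x
        exact ⟨⟨g, hg⟩, rfl⟩
      let T' : Sylow 2 H := (S.subtype hS).mapSurjective hfs
      have hT' : (T' : Subgroup H) = T := by
        ext x
        constructor
        · rintro ⟨g, hg, rfl⟩
          exact ⟨g, mem_subgroupOf.1 hg, rfl⟩
        · rintro ⟨g, hg, rfl⟩
          exact ⟨⟨g, hS hg⟩, mem_subgroupOf.2 hg, rfl⟩
      rw [← hT']
      exact T'.not_dvd_index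
    · -- fix
      rintro _ ⟨s, hs, rfl⟩ _ ⟨v, hv, rfl⟩
      exact (hcm (hS hs) (hVW hv)).1 (h.act s hs v hv)
    · -- norm
      rintro x hx _ ⟨v, hv, rfl⟩
      obtain ⟨g, hg, rfl⟩ := hρs x
      have hSK : (S : Subgroup G) ≤ normalizer ((kx V Z : Subgroup G) : Set G) :=
        h.S_le_N.trans (normalizer_le_kx V Z)
      have h1 : ((g • S : Sylow 2 G) : Subgroup G) ≤ kx V Z ⊔ S := by
        intro y hy
        rw [coe_smul, mem_cj] at hy
        have hyC : y ∈ centralizer (Z : Set G) := by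
          have := mul_mem (mul_mem hg (hS hy)) (inv_mem hg)
          have e : g * (g⁻¹ * y * g) * g⁻¹ = y := by group
          rwa [e] at this
        have h2 : ρ g * ρ (g⁻¹ * y * g) * (ρ g)⁻¹ ∈ T := (mem_normalizer_iff.1 hx _).1 ⟨_, hy, rfl⟩
        have h3 : ρ g * ρ (g⁻¹ * y * g) * (ρ g)⁻¹ = ρ y := by
          have h4 := Re.conj hg (hS hy)
          rw [← h4]
          congr 1; group
        rw [h3] at h2
        obtain ⟨s, hs, hs'⟩ := h2
        have h5 : y * s⁻¹ ∈ kx V Z := by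
          have h6 : ρ (y * s⁻¹) = 1 := by
            rw [hρm y hyC s⁻¹ (inv_mem (hS hs)), Re.inv (hS hs), hs', mul_inv_cancel]
          have h7 := (hρk _ (mul_mem hyC (inv_mem (hS hs)))).1 h6
          exact mem_kx.2 ⟨fun z hz => hcen (mul_mem hyC (inv_mem (hS hs))) z hz, h7⟩
        have h8 : y = y * s⁻¹ * s := by group
        rw [h8]
        exact mul_mem (mem_sup_left h5) (mem_sup_right hs)
      obtain ⟨b, hb, hbS⟩ := exists_conj (S := S) (T := g • S) (H := kx V Z ⊔ S) le_sup_right h1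
      rw [← SetLike.mem_coe, coe_mul_of_right_le_normalizer_left _ _ hSK] at hb
      obtain ⟨k, hk, s, hs, rfl⟩ := hb
      have h2 : k⁻¹ * g ∈ normalizer ((S : Subgroup G) : Set G) := by
        have h3 : cj (k * s) (S : Subgroup G) = cj g (S : Subgroup G) := hbS
        rw [← cj_cj, cj_eq_iff.2 (le_normalizer hs)] at h3
        rw [← cj_eq_iff, ← cj_cj, ← h3, cj_cj, inv_mul_cancel, cj_one]
      have hkC := (hKx k hk).1
      have h4 : ρ (k⁻¹ * g) = ρ g := by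
        rw [hρm _ (inv_mem hkC) g hg, Re.inv hkC, (hρk k hkC).2 (hKx k hk).2, inv_one, one_mul]
      have h5 := (mem_normalizer_iff.1 (hns h2) v).1 hv
      refine ⟨_, h5, ?_⟩
      rw [hact _ (mul_mem (inv_mem hkC) hg) v (hVW hv), h4]
    · -- lin
      rintro _ ⟨v, hv, rfl⟩ hv1 x hx _ ⟨u, hu, rfl⟩
      obtain ⟨g, hg, rfl⟩ := hρs x
      have hvZ := hlam1 v hv hv1
      rw [← hcm hg (hVW hv)] at hx
      rw [← hcm hg (hVW hu)]
      exact h.lin (hcen hg) hv hvZ hx u hu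
    · -- gen
      intro N hN
      let E : Subgroup G :=
        { carrier := {w | w ∈ ws V Z ∧ π w ∈ N}
          one_mem' := ⟨one_mem _, by
            have e : π 1 = 1 := π_one Re
            rw [e]; exact one_mem _⟩
          mul_mem' := by
            rintro a b ⟨ha, ha'⟩ ⟨hb, hb'⟩
            exact ⟨mul_mem ha hb, by rw [hπm a ha b hb]; exact mul_mem ha' hb'⟩
          inv_mem' := by
            rintro a ⟨ha, ha'⟩
            refine ⟨inv_mem ha, ?_⟩
            have e : π a⁻¹ = (π a)⁻¹ := π_inv Re ha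
            rw [e]; exact inv_mem ha' }
      have hE : ws V Z ≤ E := by
        refine ws_le fun L hL hZL => ?_
        obtain ⟨c, hc, rfl⟩ := exists_cent_line h hns hL hZL
        intro w hw
        refine ⟨le_ws hL hZL hw, ?_⟩
        have hw' := mem_cj.1 hw
        have e : c * (c⁻¹ * w * c) * c⁻¹ = w := by group
        have h1 := hact c hc _ (hVW hw')
        rw [e] at h1
        rw [h1]
        exact hN _ _ ⟨_, hw', rfl⟩
      rw [eq_top_iff]
      intro m _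
      obtain ⟨w, hw, rfl⟩ := hπs m
      exact (hE hw).2
    · -- le
      rintro _ ⟨v, hv, rfl⟩
      exact ⟨v, h.V_le_IV hv, rfl⟩
    · -- uu
      rintro _ ⟨u, hu, rfl⟩ huV _ ⟨v, hv, rfl⟩
      have huV' : u ∉ V := fun e => huV ⟨u, e, rfl⟩
      obtain ⟨c, -, hcV, hcu⟩ := h.F2 hf hO hu huV' hv
      have hcC : c ∈ centralizer (Z : Set G) := centralizer_le h.ZV hcV
      refine ⟨ρ c, ?_⟩
      rw [← hact c hcC u (h.IV_le_ws hu)]
      have e : c * u * c⁻¹ = v * u := by rw [← hcu]; group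
      rw [e, hπm v (hVW hv) u (h.IV_le_ws hu), mul_comm]
    · -- kh
      rintro φ ⟨k, hk, hk'⟩ x
      obtain ⟨g, hg, rfl⟩ := hρs x
      refine ⟨φ.comp (MulDistribMulAction.toMonoidHom M (ρ g)), ⟨g⁻¹ * k * g, mul_mem (mul_mem (inv_mem hg) hk) hg,
        fun w hw => ?_⟩, fun m => rfl⟩
      have h1 := hk' (g * w * g⁻¹) ((mem_normalizer_iff.1 (hWn (hCn hg)) w).1 hw)
      have h2 : ζ (φ (π (g * w * g⁻¹))) ∈ Z := (hran _).2 ⟨_, rfl⟩
      have h3 := mem_centralizer_iff.1 (inv_mem hg) _ h2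
      calc g⁻¹ * k * g * w * (g⁻¹ * k * g)⁻¹ * w⁻¹
          = g⁻¹ * (k * (g * w * g⁻¹) * k⁻¹ * (g * w * g⁻¹)⁻¹) * g := by group
        _ = ζ (φ (π (g * w * g⁻¹))) := by rw [h1, ← h3, inv_mul_cancel_right]
        _ = ζ ((φ.comp (MulDistribMulAction.toMonoidHom M (ρ g))) (π w)) := by
            rw [hact g hg w hw]; rfl
    · -- f1
      rintro _ ⟨v, hv, rfl⟩ hv1
      have hvZ := hlam1 v hv hv1
      obtain ⟨z, hz, hz1⟩ := h.pt_ne_bot h.isCj_self
      obtain ⟨k, hk, -, hkv⟩ := h.K_act hf hv hvZ hz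
      obtain ⟨φ, hφ, hφk⟩ := hexK k hk
      refine ⟨φ, hφ, fun e => hz1 ?_⟩
      rw [← hkv, hφk v (hVW hv), e, map_one]
    · -- ti
      rintro φ ⟨k, hk, hk'⟩ _ ⟨v, hv, rfl⟩ hv1 hφ _ ⟨u, hu, rfl⟩
      have hvZ := hlam1 v hv hv1
      have h1 := hk' v (hVW hv)
      rw [hφ, map_one, mul_inv_eq_one, mul_inv_eq_iff_eq_mul] at h1
      have h2 := h.mem_centralizer_of_fix (hcen hk) hv hvZ h1
      apply hinj
      rw [← hk' u (hVW hu), map_one, mul_inv_eq_one, mul_inv_eq_iff_eq_mul]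
      exact (mem_centralizer_iff.1 h2 u hu).symm
  refine ⟨H, M, K, iH, iM, iA, iK, ρ, π, ζ, T, lam, U, Kh, ?_⟩
  refine { re := Re, pl := h.ZV, mlam := fun m => Iff.rfl, mU := ?_, cov := ?_, flag := hflag, sy := hS,
           mT := fun t => Iff.rfl, cen := ?_, inj := hinj, ran := hran, kh := fun φ hφ => hφ,
           kh' := ?_, line := ?_, tr := ?_ }
  · -- mU
    intro m
    constructor
    · rintro ⟨u, hu, rfl⟩
      exact ⟨u, h.IV_le_ws hu, fun y hy => IV_le y.isCj hy hu, rfl⟩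
    · rintro ⟨u, -, hu', rfl⟩
      refine ⟨u, ?_, rfl⟩
      rw [IV, Subgroup.mem_sInf]
      rintro _ ⟨Y, hY, hYV, rfl⟩
      exact hu' (Pt.mk hY) hYV
  · -- cov
    intro c hc
    obtain ⟨g, hg, rfl⟩ := hρs c
    obtain ⟨v, hv, hvZ⟩ := h.exists_out
    have h1 : g * v * g⁻¹ * v⁻¹ ∈ Z := (hcm hg (hVW hv)).2 (hc _ ⟨v, hv, rfl⟩)
    obtain ⟨k, hk, -, hkv⟩ := h.K_act hf hv hvZ (Z.inv_mem h1)
    have hkC := (hKx k hk).1
    have h2 : k * g * v = v * (k * g) := by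
      have e1 : g * v * g⁻¹ = (g * v * g⁻¹ * v⁻¹) * v := by group
      have e2 : k * v * k⁻¹ = (g * v * g⁻¹ * v⁻¹)⁻¹ * v := by rw [← hkv]; group
      have e3 := hcen hkC _ h1
      rw [← mul_inv_eq_iff_eq_mul]
      calc k * g * v * (k * g)⁻¹ = k * (g * v * g⁻¹) * k⁻¹ := by group
        _ = k * (g * v * g⁻¹ * v⁻¹) * v * k⁻¹ := by rw [e1]; group
        _ = (g * v * g⁻¹ * v⁻¹) * (k * v * k⁻¹) := by rw [e3]; group
        _ = v := by rw [e2]; group
    refine ⟨k * g, h.mem_centralizer_of_fix (hcen (mul_mem hkC hg)) hv hvZ h2, ?_⟩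
    rw [hρm k hkC g hg, (hρk k hkC).2 (hKx k hk).2, one_mul]
  · -- cen
    intro w hw hws
    exact h.omega w (h.ws_le_S hw) (h.ws_sq w hw) hws
  · -- kh'
    intro k hk hk'
    exact exists_khat Re hran' D hinj h.Z_le_ws hk hk'
  · -- line
    intro x hx hxp v hv
    exact line_base h x.isCj hx (fun e => hxp (Pt.ext e)) hv
  · -- tr
    intro x y hx hxp hy hyp
    obtain ⟨k, hk, -, hk'⟩ := h.K_trans hf y.isCj hy x.isCj hx (fun e => hyp (Pt.ext e)) (fun e => hxp (Pt.ext e))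
    exact ⟨k, (hKx k hk).1, (hKx k hk).2, Pt.ext hk'⟩

/-- every flag of `PtGeom` is conjugate to the base flag -/
theorem exists_smul_flag {x : Pt Z} {l : Pt V} (hxl : inc x l) : ∃ g : G, x = g • Pt.base Z ∧ l = g • Pt.base V := by
  obtain ⟨g, h1, h2⟩ := exists_conj_flag h x.isCj l.isCj hxl
  exact ⟨g, Pt.ext h1, Pt.ext h2⟩

end

end Cfsg.Agent.Omega.NO3S.FarQ

end

section


/-!
# FarQ: the assembly of (4.0), and `NS` / `SP` for all flags (TEXT 263-Q)

* `Ext inc R W V p l ρ π T Kh S κ` : the data at the flag `(p, l)` besides `Glue.RF`; `Ext.smul` : transport;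
* `phi` : the maps `e ↦ [e, g']`, `e ∈ E`, for `g' ∈ C_G(R_p)` acting trivially on `E`; `phi_mul`, `phi_inv`,
  `phi_f1`, `phi_ti`, `phi_alt` : the hypotheses of `GoodB`;
* `d_base` : (4.0) at the flag `(p, l)`; `ns`, `sp` : `Asm.NS`, `Asm.SP` everywhere.
-/

set_option autoImplicit false
set_option linter.unusedSectionVars false

namespace Cfsg.Agent.Omega.NO3S.FarQ.Plug

open Subgroup Cfsg Cfsg.Agent.ZN Cfsg.Agent.MinSimple.VModule Cfsg.Agent.Omega.NOThree.Pts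
open Cfsg.Agent.Omega.NO3S.FarQ Cfsg.Agent.Omega.NO3S.FarQ.Asm Cfsg.Agent.Omega.NO3S.FarQ.Glue
open Cfsg.Agent.Omega.NO3S.PT (cj mem_cj conj_mem_cj)

variable {G X L : Type*} [Group G] [MulAction G X] [MulAction G L]
variable {inc : X → L → Prop} {R W : X → Subgroup G} {V : L → Subgroup G} {s t n : ℕ}
variable {H M K : Type*} [Group H] [CommGroup M] [MulDistribMulAction H M] [CommGroup K]

/-- **The data at the flag `(p, l)` besides `RF`**: `κ : R_p → K` an isomorphism, `S` a Sylow 2-subgroup. -/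
structure Ext (inc : X → L → Prop) (R W : X → Subgroup G) (V : L → Subgroup G) (p : X) (l : L)
    (ρ : G → H) (π : G → M) (T : Subgroup H) (Kh : Subgroup (M →* K)) (S : Subgroup G) (κ : G → K) : Prop where
  line : ∀ y, inc y l → y ≠ p → ∀ v ∈ V l, ∃ r ∈ R p, ∃ r' ∈ R y, v = r * r'
  tr : ∀ y z, inc y l → y ≠ p → inc z l → z ≠ p → ∃ k ∈ centralizer (R p : Set G),
    (∀ w ∈ W p, k * w * k⁻¹ * w⁻¹ ∈ R p) ∧ k • y = z
  cS : S ≤ centralizer (R p : Set G)
  ST : ∀ g ∈ S, ρ g ∈ T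
  fS : ∀ u ∈ W p, (∀ g ∈ S, g * u = u * g) → u ∈ R p
  kmul : ∀ a ∈ R p, ∀ b ∈ R p, κ (a * b) = κ a * κ b
  kker : ∀ a ∈ R p, κ a = 1 → a = 1
  kh : ∀ φ ∈ Kh, ∃ k ∈ centralizer (R p : Set G), ∀ w ∈ W p,
    k * w * k⁻¹ * w⁻¹ ∈ R p ∧ φ (π w) = κ (k * w * k⁻¹ * w⁻¹)

section smul

variable {p : X} {l : L} {ρ : G → H} {π : G → M} {T : Subgroup H} {Kh : Subgroup (M →* K)} {S : Subgroup G}
  {κ : G → K}

/-- Transport. -/
theorem Ext.smul (D : Geom inc R W V s t) (E : Ext inc R W V p l ρ π T Kh S κ) (g : G) :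
    Ext inc R W V (g • p) (g • l) (fun a => ρ (g⁻¹ * a * g)) (fun w => π (g⁻¹ * w * g)) T Kh (cj g S)
      (fun a => κ (g⁻¹ * a * g)) := by
  have mR : ∀ {x : X} {a : G}, a ∈ R (g • x) ↔ g⁻¹ * a * g ∈ R x := D.R_smul_iff g
  have mW : ∀ {x : X} {a : G}, a ∈ W (g • x) ↔ g⁻¹ * a * g ∈ W x := D.W_smul_iff g
  have hc' : ∀ {a}, a ∈ centralizer (R p : Set G) → g * a * g⁻¹ ∈ centralizer (R (g • p) : Set G) := by
    intro a ha
    rw [mem_centralizer_iff] at ha ⊢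
    intro r hr
    have h1 := ha _ (mR.1 hr)
    calc r * (g * a * g⁻¹) = g * ((g⁻¹ * r * g) * a) * g⁻¹ := by group
      _ = g * (a * (g⁻¹ * r * g)) * g⁻¹ := by rw [h1]
      _ = g * a * g⁻¹ * r := by group
  have hi : ∀ {y : X}, inc y (g • l) → inc (g⁻¹ • y) l := by
    intro y hy
    have := D.inc_smul g⁻¹ _ _ hy
    rwa [inv_smul_smul] at this
  have hne : ∀ {y : X}, y ≠ g • p → g⁻¹ • y ≠ p := by
    intro y hy e
    exact hy (by rw [← e, smul_inv_smul])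
  refine ⟨?_, ?_, ?_, ?_, ?_, ?_, ?_, ?_⟩
  · intro y hy hyp v hv
    have hv' : g⁻¹ * v * g ∈ V l := by
      have := D.V_smul g⁻¹ _ v hv
      rwa [inv_smul_smul, inv_inv] at this
    obtain ⟨r, hr, r', hr', e⟩ := E.line _ (hi hy) (hne hyp) _ hv'
    refine ⟨g * r * g⁻¹, D.R_smul g p r hr, g * r' * g⁻¹, ?_, ?_⟩
    · have := D.R_smul g _ r' hr'
      rwa [smul_inv_smul] at this
    · calc v = g * (g⁻¹ * v * g) * g⁻¹ := by group
        _ = g * r * g⁻¹ * (g * r' * g⁻¹) := by rw [e]; group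
  · intro y z hy hyp hz hzp
    obtain ⟨k, hk, hk1, hk2⟩ := E.tr _ _ (hi hy) (hne hyp) (hi hz) (hne hzp)
    refine ⟨g * k * g⁻¹, hc' hk, fun w hw => ?_, ?_⟩
    · rw [mR]
      have e : g⁻¹ * (g * k * g⁻¹ * w * (g * k * g⁻¹)⁻¹ * w⁻¹) * g =
          k * (g⁻¹ * w * g) * k⁻¹ * (g⁻¹ * w * g)⁻¹ := by group
      rw [e]
      exact hk1 _ (mW.1 hw)
    · rw [mul_smul, mul_smul, hk2, smul_inv_smul]
  · intro a ha
    have h1 := hc' (E.cS (mem_cj.1 ha))
    have e : g * (g⁻¹ * a * g) * g⁻¹ = a := by group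
    rwa [e] at h1
  · intro a ha
    exact E.ST _ (mem_cj.1 ha)
  · intro u hu h
    rw [mR]
    refine E.fS _ (mW.1 hu) fun a ha => ?_
    have h1 := h _ (conj_mem_cj (g := g) ha)
    calc a * (g⁻¹ * u * g) = g⁻¹ * (g * a * g⁻¹ * u) * g := by group
      _ = g⁻¹ * (u * (g * a * g⁻¹)) * g := by rw [h1]
      _ = g⁻¹ * u * g * a := by group
  · intro a ha b hb
    have e : g⁻¹ * (a * b) * g = (g⁻¹ * a * g) * (g⁻¹ * b * g) := by group
    show κ (g⁻¹ * (a * b) * g) = _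
    rw [e, E.kmul _ (mR.1 ha) _ (mR.1 hb)]
  · intro a ha h
    have h1 := E.kker _ (mR.1 ha) h
    calc a = g * (g⁻¹ * a * g) * g⁻¹ := by group
      _ = 1 := by rw [h1]; group
  · intro φ hφ
    obtain ⟨k, hk, hk1⟩ := E.kh φ hφ
    refine ⟨g * k * g⁻¹, hc' hk, fun w hw => ?_⟩
    have e : g⁻¹ * (g * k * g⁻¹ * w * (g * k * g⁻¹)⁻¹ * w⁻¹) * g =
        k * (g⁻¹ * w * g) * k⁻¹ * (g⁻¹ * w * g)⁻¹ := by group
    obtain ⟨h1, h2⟩ := hk1 _ (mW.1 hw)
    refine ⟨by rw [mR, e]; exact h1, ?_⟩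
    show φ (π (g⁻¹ * w * g)) = κ (g⁻¹ * (g * k * g⁻¹ * w * (g * k * g⁻¹)⁻¹ * w⁻¹) * g)
    rw [e, h2]

end smul

/-! ### The group `Φ` -/

section phi

variable {p : X} {ρ : G → H} {π : G → M} {κ : G → K} (D : Geom inc R W V s t) (Re : Four.Real R W p ρ π)
  (kmul : ∀ a ∈ R p, ∀ b ∈ R p, κ (a * b) = κ a * κ b)

include D Re in
/-- `[g', u]` for `g'` fixing `π u` -/
theorem mem_R {g u : G} (hg : g ∈ centralizer (R p : Set G)) (hu : u ∈ W p) (h : ρ g • π u = π u) :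
    g * u * g⁻¹ * u⁻¹ ∈ R p := (comm_mem_iff Re D hg hu).2 h

/-- The maps `e ↦ [e, g']`, `e ∈ E`, for `g' ∈ C_G(R_p)` acting trivially on `E`. -/
def phi (D : Geom inc R W V s t) (Re : Four.Real R W p ρ π)
    (kmul : ∀ a ∈ R p, ∀ b ∈ R p, κ (a * b) = κ a * κ b) (E : Subgroup M) : Subgroup (M → K) where
  carrier := {φ | ∃ g ∈ centralizer (R p : Set G), (∀ e ∈ E, ρ g • e = e) ∧
    ∀ u ∈ W p, π u ∈ E → φ (π u) = κ (g * u * g⁻¹ * u⁻¹)}
  one_mem' := by
    refine ⟨1, one_mem _, fun e _ => by rw [Re.one, one_smul], fun u _ _ => ?_⟩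
    have h1 := kmul 1 (one_mem _) 1 (one_mem _)
    rw [mul_one, left_eq_mul] at h1
    show (1 : K) = _
    rw [one_mul, inv_one, mul_one, mul_inv_cancel, h1]
  mul_mem' := by
    rintro φ ψ ⟨g, hg, h1, h2⟩ ⟨g', hg', h1', h2'⟩
    refine ⟨g * g', mul_mem hg hg', fun e he => by rw [Re.mul g hg g' hg', mul_smul, h1' e he, h1 e he],
      fun u hu hue => ?_⟩
    have m1 := mem_R D Re hg hu (h1 _ hue)
    have m2 := mem_R D Re hg' hu (h1' _ hue)
    have e1 : g * g' * u * (g * g')⁻¹ * u⁻¹ = (g * u * g⁻¹ * u⁻¹) * (g' * u * g'⁻¹ * u⁻¹) := by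
      have e2 : g * (g' * u * g'⁻¹ * u⁻¹) * g⁻¹ = g' * u * g'⁻¹ * u⁻¹ := by
        rw [← mem_centralizer_iff.1 hg _ m2, mul_inv_cancel_right]
      have e3 : (g' * u * g'⁻¹ * u⁻¹) * (g * u * g⁻¹ * u⁻¹) = (g * u * g⁻¹ * u⁻¹) * (g' * u * g'⁻¹ * u⁻¹) :=
        D.comm p _ (D.R_le_W p m2) _ (D.R_le_W p m1)
      calc g * g' * u * (g * g')⁻¹ * u⁻¹ = g * (g' * u * g'⁻¹ * u⁻¹) * g⁻¹ * (g * u * g⁻¹ * u⁻¹) := by group
        _ = _ := by rw [e2, e3]
    show φ (π u) * ψ (π u) = _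
    rw [e1, kmul _ m1 _ m2, h2 u hu hue, h2' u hu hue]
  inv_mem' := by
    rintro φ ⟨g, hg, h1, h2⟩
    have h3 : ∀ e ∈ E, ρ g⁻¹ • e = e := fun e he => by
      rw [Re.inv hg, inv_smul_eq_iff, h1 e he]
    refine ⟨g⁻¹, inv_mem hg, h3, fun u hu hue => ?_⟩
    have m1 := mem_R D Re hg hu (h1 _ hue)
    have m2 := mem_R D Re (inv_mem hg) hu (h3 _ hue)
    have e1 : (g * u * g⁻¹ * u⁻¹) * (g⁻¹ * u * g⁻¹⁻¹ * u⁻¹) = 1 := by
      have e2 : g⁻¹ * (g * u * g⁻¹ * u⁻¹) * g = g * u * g⁻¹ * u⁻¹ := by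
        rw [mul_assoc, mem_centralizer_iff.1 hg _ m1, inv_mul_cancel_left]
      nth_rewrite 1 [← e2]
      group
    have h4 := kmul _ m1 _ m2
    have h5 := kmul 1 (one_mem _) 1 (one_mem _)
    rw [mul_one, left_eq_mul] at h5
    rw [e1, h5] at h4
    show (φ (π u))⁻¹ = _
    rw [h2 u hu hue]
    exact inv_eq_of_mul_eq_one_right h4.symm

variable {E : Subgroup M}

theorem phi_mul {φ : M → K} (hφ : φ ∈ phi D Re kmul E) {x y : M} (hx : x ∈ E) (hy : y ∈ E) :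
    φ (x * y) = φ x * φ y := by
  obtain ⟨g, hg, h1, h2⟩ := hφ
  obtain ⟨u, hu, rfl⟩ := Re.psurj x
  obtain ⟨v, hv, rfl⟩ := Re.psurj y
  have m1 := mem_R D Re hg hu (h1 _ hx)
  have m2 := mem_R D Re hg hv (h1 _ hy)
  rw [h2 u hu hx, h2 v hv hy, ← Re.pmul u hu v hv,
    h2 _ (mul_mem hu hv) (by rw [Re.pmul u hu v hv]; exact mul_mem hx hy), ← kmul _ m1 _ m2]
  congr 1
  have e1 : u * (g * v * g⁻¹ * v⁻¹) * u⁻¹ = g * v * g⁻¹ * v⁻¹ := by
    rw [D.comm p u hu _ (D.R_le_W p m2), mul_inv_cancel_right]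
  calc g * (u * v) * g⁻¹ * (u * v)⁻¹ = (g * u * g⁻¹ * u⁻¹) * (u * (g * v * g⁻¹ * v⁻¹) * u⁻¹) := by group
    _ = _ := by rw [e1]

theorem phi_inv {J : Subgroup H} (hE : ∀ j ∈ J, ∀ e ∈ E, j • e ∈ E) {φ : M → K} (hφ : φ ∈ phi D Re kmul E)
    {j : H} (hj : j ∈ J) : ∃ ψ ∈ phi D Re kmul E, ∀ x ∈ E, ψ x = φ (j • x) := by
  refine ⟨fun x => φ (j • x), ?_, fun _ _ => rfl⟩
  obtain ⟨g, hg, h1, h2⟩ := hφ
  obtain ⟨a, ha, rfl⟩ := Re.surj j
  refine ⟨a⁻¹ * g * a, mul_mem (mul_mem (inv_mem ha) hg) ha, fun e he => ?_, fun u hu hue => ?_⟩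
  · rw [Re.mul _ (mul_mem (inv_mem ha) hg) _ ha, Re.mul _ (inv_mem ha) _ hg, Re.inv ha, mul_smul, mul_smul,
      h1 _ (hE _ hj e he), inv_smul_smul]
  · show φ (ρ a • π u) = _
    have h3 := hE _ hj _ hue
    rw [← Re.act a ha u hu] at h3 ⊢
    have h4 := Four.norm_p D ha hu
    have m1 := mem_R D Re hg h4 (h1 _ h3)
    rw [h2 _ h4 h3]
    congr 1
    have e1 : a⁻¹ * (g * (a * u * a⁻¹) * g⁻¹ * (a * u * a⁻¹)⁻¹) * a =
        g * (a * u * a⁻¹) * g⁻¹ * (a * u * a⁻¹)⁻¹ := by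
      rw [mul_assoc a⁻¹ _ a, mem_centralizer_iff.1 ha _ m1, inv_mul_cancel_left]
    rw [← e1]
    group

variable {l : L} {lam U : Subgroup M} {T : Subgroup H} {Kh : Subgroup (M →* K)} {S : Subgroup G}

/-- the functionals of `Kh` are in `Φ` -/
theorem kh_mem (Ex : Ext inc R W V p l ρ π T Kh S κ) {φ : M →* K} (hφ : φ ∈ Kh) :
    (fun m => φ m) ∈ phi D Re kmul E := by
  obtain ⟨k, hk, hk1⟩ := Ex.kh φ hφ
  refine ⟨k, hk, fun e _ => ?_, fun u hu _ => (hk1 u hu).2⟩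
  obtain ⟨u, hu, rfl⟩ := Re.psurj e
  exact (comm_mem_iff Re D hk hu).1 (hk1 u hu).1

theorem phi_ti (F : RF inc R W V p l ρ π lam U) (Ex : Ext inc R W V p l ρ π T Kh S κ) {y : X} (hy : inc y l)
    (hyp : y ≠ p) {φ : M → K} (hφ : φ ∈ phi D Re kmul E) {x : H} {a b : M}
    (ha : a ∈ lam) (ha1 : a ≠ 1) (hxa : x • a ∈ E) (h : φ (x • a) = 1) (hb : b ∈ lam) (hxb : x • b ∈ E) :
    φ (x • b) = 1 := by
  obtain ⟨g, hg, h1, h2⟩ := hφ
  obtain ⟨c, hc, rfl⟩ := Re.surj x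
  -- lifts in `R_y`
  have lift : ∀ a ∈ lam, ∃ r ∈ R y, π r = a := by
    intro a ha
    obtain ⟨v, hv, rfl⟩ := (F.mlam a).1 ha
    obtain ⟨r, hr, r', hr', rfl⟩ := Ex.line y hy hyp v hv
    refine ⟨r', hr', ?_⟩
    have e1 := D.R_le_W p hr
    have e2 := Four.R_le_Wp D hy F.pl hr'
    rw [Re.pmul _ e1 _ e2, (Re.pker r e1).2 hr, one_mul]
  obtain ⟨r, hr, rfl⟩ := lift a ha
  obtain ⟨r', hr', rfl⟩ := lift b hb
  have hrW := Four.R_le_Wp D hy F.pl hr
  have hrW' := Four.R_le_Wp D hy F.pl hr'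
  have hu := Four.norm_p D hc hrW
  have hu' := Four.norm_p D hc hrW'
  rw [← Re.act c hc _ hrW] at hxa h
  rw [← Re.act c hc _ hrW'] at hxb ⊢
  have m1 := mem_R D Re hg hu (h1 _ hxa)
  have m2 := mem_R D Re hg hu' (h1 _ hxb)
  rw [h2 _ hu hxa] at h
  have h3 := Ex.kker _ m1 h
  have hr1 : r ≠ 1 := by
    rintro rfl
    exact ha1 ((Re.pker 1 (one_mem _)).2 (one_mem _))
  have h4 : g • c • y = c • y := by
    refine D.fix (D.R_smul c y r hr) (fun e => hr1 (conj_eq_one_iff.1 e)) ?_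
    exact comm_eq_one.1 h3
  have h5 : g * (c * r' * c⁻¹) * g⁻¹ * (c * r' * c⁻¹)⁻¹ ∈ R (c • y) :=
    mul_mem (D.norm_R h4 (D.R_smul c y r' hr')) (inv_mem (D.R_smul c y r' hr'))
  have h6 : g * (c * r' * c⁻¹) * g⁻¹ * (c * r' * c⁻¹)⁻¹ = 1 := by
    by_contra h7
    apply hyp
    have h8 : c • y = p := D.ti _ _ _ h5 m2 h7
    have h9 : c • y = c • p := by rw [h8, Four.fix_p D hc]
    exact smul_left_cancel c h9
  have h7 := kmul 1 (one_mem _) 1 (one_mem _)
  rw [mul_one, left_eq_mul] at h7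
  rw [h2 _ hu' hxb, h6, h7]

/-- a map of `Φ` moving the image of `u₀` -/
theorem exists_phi {g u₀ : G} (hg : g ∈ centralizer (R p : Set G)) (h1 : ∀ e ∈ E, ρ g • e = e) (hu₀ : u₀ ∈ W p)
    (hE : π u₀ ∈ E) (kker : ∀ a ∈ R p, κ a = 1 → a = 1) (h : g * u₀ ≠ u₀ * g) :
    ∃ φ ∈ phi D Re kmul E, φ (π u₀) ≠ 1 := by
  classical
  choose f hf hf' using Re.psurj
  have key : ∀ u ∈ W p, π u ∈ E → g * f (π u) * g⁻¹ * (f (π u))⁻¹ = g * u * g⁻¹ * u⁻¹ := by
    intro u hu _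
    have h2 : f (π u) * u⁻¹ ∈ R p := mem_mul_R Re (hf _) hu (hf' _)
    have h3 := mem_centralizer_iff.1 hg _ h2
    have h5 : g * (f (π u) * u⁻¹) * g⁻¹ = f (π u) * u⁻¹ := by rw [← h3, mul_inv_cancel_right]
    have h6 : g * f (π u) * g⁻¹ = f (π u) * u⁻¹ * (g * u * g⁻¹) := by
      calc g * f (π u) * g⁻¹ = g * (f (π u) * u⁻¹) * g⁻¹ * (g * u * g⁻¹) := by group
        _ = _ := by rw [h5]
    have h7 : f (π u) * u⁻¹ * (g * u * g⁻¹) = (g * u * g⁻¹) * (f (π u) * u⁻¹) :=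
      D.comm p _ (D.R_le_W p h2) _ (Four.norm_p D hg hu)
    have h8 : f (π u) * u⁻¹ = u⁻¹ * f (π u) := D.comm p _ (hf _) _ (inv_mem hu)
    rw [h6, h7, h8]
    group
  refine ⟨fun m => κ (g * f m * g⁻¹ * (f m)⁻¹), ⟨g, hg, h1, fun u hu hue => ?_⟩, ?_⟩
  · show κ (g * f (π u) * g⁻¹ * (f (π u))⁻¹) = _
    rw [key u hu hue]
  · show κ (g * f (π u₀) * g⁻¹ * (f (π u₀))⁻¹) ≠ 1
    rw [key u₀ hu₀ hE]
    intro h2
    exact h (comm_eq_one.1 (kker _ (mem_R D Re hg hu₀ (h1 _ hE)) h2))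

end phi

/-! ### (4.0) -/

/-- The separation property of `(g, f)`: the hypothesis of `Four.Real.low`. -/
def Sep (R W : X → Subgroup G) (p : X) (ρ : G → H) (π : G → M) (A : Subgroup H) (lam : Subgroup M)
    (g α : H) : Prop :=
  ∃ a ∈ lam, a ≠ 1 ∧ ∃ h ∈ closure {x | ∃ c ∈ fixer lam, ∃ y ∈ A, x = c * y * c⁻¹}, ∃ g' ∈ centralizer (R p : Set G),
    (∀ u ∈ W p, π u = g • a → g' * u = u * g') ∧
    (∀ u ∈ W p, π u = (α • g • a) * (g • a)⁻¹ → g' * u = u * g') ∧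
    ∀ u ∈ W p, π u = ((g * h * g⁻¹) • ((α • g • a) * (g • a)⁻¹)) * ((α • g • a) * (g • a)⁻¹)⁻¹ →
      g' * u * g'⁻¹ * u⁻¹ ∈ R p ∧ g' * u ≠ u * g'

section base

variable {p q y : X} {l : L} {ρ : G → H} {π : G → M} {T : Subgroup H} {lam U : Subgroup M}
  {Kh : Subgroup (M →* K)} {S : Subgroup G} {κ : G → K}
variable [Finite G] (D : Geom inc R W V s t) (F : RF inc R W V p l ρ π lam U)
  (E : Ext inc R W V p l ρ π T Kh S κ)
include D F E

/-- the flag of `Four` -/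
theorem flag (hy : inc y l) (hyp : y ≠ p) (hc : Com W q y) : Four.Flag inc R W V p y q l := by
  refine ⟨F.pl, hy, hyp, ?_, hc, E.line y hy hyp, fun z hz hzp => E.tr z y hz hzp hy hyp⟩
  intro f hf
  rw [mem_centralizer_iff]
  intro r hr
  exact (hc f hf r (D.V_le y l hy (D.R_le p l F.pl hr))).symm

/-- **(4.0), the `G`-side**, from its abstract half. -/
theorem d_of (hinv : ∀ (p x : X) (m : L), inc p m → inc x m → x ≠ p → ∀ g ∈ centralizer (R p : Set G), g * g = 1 → g • x = x →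
      ∀ u ∈ R x, g * u = u * g)
    (hp : ExP inc R W V n p q) (hn : 2 ≤ n) (hy : Walk inc (n - 1) q y) (hyl : inc y l)
    (hA : W q ≤ centralizer (R p : Set G)) {g : H}
    (h1 : ∃ a ∈ lam, ∃ α ∈ im F.re (W q) hA, α • g • a ≠ g • a)
    (h2 : im F.re (W q) hA ≤ closure {α | α ∈ im F.re (W q) hA ∧
      ((∀ a ∈ lam, α • g • a = g • a) ∨ Sep R W p ρ π (im F.re (W q) hA) lam g α)}) :
    ∃ x m, inc x m ∧ inc p m ∧ (∃ f ∈ W q, f • x ≠ x) ∧
      W q ≤ closure {f | f ∈ W q ∧ (f • x = x ∨ ∀ a ∈ W x, a ∈ W (f • x) → a ∈ W p)} := by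
  have Re := F.re
  have hyp : y ≠ p := hp.crit.symm.ne_last (by omega) hy
  have hc : Com W q y := hp.crit.symm.com_last (by omega) hy
  have F4 := flag D F E hyl hyp hc
  obtain ⟨c, hcR, rfl⟩ := Re.surj g
  have i1 : inc (c • y) (c • l) := D.inc_smul c _ _ hyl
  have i2 : inc p (c • l) := by
    have := D.inc_smul c _ _ F.pl
    rwa [Four.fix_p D hcR] at this
  -- lifts
  have lift : ∀ a ∈ lam, ∃ u ∈ R (c • y), π u = ρ c • a := by
    intro a ha
    obtain ⟨r, hr, hra⟩ := Re.exists_lift D F4 (a := a) ((F.mlam a).1 ha)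
    refine ⟨c * r * c⁻¹, D.R_smul c y r hr, ?_⟩
    rw [Re.act c hcR r (Four.R_le_Wp D hyl F.pl hr), hra]
  refine ⟨c • y, c • l, i1, i2, ?_, ?_⟩
  · obtain ⟨a, ha, _, ⟨f, hf, rfl⟩, hne⟩ := h1
    refine ⟨f, hf, fun h0 => hne ?_⟩
    obtain ⟨u, hu, hua⟩ := lift a ha
    have hne' : c • y ≠ p := by
      intro e
      apply hyp
      have h4 : c • y = c • p := by rw [e, Four.fix_p D hcR]
      exact smul_left_cancel c h4
    have h3 := hinv p _ _ i2 i1 hne' f (hA hf) (D.sq q f hf) h0 u hu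
    rw [← hua, ← Re.act f (hA hf) u (Four.R_le_Wp D i1 i2 hu), h3, mul_inv_cancel_right]
  · set B := closure {f | f ∈ W q ∧ (f • c • y = c • y ∨ ∀ a ∈ W (c • y), a ∈ W (f • c • y) → a ∈ W p)} with hB
    have hBW : B ≤ W q := (closure_le _).2 fun f hf => hf.1
    have key : im F.re (W q) hA ≤ im F.re B (hBW.trans hA) := by
      refine h2.trans ((closure_le _).2 ?_)
      rintro _ ⟨⟨f, hf, rfl⟩, h3⟩
      refine ⟨f, subset_closure ⟨hf, ?_⟩, rfl⟩
      rcases h3 with h3 | ⟨a, ha, ha1, h, hh, g', hg', k1, k2, k3⟩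
      · by_cases h4 : f • c • y = c • y
        · exact Or.inl h4
        · right
          obtain ⟨r, hr, hr1⟩ := D.exists_ne y
          have hu := D.R_smul c y r hr
          have huW := Four.R_le_Wp D i1 i2 hu
          have hm : f * (c * r * c⁻¹) * f⁻¹ * (c * r * c⁻¹)⁻¹ ∈ R p := by
            rw [comm_mem_iff Re D (hA hf) huW, Re.act c hcR r (Four.R_le_Wp D hyl F.pl hr)]
            exact h3 _ ((F.mlam _).2 ⟨r, D.R_le y l hyl hr, rfl⟩)
          have h5 : f * (c * r * c⁻¹) * f⁻¹ ∈ V (c • l) := by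
            have h6 := mul_mem (D.R_le p _ i2 hm) (D.R_le _ _ i1 hu)
            rwa [inv_mul_cancel_right] at h6
          obtain ⟨z, hz, hfz⟩ := D.cover _ _ h5
          have h6 : f • c • y = z := D.ti _ _ _ (D.R_smul f _ _ hu) hfz fun h0 =>
            hr1 (conj_eq_one_iff.1 (conj_eq_one_iff.1 h0))
          intro b hb hb'
          exact D.inf_le i1 (h6 ▸ hz) i2 (Ne.symm h4) ⟨hb, hb'⟩
      · right
        have h4 := Re.low D F4 (a := a) ((F.mlam a).1 ha) ha1 hcR hf (h := ρ c * h * (ρ c)⁻¹) (by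
          have e : (ρ c)⁻¹ * (ρ c * h * (ρ c)⁻¹) * ρ c = h := by group
          rw [e]
          refine Subgroup.closure_mono ?_ hh
          rintro _ ⟨d, hd, _, ⟨f', hf', rfl⟩, rfl⟩
          exact ⟨f', hf', d, fun a ha => hd a ((F.mlam a).2 ha), rfl⟩) rfl rfl hg' k1 k2 k3
        intro b hb hb'
        exact h4.2.2.2 ⟨hb, hb'⟩
    intro f hf
    obtain ⟨b, hb, hbf⟩ := key ⟨f, hf, rfl⟩
    have hbq := hBW hb
    have h3 : ρ (f * b⁻¹) = 1 := by
      rw [Re.mul f (hA hf) _ (inv_mem (hA hbq)), Re.inv (hA hbq), hbf, mul_inv_cancel]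
    have h4 := hp.good (f * b⁻¹) (mul_mem hf (inv_mem hbq))
      ((Re.ker _ (mul_mem (hA hf) (inv_mem (hA hbq)))).1 h3)
    have h5 : (f * b⁻¹) • c • y = c • y :=
      D.fix_of_centralizes fun r hr => h4 r (Four.R_le_Wp D i1 i2 hr)
    have h6 : f * b⁻¹ ∈ B := subset_closure ⟨mul_mem hf (inv_mem hbq), Or.inl h5⟩
    have h7 := mul_mem h6 hb
    rwa [inv_mul_cancel_right] at h7

omit D E in
theorem smul_mem_em' {J : Subgroup H} {g : H} (hg : g ∈ J) {m : M} (hm : m ∈ em M J) : g • m ∈ em M J :=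
  smul_em hg hm

/-- **(4.0)** -/
theorem d_base (hinv : ∀ (p x : X) (m : L), inc p m → inc x m → x ≠ p → ∀ g ∈ centralizer (R p : Set G), g * g = 1 → g • x = x →
      ∀ u ∈ R x, g * u = u * g)
    (hp : ExP inc R W V n p q) (hn : 2 ≤ n) (hy : Walk inc (n - 1) q y) (hyl : inc y l)
    {Pi : Set (Subgroup H)} (hF : Flag T lam U Kh) (hP : PSq K T lam Pi) (hns : ¬ Single Pi lam) :
    ∃ x m, inc x m ∧ inc p m ∧ (∃ f ∈ W q, f • x ≠ x) ∧
      W q ≤ closure {f | f ∈ W q ∧ (f • x = x ∨ ∀ a ∈ W x, a ∈ W (f • x) → a ∈ W p)} := by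
  have Re := F.re
  have hX := hp.ex y l hy hyl F.pl
  have hA := RF.A_le D hX
  have hEx := F.exact D hX
  have hyp : y ≠ p := hp.crit.symm.ne_last (by omega) hy
  obtain ⟨J, hJ, hAJ⟩ := PSq.exists_block hP hEx
  have hJl := hP.hit _ hEx J hJ hAJ
  obtain ⟨g, hg, hmov, hgen⟩ := hP.good _ hEx J hJ hAJ
  have hκ1 : κ 1 = 1 := by
    have h1 := E.kmul 1 (one_mem _) 1 (one_mem _)
    rwa [mul_one, left_eq_mul] at h1
  refine d_of D F E hinv hp hn hy hyl hA (g := g) ?_ ?_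
  · obtain ⟨a, ha, ha1⟩ := hF.exists_ne
    obtain ⟨α, hα, hα'⟩ := hmov a ha ha1
    refine ⟨a, ha, α, hα.1, fun h0 => hα' ?_⟩
    rw [h0, mul_inv_cancel]
    exact one_mem _
  · refine (hP.prod _ hEx).trans ((closure_le _).2 ?_)
    rintro x ⟨J', hJ', hx⟩
    by_cases hJJ : J' = J
    · subst hJJ
      refine (hgen.trans ((closure_le _).2 ?_)) hx
      rintro α ⟨hα, hα'⟩
      refine subset_closure ⟨hα.1, ?_⟩
      rcases hα' with h1 | ⟨h1, h2⟩
      · left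
        intro a ha
        have h3 : ((g⁻¹ * α * g) • a) * a⁻¹ ∈ zm M J' := by
          have h4 := h1 a ha
          have e : ((g⁻¹ * α * g) • a) * a⁻¹ = g⁻¹ • ((α • g • a) * (g • a)⁻¹) := by
            rw [smul_mul', smul_inv', inv_smul_smul, mul_smul, mul_smul]
          rw [e, h4 g⁻¹ (inv_mem hg)]
          exact h4
        have h4 := PSq.st hF hP hJ ha (mul_mem (mul_mem (inv_mem hg) hα.2) hg) h3
        rw [mul_smul, mul_smul, inv_smul_eq_iff] at h4
        exact h4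
      · right
        obtain ⟨a, ha, ha1⟩ := hF.exists_ne
        refine ⟨a, ha, ha1, ?_⟩
        have hoj : oj lam (im F.re (W q) hA) J' ≤
            closure {x | ∃ c ∈ fixer lam, ∃ y ∈ im F.re (W q) hA, x = c * y * c⁻¹} := by
          refine Subgroup.closure_mono ?_
          rintro x ⟨c, hc, z, hz, rfl⟩
          exact ⟨c, hc.2, z, hz.1, rfl⟩
        rcases PSq.dich hF hP hJ hJl hns with ⟨J₂, hJ₂, hne, hJ₂l⟩ | ⟨huniq, htm⟩
        · obtain ⟨φ, hφ, h, hh, k1, k2, k3⟩ := PSq.sepA hF hP hJ hJl hJ₂ hne hJ₂l hg hα.2 h1 ha ha1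
          obtain ⟨k, hk, hk1⟩ := E.kh φ hφ
          have hcomm : ∀ u ∈ W p, φ (π u) = 1 → k * u = u * k := fun u hu h0 => by
            obtain ⟨m1, m2⟩ := hk1 u hu
            rw [h0] at m2
            exact comm_eq_one.1 (E.kker _ m1 m2.symm)
          refine ⟨h, hoj hh, k, hk, fun u hu h0 => hcomm u hu (by rw [h0]; exact k1),
            fun u hu h0 => hcomm u hu (by rw [h0]; exact k2), fun u hu h0 => ⟨(hk1 u hu).1, fun h4 => k3 ?_⟩⟩
          rw [← h0, (hk1 u hu).2, comm_eq_one.2 h4, hκ1]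
        · obtain ⟨hAJ', hlE, hTJ⟩ := PSq.uniq_case hF hP hEx hJ hJl huniq
          have hq : ∀ f ∈ W q, ρ f ∈ J' := fun f hf => hAJ' ⟨f, hf, rfl⟩
          have hgB := h2 hAJ' hlE htm hTJ (phi D Re E.kmul (em M J'))
            (fun φ hφ x hx y hy => phi_mul D Re E.kmul hφ hx hy)
            (fun φ hφ j hj => phi_inv D Re E.kmul (fun j hj e he => smul_em hj he) hφ hj)
            (fun a ha ha1 => by
              obtain ⟨φ, hφ, h0⟩ := hF.f1 a ha ha1
              exact ⟨_, kh_mem D Re E.kmul E hφ, h0⟩)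
            (fun φ hφ j hj a ha ha1 h0 b hb => phi_ti D Re E.kmul F E hyl hyp hφ ha ha1
              (smul_em hj (hlE ha)) h0 hb (smul_em hj (hlE hb)))
            (by
              by_cases hTj : ∀ t ∈ T, ∃ j ∈ J', ∀ e ∈ em M J', t • e = j • e
              · left
                obtain ⟨e₀, he₀, he₁⟩ : ∃ e ∈ tm M J', e ≠ 1 := by
                  by_contra hcon
                  push Not at hcon
                  exact htm ((eq_bot_iff_forall _).2 hcon)
                obtain ⟨u₀, hu₀, rfl⟩ := Re.psurj e₀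
                obtain ⟨g₁, hg₁, m1, m2⟩ := Re.exists_mov D (q := q) (J := J') (T := S) (E := (em M J' : Set M))
                  (fun f hf => hA hf)
                  (fun u hu h0 => hp.cen u hu fun b hb => (comm_mem_iff Re D (hA hb) hu).2 (h0 b hb)) hq
                  (by
                    refine (hP.gens _ hEx J' hJ hAJ).trans (Subgroup.closure_mono ?_)
                    rintro x ⟨c, hc, _, ⟨⟨f, hf, rfl⟩, -⟩, rfl⟩
                    exact ⟨f, hf, c, hc, rfl⟩)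
                  E.cS E.fS
                  (fun g hg => by
                    obtain ⟨j, hj, hje⟩ := hTj _ (E.ST g hg)
                    refine ⟨j, hj, fun e he => ?_⟩
                    rw [mul_smul, hje _ (smul_em (inv_mem hj) he), smul_inv_smul])
                  hu₀ (fun h0 => he₁ ((Re.pker u₀ hu₀).2 h0)) (fun i hi => he₀.2 i hi)
                obtain ⟨φ, hφ, h0⟩ := exists_phi D Re E.kmul hg₁ m1 hu₀ he₀.1 E.kker m2
                exact ⟨φ, hφ, _, he₀, h0⟩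
              · exact Or.inr hTj) a ha ha1
          obtain ⟨φ, ⟨g', hg', m1, m2⟩, h, hh, k1, k2, k3⟩ := hgB
          have e1 : g • a ∈ em M J' := smul_em hg (hlE ha)
          have e2 : (α • g • a) * (g • a)⁻¹ ∈ em M J' := comm_mem_em hα.2 _
          have hhJ : g * h * g⁻¹ ∈ J' := by
            have h5 : oj lam (im F.re (W q) hA) J' ≤ J' := by
              refine (closure_le _).2 ?_
              rintro x ⟨c, hc, y, hy, rfl⟩
              exact mul_mem (mul_mem hc.1 hy.2) (inv_mem hc.1)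
            exact mul_mem (mul_mem hg (h5 hh)) (inv_mem hg)
          have e3 := comm_mem_em hhJ ((α • g • a) * (g • a)⁻¹)
          have hcomm : ∀ u ∈ W p, π u ∈ em M J' → φ (π u) = 1 → g' * u = u * g' := fun u hu hue h0 => by
            have h5 := m2 u hu hue
            rw [h0] at h5
            exact comm_eq_one.1 (E.kker _ (mem_R D Re hg' hu (m1 _ hue)) h5.symm)
          refine ⟨h, hoj hh, g', hg', fun u hu h0 => hcomm u hu (by rw [h0]; exact e1) (by rw [h0]; exact k1),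
            fun u hu h0 => hcomm u hu (by rw [h0]; exact e2) (by rw [h0]; exact k2), fun u hu h0 => ?_⟩
          have e4 : π u ∈ em M J' := by rw [h0]; exact e3
          refine ⟨mem_R D Re hg' hu (m1 _ e4), fun h4 => k3 ?_⟩
          rw [← h0, m2 u hu e4, comm_eq_one.2 h4, hκ1]
    · refine subset_closure ⟨hx.1, Or.inl fun a ha => ?_⟩
      have h1 : x * g = g * x := hP.comm J' hJ' J hJ hJJ x hx.2 g hg
      have h2 : x • a = a := o2_le _ (hEx.le hx.1) a ha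
      rw [smul_smul, h1, mul_smul, h2]

end base

/-! ### All flags -/

section all

variable {p : X} {l : L} {ρ : G → H} {π : G → M} {T : Subgroup H} {lam U : Subgroup M}
  {Kh : Subgroup (M →* K)} {S : Subgroup G} {κ : G → K} {Pi : Set (Subgroup H)}
variable [Finite G] (D : Geom inc R W V s t) (F : RF inc R W V p l ρ π lam U)
  (E : Ext inc R W V p l ρ π T Kh S κ) (hflag : ∀ p' l', inc p' l' → ∃ g : G, p' = g • p ∧ l' = g • l)
  (hinv : ∀ (p x : X) (m : L), inc p m → inc x m → x ≠ p → ∀ g ∈ centralizer (R p : Set G), g * g = 1 → g • x = x →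
      ∀ u ∈ R x, g * u = u * g)
  (hF : Flag T lam U Kh) (hP : PSq K T lam Pi)
include D F hflag hF hP

/-- **(4.0), (6.1)** : `NS` for all flags. -/
theorem ns (E : Ext inc R W V p l ρ π T Kh S κ)
    (hinv : ∀ (p x : X) (m : L), inc p m → inc x m → x ≠ p → ∀ g ∈ centralizer (R p : Set G), g * g = 1 → g • x = x →
      ∀ u ∈ R x, g * u = u * g) (hn : 2 ≤ n)
    (hns : ¬ Single Pi lam) : NS inc R W V n where
  k1 p' l' A h y hy hne := by
    obtain ⟨g, rfl, rfl⟩ := hflag p' l' h.ql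
    exact RF.k1 D (F.smul D g) hF hP hns h hy hne
  k2 p' l' A h y hy hne := by
    obtain ⟨g, rfl, rfl⟩ := hflag p' l' h.ql
    exact RF.k2 D (F.smul D g) hF hP hns h hy hne
  d p' q' h := by
    obtain ⟨y, l', hy, hyl, hpl⟩ := h.crit.symm.last (by omega)
    obtain ⟨g, rfl, rfl⟩ := hflag p' l' hpl
    exact d_base D (F.smul D g) (E.smul D g) hinv h hn hy hyl hF hP hns

/-- **(6.2)** : `SP` for all flags. -/
theorem sp (hs : Single Pi lam) : SP inc R W V := by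
  intro p' l' A h a ha u hu
  obtain ⟨g, rfl, rfl⟩ := hflag p' l' h.ql
  exact RF.sp D (F.smul D g) hF hP hs h ha hu

end all

end Cfsg.Agent.Omega.NO3S.FarQ.Plug

end

section


/-!
# FarQ: `NS` for all flags, with a weaker hypothesis on involutions (copy of the end of `FarQ/Plug.lean`)

An involution which centralises the point `x` and fixes another point `y` on a line through `x`, centralises `y`
(`Inv`): this holds over the `(R, B)`-frame.
-/

set_option autoImplicit false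
set_option linter.unusedSectionVars false

namespace Cfsg.Agent.Omega.NO3S.FarB.Plug

open Subgroup Cfsg Cfsg.Agent.ZN Cfsg.Agent.MinSimple.VModule Cfsg.Agent.Omega.NOThree.Pts
open Cfsg.Agent.Omega.NO3S.FarQ Cfsg.Agent.Omega.NO3S.FarQ.Asm Cfsg.Agent.Omega.NO3S.FarQ.Glue
open Cfsg.Agent.Omega.NO3S.FarQ.Plug
open Cfsg.Agent.Omega.NO3S.PT (cj mem_cj conj_mem_cj)

variable {G X L : Type*} [Group G] [MulAction G X] [MulAction G L]
variable {inc : X → L → Prop} {R W : X → Subgroup G} {V : L → Subgroup G} {s t n : ℕ}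
variable {H M K : Type*} [Group H] [CommGroup M] [MulDistribMulAction H M] [CommGroup K]

/-- involutions centralising a point and fixing another one on the same line -/
def Inv (inc : X → L → Prop) (R : X → Subgroup G) : Prop :=
  ∀ (x y : X) (m : L), inc x m → inc y m → x ≠ y → ∀ g : G, g * g = 1 → g ∈ centralizer (R x : Set G) → g • y = y →
    ∀ u ∈ R y, g * u = u * g

section base

variable {p q y : X} {l : L} {ρ : G → H} {π : G → M} {T : Subgroup H} {lam U : Subgroup M}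
  {Kh : Subgroup (M →* K)} {S : Subgroup G} {κ : G → K}
variable [Finite G] (D : Geom inc R W V s t) (F : RF inc R W V p l ρ π lam U)
  (E : Ext inc R W V p l ρ π T Kh S κ)
include D F E

/-- **(4.0), the `G`-side**, from its abstract half. -/
theorem d_of (hinv : Inv inc R)
    (hp : ExP inc R W V n p q) (hn : 2 ≤ n) (hy : Walk inc (n - 1) q y) (hyl : inc y l)
    (hA : W q ≤ centralizer (R p : Set G)) {g : H}
    (h1 : ∃ a ∈ lam, ∃ α ∈ im F.re (W q) hA, α • g • a ≠ g • a)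
    (h2 : im F.re (W q) hA ≤ closure {α | α ∈ im F.re (W q) hA ∧
      ((∀ a ∈ lam, α • g • a = g • a) ∨ Sep R W p ρ π (im F.re (W q) hA) lam g α)}) :
    ∃ x m, inc x m ∧ inc p m ∧ (∃ f ∈ W q, f • x ≠ x) ∧
      W q ≤ closure {f | f ∈ W q ∧ (f • x = x ∨ ∀ a ∈ W x, a ∈ W (f • x) → a ∈ W p)} := by
  have Re := F.re
  have hyp : y ≠ p := hp.crit.symm.ne_last (by omega) hy
  have hc : Com W q y := hp.crit.symm.com_last (by omega) hy
  have F4 := flag D F E hyl hyp hc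
  obtain ⟨c, hcR, rfl⟩ := Re.surj g
  have i1 : inc (c • y) (c • l) := D.inc_smul c _ _ hyl
  have i2 : inc p (c • l) := by
    have := D.inc_smul c _ _ F.pl
    rwa [Four.fix_p D hcR] at this
  -- lifts
  have lift : ∀ a ∈ lam, ∃ u ∈ R (c • y), π u = ρ c • a := by
    intro a ha
    obtain ⟨r, hr, hra⟩ := Re.exists_lift D F4 (a := a) ((F.mlam a).1 ha)
    refine ⟨c * r * c⁻¹, D.R_smul c y r hr, ?_⟩
    rw [Re.act c hcR r (Four.R_le_Wp D hyl F.pl hr), hra]
  refine ⟨c • y, c • l, i1, i2, ?_, ?_⟩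
  · obtain ⟨a, ha, _, ⟨f, hf, rfl⟩, hne⟩ := h1
    refine ⟨f, hf, fun h0 => hne ?_⟩
    obtain ⟨u, hu, hua⟩ := lift a ha
    have hpne : p ≠ c • y := fun e => hyp (by
      have h9 := Four.fix_p D hcR
      rw [← h9] at e
      exact (smul_left_cancel c e).symm)
    have h3 := hinv p _ _ i2 i1 hpne f (D.sq q f hf) (hA hf) h0 u hu
    rw [← hua, ← Re.act f (hA hf) u (Four.R_le_Wp D i1 i2 hu), h3, mul_inv_cancel_right]
  · set B := closure {f | f ∈ W q ∧ (f • c • y = c • y ∨ ∀ a ∈ W (c • y), a ∈ W (f • c • y) → a ∈ W p)} with hB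
    have hBW : B ≤ W q := (closure_le _).2 fun f hf => hf.1
    have key : im F.re (W q) hA ≤ im F.re B (hBW.trans hA) := by
      refine h2.trans ((closure_le _).2 ?_)
      rintro _ ⟨⟨f, hf, rfl⟩, h3⟩
      refine ⟨f, subset_closure ⟨hf, ?_⟩, rfl⟩
      rcases h3 with h3 | ⟨a, ha, ha1, h, hh, g', hg', k1, k2, k3⟩
      · by_cases h4 : f • c • y = c • y
        · exact Or.inl h4
        · right
          obtain ⟨r, hr, hr1⟩ := D.exists_ne y
          have hu := D.R_smul c y r hr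
          have huW := Four.R_le_Wp D i1 i2 hu
          have hm : f * (c * r * c⁻¹) * f⁻¹ * (c * r * c⁻¹)⁻¹ ∈ R p := by
            rw [comm_mem_iff Re D (hA hf) huW, Re.act c hcR r (Four.R_le_Wp D hyl F.pl hr)]
            exact h3 _ ((F.mlam _).2 ⟨r, D.R_le y l hyl hr, rfl⟩)
          have h5 : f * (c * r * c⁻¹) * f⁻¹ ∈ V (c • l) := by
            have h6 := mul_mem (D.R_le p _ i2 hm) (D.R_le _ _ i1 hu)
            rwa [inv_mul_cancel_right] at h6
          obtain ⟨z, hz, hfz⟩ := D.cover _ _ h5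
          have h6 : f • c • y = z := D.ti _ _ _ (D.R_smul f _ _ hu) hfz fun h0 =>
            hr1 (conj_eq_one_iff.1 (conj_eq_one_iff.1 h0))
          intro b hb hb'
          exact D.inf_le i1 (h6 ▸ hz) i2 (Ne.symm h4) ⟨hb, hb'⟩
      · right
        have h4 := Re.low D F4 (a := a) ((F.mlam a).1 ha) ha1 hcR hf (h := ρ c * h * (ρ c)⁻¹) (by
          have e : (ρ c)⁻¹ * (ρ c * h * (ρ c)⁻¹) * ρ c = h := by group
          rw [e]
          refine Subgroup.closure_mono ?_ hh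
          rintro _ ⟨d, hd, _, ⟨f', hf', rfl⟩, rfl⟩
          exact ⟨f', hf', d, fun a ha => hd a ((F.mlam a).2 ha), rfl⟩) rfl rfl hg' k1 k2 k3
        intro b hb hb'
        exact h4.2.2.2 ⟨hb, hb'⟩
    intro f hf
    obtain ⟨b, hb, hbf⟩ := key ⟨f, hf, rfl⟩
    have hbq := hBW hb
    have h3 : ρ (f * b⁻¹) = 1 := by
      rw [Re.mul f (hA hf) _ (inv_mem (hA hbq)), Re.inv (hA hbq), hbf, mul_inv_cancel]
    have h4 := hp.good (f * b⁻¹) (mul_mem hf (inv_mem hbq))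
      ((Re.ker _ (mul_mem (hA hf) (inv_mem (hA hbq)))).1 h3)
    have h5 : (f * b⁻¹) • c • y = c • y :=
      D.fix_of_centralizes fun r hr => h4 r (Four.R_le_Wp D i1 i2 hr)
    have h6 : f * b⁻¹ ∈ B := subset_closure ⟨mul_mem hf (inv_mem hbq), Or.inl h5⟩
    have h7 := mul_mem h6 hb
    rwa [inv_mul_cancel_right] at h7

/-- **(4.0)** -/
theorem d_base (hinv : Inv inc R)
    (hp : ExP inc R W V n p q) (hn : 2 ≤ n) (hy : Walk inc (n - 1) q y) (hyl : inc y l)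
    {Pi : Set (Subgroup H)} (hF : Flag T lam U Kh) (hP : PSq K T lam Pi) (hns : ¬ Single Pi lam) :
    ∃ x m, inc x m ∧ inc p m ∧ (∃ f ∈ W q, f • x ≠ x) ∧
      W q ≤ closure {f | f ∈ W q ∧ (f • x = x ∨ ∀ a ∈ W x, a ∈ W (f • x) → a ∈ W p)} := by
  have Re := F.re
  have hX := hp.ex y l hy hyl F.pl
  have hA := RF.A_le D hX
  have hEx := F.exact D hX
  have hyp : y ≠ p := hp.crit.symm.ne_last (by omega) hy
  obtain ⟨J, hJ, hAJ⟩ := PSq.exists_block hP hEx
  have hJl := hP.hit _ hEx J hJ hAJ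
  obtain ⟨g, hg, hmov, hgen⟩ := hP.good _ hEx J hJ hAJ
  have hκ1 : κ 1 = 1 := by
    have h1 := E.kmul 1 (one_mem _) 1 (one_mem _)
    rwa [mul_one, left_eq_mul] at h1
  refine d_of D F E hinv hp hn hy hyl hA (g := g) ?_ ?_
  · obtain ⟨a, ha, ha1⟩ := hF.exists_ne
    obtain ⟨α, hα, hα'⟩ := hmov a ha ha1
    refine ⟨a, ha, α, hα.1, fun h0 => hα' ?_⟩
    rw [h0, mul_inv_cancel]
    exact one_mem _
  · refine (hP.prod _ hEx).trans ((closure_le _).2 ?_)
    rintro x ⟨J', hJ', hx⟩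
    by_cases hJJ : J' = J
    · subst hJJ
      refine (hgen.trans ((closure_le _).2 ?_)) hx
      rintro α ⟨hα, hα'⟩
      refine subset_closure ⟨hα.1, ?_⟩
      rcases hα' with h1 | ⟨h1, h2⟩
      · left
        intro a ha
        have h3 : ((g⁻¹ * α * g) • a) * a⁻¹ ∈ zm M J' := by
          have h4 := h1 a ha
          have e : ((g⁻¹ * α * g) • a) * a⁻¹ = g⁻¹ • ((α • g • a) * (g • a)⁻¹) := by
            rw [smul_mul', smul_inv', inv_smul_smul, mul_smul, mul_smul]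
          rw [e, h4 g⁻¹ (inv_mem hg)]
          exact h4
        have h4 := PSq.st hF hP hJ ha (mul_mem (mul_mem (inv_mem hg) hα.2) hg) h3
        rw [mul_smul, mul_smul, inv_smul_eq_iff] at h4
        exact h4
      · right
        obtain ⟨a, ha, ha1⟩ := hF.exists_ne
        refine ⟨a, ha, ha1, ?_⟩
        have hoj : oj lam (im F.re (W q) hA) J' ≤
            closure {x | ∃ c ∈ fixer lam, ∃ y ∈ im F.re (W q) hA, x = c * y * c⁻¹} := by
          refine Subgroup.closure_mono ?_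
          rintro x ⟨c, hc, z, hz, rfl⟩
          exact ⟨c, hc.2, z, hz.1, rfl⟩
        rcases PSq.dich hF hP hJ hJl hns with ⟨J₂, hJ₂, hne, hJ₂l⟩ | ⟨huniq, htm⟩
        · obtain ⟨φ, hφ, h, hh, k1, k2, k3⟩ := PSq.sepA hF hP hJ hJl hJ₂ hne hJ₂l hg hα.2 h1 ha ha1
          obtain ⟨k, hk, hk1⟩ := E.kh φ hφ
          have hcomm : ∀ u ∈ W p, φ (π u) = 1 → k * u = u * k := fun u hu h0 => by
            obtain ⟨m1, m2⟩ := hk1 u hu
            rw [h0] at m2
            exact comm_eq_one.1 (E.kker _ m1 m2.symm)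
          refine ⟨h, hoj hh, k, hk, fun u hu h0 => hcomm u hu (by rw [h0]; exact k1),
            fun u hu h0 => hcomm u hu (by rw [h0]; exact k2), fun u hu h0 => ⟨(hk1 u hu).1, fun h4 => k3 ?_⟩⟩
          rw [← h0, (hk1 u hu).2, comm_eq_one.2 h4, hκ1]
        · obtain ⟨hAJ', hlE, hTJ⟩ := PSq.uniq_case hF hP hEx hJ hJl huniq
          have hq : ∀ f ∈ W q, ρ f ∈ J' := fun f hf => hAJ' ⟨f, hf, rfl⟩
          have hgB := h2 hAJ' hlE htm hTJ (phi D Re E.kmul (em M J'))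
            (fun φ hφ x hx y hy => phi_mul D Re E.kmul hφ hx hy)
            (fun φ hφ j hj => phi_inv D Re E.kmul (fun j hj e he => smul_em hj he) hφ hj)
            (fun a ha ha1 => by
              obtain ⟨φ, hφ, h0⟩ := hF.f1 a ha ha1
              exact ⟨_, kh_mem D Re E.kmul E hφ, h0⟩)
            (fun φ hφ j hj a ha ha1 h0 b hb => phi_ti D Re E.kmul F E hyl hyp hφ ha ha1
              (smul_em hj (hlE ha)) h0 hb (smul_em hj (hlE hb)))
            (by
              by_cases hTj : ∀ t ∈ T, ∃ j ∈ J', ∀ e ∈ em M J', t • e = j • e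
              · left
                obtain ⟨e₀, he₀, he₁⟩ : ∃ e ∈ tm M J', e ≠ 1 := by
                  by_contra hcon
                  push Not at hcon
                  exact htm ((eq_bot_iff_forall _).2 hcon)
                obtain ⟨u₀, hu₀, rfl⟩ := Re.psurj e₀
                obtain ⟨g₁, hg₁, m1, m2⟩ := Re.exists_mov D (q := q) (J := J') (T := S) (E := (em M J' : Set M))
                  (fun f hf => hA hf)
                  (fun u hu h0 => hp.cen u hu fun b hb => (comm_mem_iff Re D (hA hb) hu).2 (h0 b hb)) hq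
                  (by
                    refine (hP.gens _ hEx J' hJ hAJ).trans (Subgroup.closure_mono ?_)
                    rintro x ⟨c, hc, _, ⟨⟨f, hf, rfl⟩, -⟩, rfl⟩
                    exact ⟨f, hf, c, hc, rfl⟩)
                  E.cS E.fS
                  (fun g hg => by
                    obtain ⟨j, hj, hje⟩ := hTj _ (E.ST g hg)
                    refine ⟨j, hj, fun e he => ?_⟩
                    rw [mul_smul, hje _ (smul_em (inv_mem hj) he), smul_inv_smul])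
                  hu₀ (fun h0 => he₁ ((Re.pker u₀ hu₀).2 h0)) (fun i hi => he₀.2 i hi)
                obtain ⟨φ, hφ, h0⟩ := exists_phi D Re E.kmul hg₁ m1 hu₀ he₀.1 E.kker m2
                exact ⟨φ, hφ, _, he₀, h0⟩
              · exact Or.inr hTj) a ha ha1
          obtain ⟨φ, ⟨g', hg', m1, m2⟩, h, hh, k1, k2, k3⟩ := hgB
          have e1 : g • a ∈ em M J' := smul_em hg (hlE ha)
          have e2 : (α • g • a) * (g • a)⁻¹ ∈ em M J' := comm_mem_em hα.2 _
          have hhJ : g * h * g⁻¹ ∈ J' := by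
            have h5 : oj lam (im F.re (W q) hA) J' ≤ J' := by
              refine (closure_le _).2 ?_
              rintro x ⟨c, hc, y, hy, rfl⟩
              exact mul_mem (mul_mem hc.1 hy.2) (inv_mem hc.1)
            exact mul_mem (mul_mem hg (h5 hh)) (inv_mem hg)
          have e3 := comm_mem_em hhJ ((α • g • a) * (g • a)⁻¹)
          have hcomm : ∀ u ∈ W p, π u ∈ em M J' → φ (π u) = 1 → g' * u = u * g' := fun u hu hue h0 => by
            have h5 := m2 u hu hue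
            rw [h0] at h5
            exact comm_eq_one.1 (E.kker _ (mem_R D Re hg' hu (m1 _ hue)) h5.symm)
          refine ⟨h, hoj hh, g', hg', fun u hu h0 => hcomm u hu (by rw [h0]; exact e1) (by rw [h0]; exact k1),
            fun u hu h0 => hcomm u hu (by rw [h0]; exact e2) (by rw [h0]; exact k2), fun u hu h0 => ?_⟩
          have e4 : π u ∈ em M J' := by rw [h0]; exact e3
          refine ⟨mem_R D Re hg' hu (m1 _ e4), fun h4 => k3 ?_⟩
          rw [← h0, m2 u hu e4, comm_eq_one.2 h4, hκ1]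
    · refine subset_closure ⟨hx.1, Or.inl fun a ha => ?_⟩
      have h1 : x * g = g * x := hP.comm J' hJ' J hJ hJJ x hx.2 g hg
      have h2 : x • a = a := o2_le _ (hEx.le hx.1) a ha
      rw [smul_smul, h1, mul_smul, h2]

end base

/-! ### All flags -/

section all

variable {p : X} {l : L} {ρ : G → H} {π : G → M} {T : Subgroup H} {lam U : Subgroup M}
  {Kh : Subgroup (M →* K)} {S : Subgroup G} {κ : G → K} {Pi : Set (Subgroup H)}
variable [Finite G] (D : Geom inc R W V s t) (F : RF inc R W V p l ρ π lam U)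
  (E : Ext inc R W V p l ρ π T Kh S κ) (hflag : ∀ p' l', inc p' l' → ∃ g : G, p' = g • p ∧ l' = g • l)
  (hinv : Inv inc R)
  (hF : Flag T lam U Kh) (hP : PSq K T lam Pi)
include D F hflag hF hP

/-- **(4.0), (6.1)** : `NS` for all flags. -/
theorem ns (E : Ext inc R W V p l ρ π T Kh S κ)
    (hinv : Inv inc R) (hn : 2 ≤ n)
    (hns : ¬ Single Pi lam) : NS inc R W V n where
  k1 p' l' A h y hy hne := by
    obtain ⟨g, rfl, rfl⟩ := hflag p' l' h.ql
    exact RF.k1 D (F.smul D g) hF hP hns h hy hne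
  k2 p' l' A h y hy hne := by
    obtain ⟨g, rfl, rfl⟩ := hflag p' l' h.ql
    exact RF.k2 D (F.smul D g) hF hP hns h hy hne
  d p' q' h := by
    obtain ⟨y, l', hy, hyl, hpl⟩ := h.crit.symm.last (by omega)
    obtain ⟨g, rfl, rfl⟩ := hflag p' l' hpl
    exact d_base D (F.smul D g) (E.smul D g) hinv h hn hy hyl hF hP hns

end all

end Cfsg.Agent.Omega.NO3S.FarB.Plug

end

end

-- merged: Cfsg.Agent.Mrg.Omega.NO3S.FarQ.FOne
section

section


/-!
# (F1) for `q ≥ 4` (bb OMEGA #15867)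

* `PSf` : the K-input (fields of `PSq`, and `pf`, `cent`); `PSf.of_psq`;
* `hf_of` : `PL S P V Z`, `N_G(S) ≤ N_G(V)`, a critical pair at distance `n ≥ 1`, no over-offender in `O₂(C_H(lam))` and
  `PSf` imply (F1): `¬ kx V Z ≤ C_G(V)`.
-/

set_option autoImplicit false
set_option linter.unusedSectionVars false

namespace Cfsg.Agent.Omega.NO3S.FarQ.FOne

open Subgroup Cfsg Cfsg.Agent.ZN Cfsg.Agent.MinSimple.VModule Cfsg.Agent.Omega.NO3S.PT Cfsg.Agent.Omega.NO3S.FarQ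
open Cfsg.Agent.Omega.NO3S.PtGeom (Pt exists_conj_flag)
open Cfsg.Agent.Omega.NOThree.Pts (Walk Com Crit mem_normalizer_of_conj conj_mem_of_le_normalizer)
open Cfsg.Agent.ClassTwoFusion.Quad (cv mem_cv cv_anti)
open scoped Pointwise

/-! ### The K-input -/

section kin

variable {H M : Type*} [Group H] [CommGroup M] [MulDistribMulAction H M]

/-- **The K-input for (F1), `q ≥ 4`.** -/
structure PSf (T : Subgroup H) (lam : Subgroup M) (Pi : Set (Subgroup H)) : Prop where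
  conj : ∀ J ∈ Pi, ∀ h : H, cj h J ∈ Pi
  comm : ∀ J ∈ Pi, ∀ J' ∈ Pi, J ≠ J' → ∀ x ∈ J, ∀ y ∈ J', x * y = y * x
  em_le : ∀ J ∈ Pi, ∀ J' ∈ Pi, J ≠ J' → em M J ≤ zm M J'
  pf : ∀ J ∈ Pi, J ≤ ⁅J, J⁆
  tor : ∀ J ∈ Pi, ¬ lam ≤ zm M J → ∃ θ ∈ J, (∀ t ∈ T, cj t J = J → t * θ * t⁻¹ * θ⁻¹ ∈ T ⊓ J) ∧
    ∀ a ∈ lam, (θ • a) * a⁻¹ ∈ zm M J → a = 1
  prod : ∀ A : Subgroup H, Exact lam A → A ≤ closure {x | ∃ J ∈ Pi, x ∈ A ⊓ J}
  hit : ∀ A : Subgroup H, Exact lam A → ∀ J ∈ Pi, A ⊓ J ≠ ⊥ → ¬ lam ≤ zm M J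
  cent : ∀ A : Subgroup H, Exact lam A → ∀ J ∈ Pi, A ⊓ J ≠ ⊥ → T ⊓ J ≤ A ∨ ∃ C ≤ J, T ⊓ J ≤ ⁅C, C⁆ ∧
    ∀ m ∈ em M J, (∀ t ∈ T ⊓ J, t • m = m) → ∀ c ∈ C, (c • m) * m⁻¹ ∈ zm M J

theorem PSf.of_psq {R : Type*} [CommGroup R] {T : Subgroup H} {lam : Subgroup M} {Pi : Set (Subgroup H)}
    (h : PSq R T lam Pi) (pf : ∀ J ∈ Pi, J ≤ ⁅J, J⁆)
    (cent : ∀ A : Subgroup H, Exact lam A → ∀ J ∈ Pi, A ⊓ J ≠ ⊥ → T ⊓ J ≤ A ∨ ∃ C ≤ J, T ⊓ J ≤ ⁅C, C⁆ ∧
      ∀ m ∈ em M J, (∀ t ∈ T ⊓ J, t • m = m) → ∀ c ∈ C, (c • m) * m⁻¹ ∈ zm M J) : PSf T lam Pi :=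
  ⟨h.conj, h.comm, h.em_le, pf, h.tor, h.prod, h.hit, cent⟩

theorem PSf.kdat {T : Subgroup H} {lam : Subgroup M} {Pi : Set (Subgroup H)} (h : PSf T lam Pi)
    {A : Subgroup H} (hA : Exact lam A) : ∃ J, FOneAbs.KDat T A J lam Pi := by
  obtain ⟨J, hJ, hne⟩ : ∃ J ∈ Pi, A ⊓ J ≠ ⊥ := by
    by_contra hcon
    push Not at hcon
    apply hA.ne
    rw [eq_bot_iff]
    refine (h.prod A hA).trans ?_
    rw [closure_le]
    rintro x ⟨J, hJ, hx⟩
    rw [hcon J hJ] at hx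
    exact hx
  exact ⟨J, hJ, h.conj, h.comm, h.em_le, h.pf J hJ, h.tor J hJ (h.hit A hA J hJ hne), h.prod A hA,
    h.cent A hA J hJ hne⟩

end kin

variable {G : Type*} [Group G]

/-! ### Offenders at a flag -/

/-- `B ≤ O₂(C_G(L))` is elementary abelian and normalised by the action on `ws V X`. -/
structure Off (V L X B : Subgroup G) : Prop where
  le : B ≤ o2 (centralizer (L : Set G))
  comm : ∀ a ∈ B, ∀ b ∈ B, a * b = b * a
  sq : ∀ a ∈ B, a * a = 1
  nor : ∀ b ∈ B, ∀ w ∈ ws V X, b * w * b⁻¹ * w⁻¹ ∈ B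

theorem Off.conj {V L X B : Subgroup G} (h : Off V L X B) (g : G) : Off V (cj g L) (cj g X) (cj g B) where
  le := by
    rw [← cj_centralizer]
    have := MinSimple.CosetFam.o2_conj g (centralizer (L : Set G))
    rw [this]
    exact cj_le_cj.2 h.le
  comm := by
    intro a ha b hb
    rw [mem_cj] at ha hb
    have h1 := congrArg (fun t => g * t * g⁻¹) (h.comm _ ha _ hb)
    simpa [mul_assoc] using h1
  sq := by
    intro a ha
    rw [mem_cj] at ha
    have h1 := congrArg (fun t => g * t * g⁻¹) (h.sq _ ha)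
    simpa [mul_assoc] using h1
  nor := by
    intro b hb w hw
    rw [ws_cj] at hw
    rw [mem_cj] at hb hw ⊢
    have h1 := h.nor _ hb _ hw
    have e : g⁻¹ * b * g * (g⁻¹ * w * g) * (g⁻¹ * b * g)⁻¹ * (g⁻¹ * w * g)⁻¹ = g⁻¹ * (b * w * b⁻¹ * w⁻¹) * g := by
      group
    rwa [e] at h1

section base

variable {H M : Type*} [Group H] [CommGroup M] [MulDistribMulAction H M]
variable {V Z : Subgroup G} {ρ : G → H} {π : G → M} (r : Real V Z ρ π)
include r

/-- the restriction of `ρ` -/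
def rh : centralizer (Z : Set G) →* H := MonoidHom.mk' (fun a => ρ a) fun a b => r.mulρ a a.2 b b.2

/-- the restriction of `π` -/
def ph : ws V Z →* M := MonoidHom.mk' (fun a => π a) fun a b => r.mulπ a a.2 b b.2

/-- the image of `B ≤ C_G(Z)` -/
def img {B : Subgroup G} (hB : B ≤ centralizer (Z : Set G)) : Subgroup H := ((rh r).comp (inclusion hB)).range

theorem mem_img {B : Subgroup G} {hB : B ≤ centralizer (Z : Set G)} {x : H} :
    x ∈ img r hB ↔ ∃ b ∈ B, ρ b = x := by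
  constructor
  · rintro ⟨b, rfl⟩
    exact ⟨b, b.2, rfl⟩
  · rintro ⟨b, hb, rfl⟩
    exact ⟨⟨b, hb⟩, rfl⟩

theorem mem_img_of {B : Subgroup G} {hB : B ≤ centralizer (Z : Set G)} {b : G} (hb : b ∈ B) : ρ b ∈ img r hB :=
  (mem_img r).2 ⟨b, hb, rfl⟩

theorem rho_one : ρ 1 = 1 := (rh r).map_one

theorem rho_inv {a : G} (ha : a ∈ centralizer (Z : Set G)) : ρ a⁻¹ = (ρ a)⁻¹ := (rh r).map_inv ⟨a, ha⟩

theorem pi_inv {a : G} (ha : a ∈ ws V Z) : π a⁻¹ = (π a)⁻¹ := (ph r).map_inv ⟨a, ha⟩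

theorem card_img [Finite G] {B : Subgroup G} (hB : B ≤ centralizer (Z : Set G)) :
    Nat.card (img r hB) = (kx V Z).relIndex B := by
  rw [img, ← index_ker, relIndex]
  congr 1
  ext b
  rw [MonoidHom.mem_ker, mem_subgroupOf]
  exact r.kerρ b (hB b.2)

/-- `ρ` is constant modulo `C_G(W)` -/
theorem eq_of_rho {a b : G} (ha : a ∈ centralizer (Z : Set G)) (hb : b ∈ centralizer (Z : Set G))
    (hkc : kx V Z ≤ centralizer (ws V Z : Set G)) (e : ρ a = ρ b) {w : G} (hw : w ∈ ws V Z) :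
    a * w * a⁻¹ = b * w * b⁻¹ := by
  have h1 : ρ (b⁻¹ * a) = 1 := by
    rw [r.mulρ _ (inv_mem hb) _ ha, rho_inv r hb, e, inv_mul_cancel]
  have h2 := hkc ((r.kerρ _ (mul_mem (inv_mem hb) ha)).1 h1)
  have h3 := mem_centralizer_iff.1 h2 w hw
  calc a * w * a⁻¹ = b * ((b⁻¹ * a) * w) * a⁻¹ := by group
    _ = b * (w * (b⁻¹ * a)) * a⁻¹ := by rw [h3]
    _ = b * w * b⁻¹ := by group

theorem cent_conj {a w : G} (ha : a ∈ centralizer (Z : Set G)) (hw : w ∈ ws V Z) : a * w * a⁻¹ ∈ ws V Z :=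
  (mem_normalizer_iff.1 (normalizer_le_ws V Z (centralizer_le_normalizer _ ha)) w).1 hw

end base

section main

variable [Finite G] {S : Sylow 2 G} {P V Z : Subgroup G} (h : PL S P V Z)
variable {H M : Type*} [Group H] [CommGroup M] [MulDistribMulAction H M] {ρ : G → H} {π : G → M}
include h

/-- `K_Z` centralises all lines on `Z` if it centralises one. -/
theorem kx_le (hf : kx V Z ≤ centralizer (V : Set G)) : kx V Z ≤ centralizer (ws V Z : Set G) := by
  have h1 : ws V Z ≤ centralizer (kx V Z : Set G) := by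
    refine ws_le fun L hL hZL => ?_
    obtain ⟨g, h1, rfl⟩ := exists_conj_flag h h.isCj_self hL hZL
    have h2 : cj g (kx V Z) = kx V Z := by rw [← kx_cj, ← h1]
    rw [← h2, ← cj_centralizer, cj_le_cj]
    intro v hv
    exact mem_centralizer_iff.2 fun k hk => (mem_centralizer_iff.1 (hf hk) v hv).symm
  intro k hk
  exact mem_centralizer_iff.2 fun w hw => (mem_centralizer_iff.1 (h1 hw) k hk).symm

theorem kx_eq (hf : kx V Z ≤ centralizer (V : Set G)) : kx V Z = centralizer (ws V Z : Set G) := by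
  refine le_antisymm (kx_le h hf) fun g hg => ⟨fun z hz => ?_, fun w hw => ?_⟩
  · exact (mem_centralizer_iff.1 hg z (h.Z_le_ws hz)).symm
  · rw [(mem_centralizer_iff.1 hg w hw).symm, mul_inv_cancel_right, mul_inv_cancel]
    exact one_mem _

theorem Off.le_cent {B : Subgroup G} (hB : Off V V Z B) : B ≤ centralizer (Z : Set G) :=
  hB.le.trans ((o2_le _).trans (centralizer_le h.ZV))

/-- `lam` -/
theorem ph_V_mem (r : Real V Z ρ π) {m : M} :
    m ∈ (V.subgroupOf (ws V Z)).map (ph r) ↔ ∃ v ∈ V, π v = m := by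
  constructor
  · rintro ⟨v, hv, rfl⟩
    exact ⟨v, hv, rfl⟩
  · rintro ⟨v, hv, rfl⟩
    exact ⟨⟨v, h.V_le_ws h.ZV hv⟩, hv, rfl⟩

variable (r : Real V Z ρ π)

/-- elements over `C_H(lam)` -/
theorem lift_fixer {x : H} (hx : x ∈ fixer ((V.subgroupOf (ws V Z)).map (ph r))) :
    ∃ a ∈ centralizer (Z : Set G), ρ a = x ∧ a ∈ normalizer (V : Set G) ∧
      ∃ s ∈ (S : Subgroup G), s * a ∈ centralizer (V : Set G) := by
  obtain ⟨a, ha, rfl⟩ := r.surjρ x
  obtain ⟨Y, hY, hYV, hne⟩ := h.exists_second h.isCj_self h.ZV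
  obtain ⟨v, hv, hv1⟩ := h.pt_ne_bot hY
  have hvZ : v ∉ Z := fun e => hne (h.pts_eq hY h.isCj_self hv e hv1)
  have hvW : v ∈ ws V Z := h.V_le_ws h.ZV (hYV hv)
  have h1 : π (a * v * a⁻¹) = π v := by
    rw [r.act a ha v hvW]
    exact hx (π v) ((ph_V_mem h r).2 ⟨v, hYV hv, rfl⟩)
  have h2 : a * v * a⁻¹ * v⁻¹ ∈ Z := by
    have h3 := cent_conj r ha hvW
    rw [← r.kerπ _ (mul_mem h3 (inv_mem hvW)), r.mulπ _ h3 _ (inv_mem hvW), pi_inv r hvW, h1, mul_inv_cancel]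
  have hz : ∀ z ∈ Z, a * z = z * a := fun z hz => (mem_centralizer_iff.1 ha z hz).symm
  exact ⟨a, ha, rfl, h.mem_normalizer_of_lin hz (hYV hv) hvZ h2, h.lin' hz (hYV hv) hvZ h2⟩

omit [Finite G] h in
theorem o2_conj_of_norm {a : G} (haN : a ∈ normalizer (V : Set G)) :
    cj a (o2 (centralizer (V : Set G))) = o2 (centralizer (V : Set G)) := by
  have h3 : MulAut.conj a • centralizer (V : Set G) = centralizer (V : Set G) := by
    have := cj_centralizer a V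
    rwa [cj_eq_iff.2 haN] at this
  have h4 := MinSimple.CosetFam.o2_conj a (centralizer (V : Set G))
  rw [h3] at h4
  exact h4.symm

omit r in
theorem o2_le_S : o2 (centralizer (V : Set G)) ≤ (S : Subgroup G) := by
  have : Fact (Nat.Prime 2) := ⟨Nat.prime_two⟩
  have hSN : (S : Subgroup G) ≤ normalizer ((o2 (centralizer (V : Set G)) : Subgroup G) : Set G) := fun s hs =>
    cj_eq_iff.1 (o2_conj_of_norm (h.PN (h.SP hs)))
  have h1 : IsPGroup 2 ((S : Subgroup G) ⊔ o2 (centralizer (V : Set G)) : Subgroup G) :=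
    S.isPGroup'.to_sup_of_normal_right' (o2_isPGroup _) hSN
  have h2 := S.is_maximal' h1 le_sup_left
  rw [← h2]
  exact le_sup_right

/-- the image of `B ≤ O₂(C_G(V))` is in `O₂(C_H(lam))` -/
theorem img_le {B : Subgroup G} (hB : Off V V Z B) :
    img r (Off.le_cent h hB) ≤ o2 (fixer ((V.subgroupOf (ws V Z)).map (ph r))) := by
  have hC : o2 (centralizer (V : Set G)) ≤ centralizer (Z : Set G) := (o2_le _).trans (centralizer_le h.ZV)
  have h1 : img r (Off.le_cent h hB) ≤ img r hC := by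
    intro x hx
    obtain ⟨b, hb, rfl⟩ := (mem_img r).1 hx
    exact mem_img_of r (hB.le hb)
  refine h1.trans (le_o2 ?_ ?_ ?_)
  · intro x hx m hm
    obtain ⟨b, hb, rfl⟩ := (mem_img r).1 hx
    obtain ⟨v, hv, rfl⟩ := (ph_V_mem h r).1 hm
    rw [← r.act b (hC hb) v (h.V_le_ws h.ZV hv)]
    congr 1
    rw [← mem_centralizer_iff.1 (o2_le _ hb) v hv, mul_inv_cancel_right]
  · exact IsPGroup.of_surjective (o2_isPGroup (centralizer (V : Set G))) ((rh r).comp (inclusion hC)).rangeRestrict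
      (MonoidHom.rangeRestrict_surjective _)
  · refine mem_normalizer_of_conj fun x hx y hy => ?_
    obtain ⟨a, ha, rfl, haN, -⟩ := lift_fixer h r hx
    obtain ⟨b, hb, rfl⟩ := (mem_img r).1 hy
    rw [← rho_inv r ha, ← r.mulρ a ha b (hC hb), ← r.mulρ _ (mul_mem ha (hC hb)) _ (inv_mem ha)]
    refine mem_img_of r ?_
    rw [← o2_conj_of_norm haN]
    exact conj_mem_cj hb

/-- the image of `S` -/
def tt : Subgroup H := img r h.S_le

omit h in
theorem finite_H (r : Real V Z ρ π) : Finite H := by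
  refine Finite.of_surjective (fun a : centralizer (Z : Set G) => ρ a) fun x => ?_
  obtain ⟨a, ha, hx⟩ := r.surjρ x
  exact ⟨⟨a, ha⟩, hx⟩

/-- `N_H(T)` comes from `N_G(V)` -/
theorem norm_V (hf : kx V Z ≤ centralizer (V : Set G))
    (hN : normalizer ((S : Subgroup G) : Set G) ≤ normalizer (V : Set G)) {a : G}
    (ha : a ∈ centralizer (Z : Set G)) (hx : ρ a ∈ normalizer (tt h r : Set H)) : a ∈ normalizer (V : Set G) := by
  -- the preimage of `T`
  let N : Subgroup G := ((tt h r).comap (rh r)).map (centralizer (Z : Set G)).subtype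
  have hNm : ∀ b, b ∈ N ↔ b ∈ centralizer (Z : Set G) ∧ ρ b ∈ tt h r := by
    intro b
    constructor
    · rintro ⟨c, hc, rfl⟩
      exact ⟨c.2, hc⟩
    · rintro ⟨hb, hb'⟩
      exact ⟨⟨b, hb⟩, hb', rfl⟩
  have hSN : (S : Subgroup G) ≤ N := fun s hs => (hNm s).2 ⟨h.S_le hs, mem_img_of r hs⟩
  have hSN' : ((a • S : Sylow 2 G) : Subgroup G) ≤ N := by
    intro b hb
    have hb' : a⁻¹ * b * a ∈ (S : Subgroup G) := mem_cj.1 hb
    have h1 := (hNm _).2 ⟨h.S_le hb', mem_img_of r hb'⟩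
    have h2 : b = a * (a⁻¹ * b * a) * a⁻¹ := by group
    have h3 : b ∈ centralizer (Z : Set G) := by
      rw [h2]
      exact mul_mem (mul_mem ha (h.S_le hb')) (inv_mem ha)
    refine (hNm b).2 ⟨h3, ?_⟩
    have h4 := (mem_normalizer_iff.1 hx (ρ (a⁻¹ * b * a))).1 (mem_img_of r hb')
    rw [← rho_inv r ha, ← r.mulρ a ha _ (h.S_le hb'), ← r.mulρ _ (mul_mem ha (h.S_le hb')) _ (inv_mem ha),
      ← h2] at h4
    exact h4
  have hNV : N ≤ normalizer (V : Set G) := by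
    intro b hb
    obtain ⟨hb1, hb2⟩ := (hNm b).1 hb
    obtain ⟨s, hs, hsb⟩ := (mem_img r).1 hb2
    have hsC := h.S_le hs
    have h1 : s⁻¹ * b ∈ kx V Z := by
      rw [← r.kerρ _ (mul_mem (inv_mem hsC) hb1), r.mulρ _ (inv_mem hsC) _ hb1, rho_inv r hsC, hsb,
        inv_mul_cancel]
    have h2 : b = s * (s⁻¹ * b) := by group
    rw [h2]
    exact mul_mem (h.PN (h.SP hs)) (centralizer_le_normalizer _ (hf h1))
  obtain ⟨m, hm, hmS⟩ := exists_conj hSN hSN'
  have h1 : cj m (S : Subgroup G) = cj a (S : Subgroup G) := hmS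
  have h2 : m⁻¹ * a ∈ normalizer ((S : Subgroup G) : Set G) := by
    rw [← cj_eq_iff, ← cj_cj, ← h1, cj_cj, inv_mul_cancel, cj_one]
  have h3 : a = m * (m⁻¹ * a) := by group
  rw [h3]
  exact mul_mem (hNV hm) (hN h2)

omit [Finite G] h r in
theorem le_of_index_le {W : Type*} [Group W] [Finite W] {D C : Subgroup W} (hDC : D ≤ C)
    (he : D.index ≤ C.index) : C ≤ D := by
  have h1 := relIndex_mul_index hDC
  have h2 : C.index ≠ 0 := index_ne_zero_of_finite
  have h3 : D.relIndex C ≠ 0 := by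
    rw [relIndex]
    exact index_ne_zero_of_finite
  have h4 : D.relIndex C * C.index ≤ 1 * C.index := by rw [one_mul, h1]; exact he
  have h5 := Nat.le_of_mul_le_mul_right h4 (Nat.pos_of_ne_zero h2)
  exact relIndex_eq_one.1 (by omega)

/-- **The contradiction at the base flag.** -/
theorem false_base (hf : kx V Z ≤ centralizer (V : Set G))
    (hN : normalizer ((S : Subgroup G) : Set G) ≤ normalizer (V : Set G)) {B : Subgroup G} (hB : Off V V Z B)
    (hne : ¬ B ≤ centralizer (ws V Z : Set G))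
    (hle : (centralizer (B : Set G)).relIndex (ws V Z) ≤ (centralizer (ws V Z : Set G)).relIndex B)
    (hNO : ∀ A : Subgroup H, A ≤ o2 (fixer ((V.subgroupOf (ws V Z)).map (ph r))) →
      (∀ a ∈ A, ∀ b ∈ A, a * b = b * a) → (∀ a ∈ A, a * a = 1) →
      (∀ a ∈ A, ∀ b ∈ A, ∀ m : M, b • ((a • m) * m⁻¹) = (a • m) * m⁻¹) → Nat.card A ≤ (zm M A).index)
    {Pi : Set (Subgroup H)} (hK : PSf (tt h r) ((V.subgroupOf (ws V Z)).map (ph r)) Pi) : False := by
  have hBC := Off.le_cent h hB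
  set A := img r hBC with hA
  have hkc := kx_le h hf
  have hke := kx_eq h hf
  have hcard : Nat.card A = (centralizer (ws V Z : Set G)).relIndex B := by rw [hA, card_img r hBC, hke]
  have hcomm : ∀ a ∈ A, ∀ b ∈ A, a * b = b * a := by
    intro x hx y hy
    obtain ⟨a, ha, rfl⟩ := (mem_img r).1 hx
    obtain ⟨b, hb, rfl⟩ := (mem_img r).1 hy
    rw [← r.mulρ _ (hBC ha) _ (hBC hb), ← r.mulρ _ (hBC hb) _ (hBC ha), hB.comm a ha b hb]
  have hsq : ∀ a ∈ A, a * a = 1 := by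
    intro x hx
    obtain ⟨a, ha, rfl⟩ := (mem_img r).1 hx
    rw [← r.mulρ _ (hBC ha) _ (hBC ha), hB.sq a ha, rho_one r]
  have hact : ∀ a ∈ B, ∀ w ∈ ws V Z, (ρ a • π w) * (π w)⁻¹ = π (a * w * a⁻¹ * w⁻¹) := by
    intro a ha w hw
    rw [← r.act a (hBC ha) w hw, ← pi_inv r hw, ← r.mulπ _ (cent_conj r (hBC ha) hw) _ (inv_mem hw)]
  have hcW : ∀ a ∈ B, ∀ w ∈ ws V Z, a * w * a⁻¹ * w⁻¹ ∈ ws V Z := fun a ha w hw =>
    mul_mem (cent_conj r (hBC ha) hw) (inv_mem hw)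
  have hquad : ∀ a ∈ A, ∀ b ∈ A, ∀ m : M, b • ((a • m) * m⁻¹) = (a • m) * m⁻¹ := by
    intro x hx y hy m
    obtain ⟨a, ha, rfl⟩ := (mem_img r).1 hx
    obtain ⟨b, hb, rfl⟩ := (mem_img r).1 hy
    obtain ⟨w, hw, rfl⟩ := r.surjπ m
    rw [hact a ha w hw, ← r.act b (hBC hb) _ (hcW a ha w hw), hB.comm b hb _ (hB.nor a ha w hw),
      mul_inv_cancel_right]
  have hAle : A ≤ o2 (fixer ((V.subgroupOf (ws V Z)).map (ph r))) := img_le h r hB
  have h1 := hNO A hAle hcomm hsq hquad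
  have hsurj : Function.Surjective (ph r) := fun m => by
    obtain ⟨w, hw, rfl⟩ := r.surjπ m
    exact ⟨⟨w, hw⟩, rfl⟩
  have h2 := index_comap_of_surjective (zm M A) hsurj
  have h3 : (centralizer (B : Set G)).subgroupOf (ws V Z) ≤ (zm M A).comap (ph r) := by
    intro w hw
    rw [mem_comap, mem_cv]
    intro x hx
    obtain ⟨a, ha, rfl⟩ := (mem_img r).1 hx
    have h4 := hact a ha w w.2
    have h5 : a * w * a⁻¹ * (w : G)⁻¹ = 1 := by
      have h6 := mem_centralizer_iff.1 (mem_subgroupOf.1 hw) a ha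
      rw [h6, mul_inv_cancel_right, mul_inv_cancel]
    rw [h5] at h4
    have h7 : π 1 = 1 := (ph r).map_one
    rw [h7, mul_inv_eq_one] at h4
    exact h4
  have h4 : ((zm M A).comap (ph r)).index ≤ ((centralizer (B : Set G)).subgroupOf (ws V Z)).index :=
    Nat.le_of_dvd (Nat.pos_of_ne_zero index_ne_zero_of_finite) (index_dvd_of_le h3)
  have h5 : ((centralizer (B : Set G)).subgroupOf (ws V Z)).index ≤ Nat.card A := by
    rw [hcard]; exact hle
  have h6 : (zm M A).comap (ph r) ≤ (centralizer (B : Set G)).subgroupOf (ws V Z) :=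
    le_of_index_le h3 (by omega)
  have hex : Exact ((V.subgroupOf (ws V Z)).map (ph r)) A := by
    refine ⟨fun e => hne fun b hb => ?_, hAle, hcomm, hsq, hquad, by omega⟩
    have h7 : ρ b ∈ A := mem_img_of r hb
    rw [e, mem_bot] at h7
    exact hkc ((r.kerρ b (hBC hb)).1 h7)
  obtain ⟨J, hJ⟩ := hK.kdat hex
  -- the action on `W`
  choose σ hσ1 hσ2 using r.surjρ
  let _ : CommGroup (ws V Z) :=
    { (inferInstance : Group (ws V Z)) with
      mul_comm := fun a b => Subtype.ext (mem_centralizer_iff.1 (h.Wcomm b.2) a a.2) }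
  let _ : MulDistribMulAction H (ws V Z) :=
    { smul := fun x w => ⟨σ x * w * (σ x)⁻¹, cent_conj r (hσ1 x) w.2⟩
      one_smul := fun w => Subtype.ext (by
        show σ 1 * (w : G) * (σ 1)⁻¹ = w
        rw [eq_of_rho r (hσ1 1) (one_mem _) hkc ((hσ2 1).trans (rho_one r).symm) w.2]
        group)
      mul_smul := fun x y w => Subtype.ext (by
        show σ (x * y) * (w : G) * (σ (x * y))⁻¹ = σ x * (σ y * w * (σ y)⁻¹) * (σ x)⁻¹
        rw [eq_of_rho r (hσ1 (x * y)) (mul_mem (hσ1 x) (hσ1 y)) hkc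
          (by rw [hσ2, r.mulρ _ (hσ1 x) _ (hσ1 y), hσ2, hσ2]) w.2]
        group)
      smul_mul := fun x w w' => Subtype.ext (by
        show σ x * ((w : G) * w') * (σ x)⁻¹ = σ x * w * (σ x)⁻¹ * (σ x * w' * (σ x)⁻¹)
        group)
      smul_one := fun x => Subtype.ext (by
        show σ x * (1 : G) * (σ x)⁻¹ = 1
        group) }
  have hsm : ∀ a ∈ centralizer (Z : Set G), ∀ w : ws V Z, ((ρ a • w : ws V Z) : G) = a * w * a⁻¹ := by
    intro a ha w
    show σ (ρ a) * (w : G) * (σ (ρ a))⁻¹ = a * w * a⁻¹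
    exact eq_of_rho r (hσ1 _) ha hkc (hσ2 _) w.2
  have D : FOneAbs.Dat (tt h r) (V.subgroupOf (ws V Z)) (Z.subgroupOf (ws V Z)) (ph r) := by
    refine ⟨finite_H r, fun w => r.kerπ w w.2, ?_, ?_, ?_, ?_, ?_, ?_, ?_⟩
    · intro x w
      show π (σ x * w * (σ x)⁻¹) = x • π w
      rw [r.act _ (hσ1 x) w w.2, hσ2]
    · intro x w hw
      refine Subtype.ext ?_
      show σ x * (w : G) * (σ x)⁻¹ = w
      rw [← mem_centralizer_iff.1 (hσ1 x) w hw, mul_inv_cancel_right]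
    · intro t ht v hv
      obtain ⟨s, hs, rfl⟩ := (mem_img r).1 ht
      rw [mem_subgroupOf]
      show ((ρ s • v : ws V Z) : G) * (v : G)⁻¹ ∈ Z
      rw [hsm s (h.S_le hs)]
      exact h.act s hs v hv
    · intro w hw
      exact h.ZV hw
    · intro t ht v hv hvZ e u hu
      obtain ⟨s, hs, rfl⟩ := (mem_img r).1 ht
      have e1 := congrArg Subtype.val e
      rw [hsm s (h.S_le hs)] at e1
      refine Subtype.ext ?_
      rw [hsm s (h.S_le hs)]
      have e2 := h.free s hs v hv (fun e => hvZ e) (mul_inv_eq_iff_eq_mul.1 e1) u hu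
      rw [e2, mul_inv_cancel_right]
    · obtain ⟨Y, hY, hYV, hYne⟩ := h.exists_second h.isCj_self h.ZV
      obtain ⟨v, hv, hv1⟩ := h.pt_ne_bot hY
      have hvZ : v ∉ Z := fun e => hYne (h.pts_eq hY h.isCj_self hv e hv1)
      obtain ⟨z, hz, hz1⟩ := h.pt_ne_bot h.isCj_self
      obtain ⟨s, hs, hsz⟩ := h.full v (hYV hv) hvZ z hz
      refine ⟨ρ s, mem_img_of r hs, ⟨v, h.V_le_ws h.ZV (hYV hv)⟩, hYV hv, fun e => hz1 ?_⟩
      have e1 := congrArg Subtype.val e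
      rw [hsm s (h.S_le hs)] at e1
      rw [← hsz, mul_inv_eq_one]
      exact e1
    · intro x hx v hv
      have h7 := norm_V h r hf hN (hσ1 x) (by rw [hσ2]; exact hx)
      rw [mem_subgroupOf]
      show σ x * (v : G) * (σ x)⁻¹ ∈ V
      exact (mem_normalizer_iff.1 h7 v).1 hv
  refine D.false_of hJ ?_ ?_
  · intro x hx
    obtain ⟨b, hb, rfl⟩ := (mem_img r).1 hx
    exact mem_img_of r (o2_le_S h (hB.le hb))
  · intro w hw x hx
    obtain ⟨b, hb, rfl⟩ := (mem_img r).1 hx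
    have h7 : w ∈ (zm M A).comap (ph r) := by
      rw [mem_comap, mem_cv]
      exact hw
    have h8 := mem_centralizer_iff.1 (mem_subgroupOf.1 (h6 h7)) b hb
    refine Subtype.ext ?_
    rw [hsm b (hBC hb), h8, mul_inv_cancel_right]

/-! ### Critical pairs -/

omit r

/-- `W_x` at the last flag of the walk from `x` to `y` -/
theorem off_of_crit {n : ℕ} (hn : 1 ≤ n) {x y : Pt Z}
    (hc : Crit (PtGeom.inc (Z := Z) (V := V)) (fun x : Pt Z => ws V x.sg) n x y) :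
    ∃ g : G, y.sg = cj g Z ∧ Off V (cj g V) (cj g Z) (ws V x.sg) := by
  have D := FOneGeo.geo h
  obtain ⟨c, l, hw, hcl, hyl⟩ := hc.last hn
  obtain ⟨c', l', hw', hcl', hxl'⟩ := hc.symm.last hn
  obtain ⟨g, hg1, hg2⟩ := exists_conj_flag h y.isCj l.isCj hyl
  refine ⟨g, hg1, ?_⟩
  rw [← hg1, ← hg2]
  have hcom : Com (fun x : Pt Z => ws V x.sg) x c := hc.com_last hn hw
  have hcom' : Com (fun x : Pt Z => ws V x.sg) y c' := hc.symm.com_last hn hw'
  refine ⟨D.low_line hc.min hw (by omega) hcom hcl, D.comm x, D.sq x, fun b hb w hw1 => ?_⟩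
  have h1 : w • x = x := D.fix_of_centralizes fun a ha =>
    hcom' w hw1 a (D.V_le c' l' hcl' (D.R_le x l' hxl' ha))
  have e : b * w * b⁻¹ * w⁻¹ = b * (w * b⁻¹ * w⁻¹) := by group
  rw [e]
  exact mul_mem hb (D.norm_W h1 (inv_mem hb))

omit h [Finite G] in
theorem cent_relIndex_conj (g : G) (A B : Subgroup G) :
    (centralizer ((cj g A : Subgroup G) : Set G)).relIndex (cj g B) = (centralizer (A : Set G)).relIndex B := by
  rw [← cj_centralizer]
  exact relIndex_pointwise_smul _ _ _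

include r

/-- the inequality at the base flag -/
theorem relIndex_le (hf : kx V Z ≤ centralizer (V : Set G)) {B : Subgroup G} (hB : Off V V Z B)
    (hNO : ∀ A : Subgroup H, A ≤ o2 (fixer ((V.subgroupOf (ws V Z)).map (ph r))) →
      (∀ a ∈ A, ∀ b ∈ A, a * b = b * a) → (∀ a ∈ A, a * a = 1) →
      (∀ a ∈ A, ∀ b ∈ A, ∀ m : M, b • ((a • m) * m⁻¹) = (a • m) * m⁻¹) → Nat.card A ≤ (zm M A).index) :
    (centralizer (ws V Z : Set G)).relIndex B ≤ (centralizer (B : Set G)).relIndex (ws V Z) := by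
  have hBC := Off.le_cent h hB
  set A := img r hBC with hA
  have hke := kx_eq h hf
  have hcard : Nat.card A = (centralizer (ws V Z : Set G)).relIndex B := by rw [hA, card_img r hBC, hke]
  have hcomm : ∀ a ∈ A, ∀ b ∈ A, a * b = b * a := by
    intro x hx y hy
    obtain ⟨a, ha, rfl⟩ := (mem_img r).1 hx
    obtain ⟨b, hb, rfl⟩ := (mem_img r).1 hy
    rw [← r.mulρ _ (hBC ha) _ (hBC hb), ← r.mulρ _ (hBC hb) _ (hBC ha), hB.comm a ha b hb]
  have hsq : ∀ a ∈ A, a * a = 1 := by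
    intro x hx
    obtain ⟨a, ha, rfl⟩ := (mem_img r).1 hx
    rw [← r.mulρ _ (hBC ha) _ (hBC ha), hB.sq a ha, rho_one r]
  have hact : ∀ a ∈ B, ∀ w ∈ ws V Z, (ρ a • π w) * (π w)⁻¹ = π (a * w * a⁻¹ * w⁻¹) := by
    intro a ha w hw
    rw [← r.act a (hBC ha) w hw, ← pi_inv r hw, ← r.mulπ _ (cent_conj r (hBC ha) hw) _ (inv_mem hw)]
  have hcW : ∀ a ∈ B, ∀ w ∈ ws V Z, a * w * a⁻¹ * w⁻¹ ∈ ws V Z := fun a ha w hw =>
    mul_mem (cent_conj r (hBC ha) hw) (inv_mem hw)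
  have hquad : ∀ a ∈ A, ∀ b ∈ A, ∀ m : M, b • ((a • m) * m⁻¹) = (a • m) * m⁻¹ := by
    intro x hx y hy m
    obtain ⟨a, ha, rfl⟩ := (mem_img r).1 hx
    obtain ⟨b, hb, rfl⟩ := (mem_img r).1 hy
    obtain ⟨w, hw, rfl⟩ := r.surjπ m
    rw [hact a ha w hw, ← r.act b (hBC hb) _ (hcW a ha w hw), hB.comm b hb _ (hB.nor a ha w hw),
      mul_inv_cancel_right]
  have h1 := hNO A (img_le h r hB) hcomm hsq hquad
  have hsurj : Function.Surjective (ph r) := fun m => by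
    obtain ⟨w, hw, rfl⟩ := r.surjπ m
    exact ⟨⟨w, hw⟩, rfl⟩
  have h2 := index_comap_of_surjective (zm M A) hsurj
  have h3 : (centralizer (B : Set G)).subgroupOf (ws V Z) ≤ (zm M A).comap (ph r) := by
    intro w hw
    rw [mem_comap, mem_cv]
    intro x hx
    obtain ⟨a, ha, rfl⟩ := (mem_img r).1 hx
    have h4 := hact a ha w w.2
    have h5 : a * w * a⁻¹ * (w : G)⁻¹ = 1 := by
      have h6 := mem_centralizer_iff.1 (mem_subgroupOf.1 hw) a ha
      rw [h6, mul_inv_cancel_right, mul_inv_cancel]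
    rw [h5] at h4
    have h7 : π 1 = 1 := (ph r).map_one
    rw [h7, mul_inv_eq_one] at h4
    exact h4
  have h4 : ((zm M A).comap (ph r)).index ≤ ((centralizer (B : Set G)).subgroupOf (ws V Z)).index :=
    Nat.le_of_dvd (Nat.pos_of_ne_zero index_ne_zero_of_finite) (index_dvd_of_le h3)
  rw [← hcard]
  exact h1.trans (h2.ge.trans h4)

/-- **(F1) for `q ≥ 4`.** -/
theorem hf_of (hN : normalizer ((S : Subgroup G) : Set G) ≤ normalizer (V : Set G)) {n : ℕ} (hn : 1 ≤ n)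
    {x y : Pt Z} (hc : Crit (PtGeom.inc (Z := Z) (V := V)) (fun x : Pt Z => ws V x.sg) n x y)
    {T : Subgroup H} (hT : ∀ x, x ∈ T ↔ ∃ s ∈ (S : Subgroup G), ρ s = x)
    {lam : Subgroup M} (hlam : ∀ m, m ∈ lam ↔ ∃ v ∈ V, π v = m)
    (hNO : ∀ A : Subgroup H, A ≤ o2 (fixer lam) →
      (∀ a ∈ A, ∀ b ∈ A, a * b = b * a) → (∀ a ∈ A, a * a = 1) →
      (∀ a ∈ A, ∀ b ∈ A, ∀ m : M, b • ((a • m) * m⁻¹) = (a • m) * m⁻¹) → Nat.card A ≤ (zm M A).index)
    {Pi : Set (Subgroup H)} (hK : PSf T lam Pi) : ¬ kx V Z ≤ centralizer (V : Set G) := by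
  intro hf
  obtain rfl : T = tt h r := by
    ext x
    rw [hT]
    exact (mem_img r).symm
  obtain rfl : lam = (V.subgroupOf (ws V Z)).map (ph r) := by
    ext m
    rw [hlam, ph_V_mem h r]
  obtain ⟨g, hg, hB⟩ := off_of_crit h hn hc
  obtain ⟨g', hg', hB'⟩ := off_of_crit h hn hc.symm
  have hb := hB.conj g⁻¹
  have hb' := hB'.conj g'⁻¹
  rw [cj_cj, cj_cj, inv_mul_cancel, cj_one, cj_one] at hb hb'
  have h1 := relIndex_le h r hf hb' hNO
  -- `|W_y : C(W_x)| ≤ |W_x : C(W_y)|`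
  have e1 : cj g (cj g⁻¹ (ws V x.sg)) = ws V x.sg := by rw [cj_cj, mul_inv_cancel, cj_one]
  have e2 : cj g' (cj g'⁻¹ (ws V y.sg)) = ws V y.sg := by rw [cj_cj, mul_inv_cancel, cj_one]
  have e3 : ws V y.sg = cj g (ws V Z) := by rw [hg, ws_cj]
  have e4 : ws V x.sg = cj g' (ws V Z) := by rw [hg', ws_cj]
  rw [← cent_relIndex_conj g' (ws V Z), ← cent_relIndex_conj g' (cj g'⁻¹ (ws V y.sg)), e2, ← e4] at h1
  refine false_base h r hf hN hb ?_ ?_ hNO hK
  · intro hcon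
    apply hc.ne
    intro a ha b hbm
    have h2 : ws V x.sg ≤ centralizer (ws V y.sg : Set G) := by
      rw [← e1, e3, ← cj_centralizer, cj_le_cj]
      exact hcon
    exact (mem_centralizer_iff.1 (h2 ha) b hbm).symm
  · rw [← cent_relIndex_conj g (ws V Z), ← cent_relIndex_conj g (cj g⁻¹ (ws V x.sg)), e1, ← e3]
    exact h1

end main

end Cfsg.Agent.Omega.NO3S.FarQ.FOne

end

section


/-!
# NO-3S, `q ≥ 4`: the K-input as one statement, and (F1)

* `FlagK T lam` : the part of `Flag` which does not use (F1); `flagK_of` : from `PL` and `N_G(S) ≤ N_G(V)`;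
* `NoOv lam` : no over-offender in `O₂(C_H(lam))`;
* `KIn Kg` : **the K-input**: for `H` with `Kg H` and `FlagK T lam`: `NoOv lam`, the blocks `PSq`, and the two extra
  fields `pf`, `cent` of helper471;
* `hf_of_kin` : (F1).
-/

set_option autoImplicit false
set_option linter.unusedSectionVars false

namespace Cfsg.Agent.Omega.NO3S.FarQ

open Subgroup Cfsg Cfsg.Agent.ZN Cfsg.Agent.MinSimple.VModule Cfsg.Agent.Omega.NOThree.Pts
open Cfsg.Agent.Omega.NO3S.FarQ.Glue Cfsg.Agent.Omega.NO3S.PT Cfsg.Agent.Omega.NO3S.PtGeom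
open scoped Pointwise

universe u

section defs

variable {H M : Type*} [Group H] [CommGroup M] [MulDistribMulAction H M]

/-- **The part of `Flag` which is free of (F1).** -/
structure FlagK (T : Subgroup H) (lam : Subgroup M) : Prop where
  finH : Finite H
  finM : Finite M
  sq : ∀ m : M, m * m = 1
  faith : ∀ h : H, (∀ m : M, h • m = m) → h = 1
  two : IsPGroup 2 T
  ndvd : ¬ 2 ∣ T.index
  four : 4 ≤ Nat.card lam
  fix : ∀ t ∈ T, ∀ a ∈ lam, t • a = a
  norm : ∀ h ∈ normalizer (T : Set H), ∀ a ∈ lam, h • a ∈ lam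
  lin : ∀ a ∈ lam, a ≠ 1 → ∀ h : H, h • a = a → ∀ b ∈ lam, h • b = b
  gen : ∀ N : Subgroup M, (∀ h : H, ∀ a ∈ lam, h • a ∈ N) → N = ⊤

theorem Flag.toK {R : Type*} [CommGroup R] {T : Subgroup H} {lam U : Subgroup M} {Kh : Subgroup (M →* R)}
    (F : Flag T lam U Kh) : FlagK T lam :=
  ⟨F.finH, F.finM, F.sq, F.faith, F.two, F.ndvd, F.four, F.fix, F.norm, F.lin, F.gen⟩

/-- **(NO)**: no over-offender in `O₂(C_H(lam))`. -/
def NoOv (lam : Subgroup M) : Prop :=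
  ∀ A : Subgroup H, A ≤ o2 (fixer lam) → (∀ a ∈ A, ∀ b ∈ A, a * b = b * a) → (∀ a ∈ A, a * a = 1) →
    (∀ a ∈ A, ∀ b ∈ A, ∀ m : M, b • ((a • m) * m⁻¹) = (a • m) * m⁻¹) → Nat.card A ≤ (zm M A).index

/-- **All the blocks**: helper238's `PSq` and helper471's `pf`, `cent`. -/
structure PSall (R : Type*) [CommGroup R] (T : Subgroup H) (lam : Subgroup M) (Pi : Set (Subgroup H)) : Prop
    extends PSq R T lam Pi where
  pf : ∀ J ∈ Pi, J ≤ ⁅J, J⁆
  cent : ∀ A : Subgroup H, Exact lam A → ∀ J ∈ Pi, A ⊓ J ≠ ⊥ → T ⊓ J ≤ A ∨ ∃ C ≤ J, T ⊓ J ≤ ⁅C, C⁆ ∧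
    ∀ m ∈ em M J, (∀ t ∈ T ⊓ J, t • m = m) → ∀ c ∈ C, (c • m) * m⁻¹ ∈ zm M J

end defs

/-- **The K-input (NO)** for the groups `H` with `Kg H`. -/
def KNO (Kg : ∀ (H : Type u) [Group H], Prop) : Prop :=
  ∀ (H M : Type u) [Group H] [CommGroup M] [MulDistribMulAction H M] (T : Subgroup H) (lam : Subgroup M),
    Kg H → FlagK T lam → NoOv (H := H) lam

/-- **The K-input (blocks)** for the groups `H` with `Kg H`. -/
def KPS (Kg : ∀ (H : Type u) [Group H], Prop) : Prop :=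
  ∀ (H M R : Type u) [Group H] [CommGroup M] [MulDistribMulAction H M] [CommGroup R] (T : Subgroup H)
    (lam : Subgroup M), Kg H → FlagK T lam → (∀ r : R, r * r = 1) → Nat.card R = Nat.card lam →
      ∃ Pi : Set (Subgroup H), PSall R T lam Pi

variable {G : Type u} [Group G]

/-- `H` is a homomorphic image of the subgroup `C` of `G`. -/
def Img (C : Subgroup G) (H : Type u) [Group H] : Prop := ∃ f : C →* H, Function.Surjective f

section

variable [Finite G] {S : Sylow 2 G} {P V Z : Subgroup G} (h : PL S P V Z)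
include h

/-- the geometry without (F1): conjugation by `C_G(Z)` -/
theorem norm_ws {g w : G} (hg : g ∈ centralizer (Z : Set G)) (hw : w ∈ ws V Z) : g * w * g⁻¹ ∈ ws V Z :=
  (mem_normalizer_iff.1 (normalizer_le_ws V Z (centralizer_le_normalizer _ hg)) w).1 hw

theorem real_one {H M : Type*} [Group H] [CommGroup M] [MulDistribMulAction H M] {ρ : G → H} {π : G → M}
    (r : Real V Z ρ π) : π 1 = 1 := (r.kerπ 1 (one_mem _)).2 (one_mem _)

theorem real_inv {H M : Type*} [Group H] [CommGroup M] [MulDistribMulAction H M] {ρ : G → H} {π : G → M}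
    (r : Real V Z ρ π) {v : G} (hv : v ∈ ws V Z) : π v⁻¹ = (π v)⁻¹ := by
  have h4 := r.mulπ v hv v⁻¹ (inv_mem hv)
  rw [mul_inv_cancel, real_one h r] at h4
  exact (inv_eq_of_mul_eq_one_right h4.symm).symm

theorem real_comm {H M : Type*} [Group H] [CommGroup M] [MulDistribMulAction H M] {ρ : G → H} {π : G → M}
    (r : Real V Z ρ π) {g w : G} (hg : g ∈ centralizer (Z : Set G)) (hw : w ∈ ws V Z) :
    g * w * g⁻¹ * w⁻¹ ∈ Z ↔ ρ g • π w = π w := by
  have h1 := norm_ws h hg hw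
  rw [← r.kerπ _ (mul_mem h1 (inv_mem hw)), r.mulπ _ h1 _ (inv_mem hw), r.act g hg w hw, real_inv h r hw,
    mul_inv_eq_one]

theorem real_ρone {H M : Type*} [Group H] [CommGroup M] [MulDistribMulAction H M] {ρ : G → H} {π : G → M}
    (r : Real V Z ρ π) : ρ 1 = 1 := (r.kerρ 1 (one_mem _)).2 (one_mem _)

theorem real_ρinv {H M : Type*} [Group H] [CommGroup M] [MulDistribMulAction H M] {ρ : G → H} {π : G → M}
    (r : Real V Z ρ π) {g : G} (hg : g ∈ centralizer (Z : Set G)) : ρ g⁻¹ = (ρ g)⁻¹ := by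
  have h4 := r.mulρ g hg g⁻¹ (inv_mem hg)
  rw [mul_inv_cancel, real_ρone h r] at h4
  exact (inv_eq_of_mul_eq_one_right h4.symm).symm

/-- **`FlagK` from `PL` and `N_G(S) ≤ N_G(V)`.** -/
theorem flagK_of {H M : Type*} [Group H] [CommGroup M] [MulDistribMulAction H M] {ρ : G → H} {π : G → M}
    (r : Real V Z ρ π) (hns : normalizer ((S : Subgroup G) : Set G) ≤ normalizer (V : Set G))
    (hq : 4 ≤ Nat.card Z) {T : Subgroup H} (hT : ∀ x, x ∈ T ↔ ∃ s ∈ (S : Subgroup G), ρ s = x)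
    {lam : Subgroup M} (hlam : ∀ m, m ∈ lam ↔ ∃ v ∈ V, π v = m) : FlagK T lam := by
  have hVW : V ≤ ws V Z := h.V_le_ws h.ZV
  have hS : (S : Subgroup G) ≤ centralizer (Z : Set G) := h.S_le
  have hcen : ∀ {k}, k ∈ centralizer (Z : Set G) → ∀ z ∈ Z, k * z = z * k := fun hk z hz =>
    (mem_centralizer_iff.1 hk z hz).symm
  have hcm : ∀ {g w : G}, g ∈ centralizer (Z : Set G) → w ∈ ws V Z →
      (g * w * g⁻¹ * w⁻¹ ∈ Z ↔ ρ g • π w = π w) := fun hg hw => real_comm h r hg hw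
  have hlam1 : ∀ v ∈ V, π v ≠ 1 → v ∉ Z := fun v hv hv1 hvZ => hv1 ((r.kerπ v (hVW hv)).2 hvZ)
  have hKx : ∀ k ∈ kx V Z, k ∈ centralizer (Z : Set G) := fun k hk => kx_le_cent hk
  have hcard : Nat.card lam = Nat.card Z := by
    let φ : V →* M := MonoidHom.mk' (fun a => π a) (fun a b => r.mulπ a (hVW a.2) b (hVW b.2))
    have h1 := Subgroup.card_mul_index φ.ker
    rw [Subgroup.index_ker] at h1
    have h2 : φ.range = lam := by
      ext m
      rw [hlam]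
      constructor
      · rintro ⟨a, rfl⟩
        exact ⟨a, a.2, rfl⟩
      · rintro ⟨a, ha, rfl⟩
        exact ⟨⟨a, ha⟩, rfl⟩
    have h3 : Nat.card φ.ker = Nat.card Z := by
      refine Nat.card_congr ⟨fun x => ⟨x, ?_⟩, fun x => ⟨⟨x, h.ZV x.2⟩, ?_⟩, fun x => rfl, fun x => rfl⟩
      · exact (r.kerπ _ (hVW x.1.2)).1 x.2
      · exact (r.kerπ _ (hVW (h.ZV x.2))).2 x.2
    rw [h2, h3, h.card] at h1
    exact Nat.eq_of_mul_eq_mul_left Nat.card_pos h1
  refine ⟨?_, ?_, ?_, ?_, ?_, ?_, hcard.symm ▸ hq, ?_, ?_, ?_, ?_⟩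
  · exact Finite.of_surjective ρ fun x => by
      obtain ⟨g, -, hg⟩ := r.surjρ x
      exact ⟨g, hg⟩
  · exact Finite.of_surjective π fun x => by
      obtain ⟨g, -, hg⟩ := r.surjπ x
      exact ⟨g, hg⟩
  · intro m
    obtain ⟨w, hw, rfl⟩ := r.surjπ m
    rw [← r.mulπ w hw w hw, h.ws_sq w hw]
    exact real_one h r
  · intro x hx
    obtain ⟨g, hg, rfl⟩ := r.surjρ x
    exact (r.kerρ g hg).2 (mem_kx.2 ⟨hcen hg, fun w hw => (hcm hg hw).2 (hx _)⟩)
  · rintro ⟨x, hx⟩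
    obtain ⟨s, hs, rfl⟩ := (hT x).1 hx
    obtain ⟨k, hk⟩ := S.isPGroup' ⟨s, hs⟩
    have hk' : s ^ 2 ^ k = 1 := congrArg Subtype.val hk
    refine ⟨k, Subtype.ext ?_⟩
    show ρ s ^ 2 ^ k = 1
    have hpow : ∀ j : ℕ, ρ (s ^ j) = ρ s ^ j := by
      intro j
      induction j with
      | zero => rw [pow_zero, pow_zero, real_ρone h r]
      | succ j ih => rw [pow_succ, pow_succ, r.mulρ _ (pow_mem (hS hs) j) _ (hS hs), ih]
    rw [← hpow, hk', real_ρone h r]
  · have : Fact (Nat.Prime 2) := ⟨Nat.prime_two⟩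
    let f : centralizer (Z : Set G) →* H := MonoidHom.mk' (fun a => ρ a) (fun a b => r.mulρ a a.2 b b.2)
    have hfs : Function.Surjective f := fun x => by
      obtain ⟨g, hg, rfl⟩ := r.surjρ x
      exact ⟨⟨g, hg⟩, rfl⟩
    let T' : Sylow 2 H := (S.subtype hS).mapSurjective hfs
    have hT' : (T' : Subgroup H) = T := by
      ext x
      rw [hT]
      constructor
      · rintro ⟨g, hg, rfl⟩
        exact ⟨g, mem_subgroupOf.1 hg, rfl⟩
      · rintro ⟨g, hg, rfl⟩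
        exact ⟨⟨g, hS hg⟩, mem_subgroupOf.2 hg, rfl⟩
    have hfin : Finite H := Finite.of_surjective f hfs
    rw [← hT']
    exact T'.not_dvd_index
  · intro x hx a ha
    obtain ⟨s, hs, rfl⟩ := (hT x).1 hx
    obtain ⟨v, hv, rfl⟩ := (hlam a).1 ha
    exact (hcm (hS hs) (hVW hv)).1 (h.act s hs v hv)
  · intro x hx a ha
    obtain ⟨v, hv, rfl⟩ := (hlam a).1 ha
    obtain ⟨g, hg, rfl⟩ := r.surjρ x
    have hSK : (S : Subgroup G) ≤ normalizer ((kx V Z : Subgroup G) : Set G) :=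
      h.S_le_N.trans (normalizer_le_kx V Z)
    have h1 : ((g • S : Sylow 2 G) : Subgroup G) ≤ kx V Z ⊔ S := by
      intro y hy
      rw [coe_smul, mem_cj] at hy
      have hyC : y ∈ centralizer (Z : Set G) := by
        have := mul_mem (mul_mem hg (hS hy)) (inv_mem hg)
        have e : g * (g⁻¹ * y * g) * g⁻¹ = y := by group
        rwa [e] at this
      have h2 : ρ g * ρ (g⁻¹ * y * g) * (ρ g)⁻¹ ∈ T := (mem_normalizer_iff.1 hx _).1 ((hT _).2 ⟨_, hy, rfl⟩)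
      have h3 : ρ g * ρ (g⁻¹ * y * g) * (ρ g)⁻¹ = ρ y := by
        rw [← r.mulρ g hg _ (hS hy), ← real_ρinv h r hg,
          ← r.mulρ _ (mul_mem hg (hS hy)) _ (inv_mem hg)]
        congr 1; group
      rw [h3] at h2
      obtain ⟨s, hs, hs'⟩ := (hT _).1 h2
      have h5 : y * s⁻¹ ∈ kx V Z := by
        rw [← r.kerρ _ (mul_mem hyC (inv_mem (hS hs))), r.mulρ y hyC s⁻¹ (inv_mem (hS hs)),
          real_ρinv h r (hS hs), hs', mul_inv_cancel]
      have h8 : y = y * s⁻¹ * s := by group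
      rw [h8]
      exact mul_mem (mem_sup_left h5) (mem_sup_right hs)
    obtain ⟨b, hb, hbS⟩ := exists_conj (S := S) (T := g • S) (H := kx V Z ⊔ S) le_sup_right h1
    rw [← SetLike.mem_coe, coe_mul_of_right_le_normalizer_left _ _ hSK] at hb
    obtain ⟨k, hk, s, hs, rfl⟩ := hb
    have h2 : k⁻¹ * g ∈ normalizer ((S : Subgroup G) : Set G) := by
      have h3 : cj (k * s) (S : Subgroup G) = cj g (S : Subgroup G) := hbS
      rw [← cj_cj, cj_eq_iff.2 (le_normalizer hs)] at h3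
      rw [← cj_eq_iff, ← cj_cj, ← h3, cj_cj, inv_mul_cancel, cj_one]
    have hkC := hKx k hk
    have h4 : ρ (k⁻¹ * g) = ρ g := by
      rw [r.mulρ _ (inv_mem hkC) g hg, real_ρinv h r hkC, (r.kerρ k hkC).2 hk, inv_one, one_mul]
    have h5 := (mem_normalizer_iff.1 (hns h2) v).1 hv
    refine (hlam _).2 ⟨_, h5, ?_⟩
    rw [r.act _ (mul_mem (inv_mem hkC) hg) v (hVW hv), h4]
  · intro a ha hv1 x hx b hb
    obtain ⟨v, hv, rfl⟩ := (hlam a).1 ha
    obtain ⟨u, hu, rfl⟩ := (hlam b).1 hb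
    obtain ⟨g, hg, rfl⟩ := r.surjρ x
    have hvZ := hlam1 v hv hv1
    rw [← hcm hg (hVW hv)] at hx
    rw [← hcm hg (hVW hu)]
    exact h.lin (hcen hg) hv hvZ hx u hu
  · intro N hN
    let E : Subgroup G :=
      { carrier := {w | w ∈ ws V Z ∧ π w ∈ N}
        one_mem' := ⟨one_mem _, by
          rw [real_one h r]; exact one_mem _⟩
        mul_mem' := by
          rintro a b ⟨ha, ha'⟩ ⟨hb, hb'⟩
          exact ⟨mul_mem ha hb, by rw [r.mulπ a ha b hb]; exact mul_mem ha' hb'⟩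
        inv_mem' := by
          rintro a ⟨ha, ha'⟩
          refine ⟨inv_mem ha, ?_⟩
          rw [real_inv h r ha]; exact inv_mem ha' }
    have hE : ws V Z ≤ E := by
      refine ws_le fun L hL hZL => ?_
      obtain ⟨c, hc, rfl⟩ := exists_cent_line h hns hL hZL
      intro w hw
      refine ⟨le_ws hL hZL hw, ?_⟩
      have hw' := mem_cj.1 hw
      have e : c * (c⁻¹ * w * c) * c⁻¹ = w := by group
      have h1 := r.act c hc _ (hVW hw')
      rw [e] at h1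
      rw [h1]
      exact hN _ _ ((hlam _).2 ⟨_, hw', rfl⟩)
    rw [eq_top_iff]
    intro m _
    obtain ⟨w, hw, rfl⟩ := r.surjπ m
    exact (hE hw).2

/-- a realisation exists -/
theorem exists_real : ∃ (H M : Type u) (_ : Group H) (_ : CommGroup M) (_ : MulDistribMulAction H M)
    (ρ : G → H) (π : G → M), Real V Z ρ π := by
  have hWn := normalizer_le_ws V Z
  have hCn : centralizer (Z : Set G) ≤ normalizer (Z : Set G) := centralizer_le_normalizer _
  obtain ⟨H, M, iH, iM, iA, ρ, π, hρm, hρs, hρk, hπm, hπs, hπk, hact⟩ := exists_mod (C := centralizer (Z : Set G))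
    (W := ws V Z) (R := Z) (fun c hc w hw => (mem_normalizer_iff.1 (hWn (hCn hc)) w).1 hw)
    (fun c hc w hw => (mem_normalizer_iff.1 (hCn hc) w).1 hw)
    (fun a ha b hb => (mem_centralizer_iff.1 (h.Wcomm ha) b hb).symm)
  refine ⟨H, M, iH, iM, iA, ρ, π, hρm, hρs, fun a ha => ?_, hπm, hπs, hπk, hact⟩
  rw [hρk a ha, mem_kx]
  exact ⟨fun h1 => ⟨fun x hx => (mem_centralizer_iff.1 ha x hx).symm, h1⟩, fun h1 => h1.2⟩

omit [Finite G] h in
theorem img_of_real {H M : Type u} [Group H] [CommGroup M] [MulDistribMulAction H M] {ρ : G → H} {π : G → M}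
    (r : Real V Z ρ π) : Img (centralizer (Z : Set G)) H := by
  refine ⟨MonoidHom.mk' (fun a => ρ a) (fun a b => r.mulρ a a.2 b b.2), fun x => ?_⟩
  obtain ⟨g, hg, rfl⟩ := r.surjρ x
  exact ⟨⟨g, hg⟩, rfl⟩

/-- **(F1) from the K-input.** -/
theorem hf_of_kin (hns : normalizer ((S : Subgroup G) : Set G) ≤ normalizer (V : Set G)) (hq : 4 ≤ Nat.card Z)
    {n : ℕ} (hn : 1 ≤ n) {x y : Pt Z}
    (hc : Crit (inc (Z := Z) (V := V)) (fun x : Pt Z => ws V x.sg) n x y)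
    (hNO : KNO.{u} (fun H _ => Img (centralizer (Z : Set G)) H))
    (hPS : KPS.{u} (fun H _ => Img (centralizer (Z : Set G)) H)) : ¬ kx V Z ≤ centralizer (V : Set G) := by
  obtain ⟨H, M, iH, iM, iA, ρ, π, r⟩ := exists_real h
  let T : Subgroup H := FOne.tt h r
  have hT : ∀ x, x ∈ T ↔ ∃ s ∈ (S : Subgroup G), ρ s = x := fun x => FOne.mem_img r
  have hWm : ∀ v ∈ V, v ∈ ws V Z := fun v hv => h.V_le_ws h.ZV hv
  let lam : Subgroup M := (V.subgroupOf (ws V Z)).map (FOne.ph r)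
  have hlam : ∀ m, m ∈ lam ↔ ∃ v ∈ V, π v = m := fun m => FOne.ph_V_mem h r
  have hK := flagK_of h r hns hq hT hlam
  obtain ⟨K, iK, ζ, hinj, hran⟩ := exists_group (Z := Z) fun a ha b hb => h.Vcomm (h.ZV ha) (h.ZV hb)
  have hsq : ∀ r : K, r * r = 1 := by
    intro r
    apply hinj
    rw [map_mul, map_one]
    exact h.Vsq _ (h.ZV ((hran _).2 ⟨r, rfl⟩))
  have hcard : Nat.card K = Nat.card lam := by
    have h1 : Nat.card K = Nat.card Z := by
      refine Nat.card_congr ⟨fun x => ⟨ζ x, (hran _).2 ⟨x, rfl⟩⟩, fun x => ((hran _).1 x.2).choose,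
        fun x => ?_, fun x => ?_⟩
      · exact hinj ((hran (ζ x)).1 ((hran _).2 ⟨x, rfl⟩)).choose_spec
      · exact Subtype.ext ((hran _).1 x.2).choose_spec
    have h2 : Nat.card lam = Nat.card Z := by
      let φ : V →* M := MonoidHom.mk' (fun a => π a) (fun a b => r.mulπ a (hWm a a.2) b (hWm b b.2))
      have h1 := Subgroup.card_mul_index φ.ker
      rw [Subgroup.index_ker] at h1
      have h2 : φ.range = lam := by
        ext m
        rw [hlam]
        constructor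
        · rintro ⟨a, rfl⟩
          exact ⟨a, a.2, rfl⟩
        · rintro ⟨a, ha, rfl⟩
          exact ⟨⟨a, ha⟩, rfl⟩
      have h3 : Nat.card φ.ker = Nat.card Z := by
        refine Nat.card_congr ⟨fun x => ⟨x, ?_⟩, fun x => ⟨⟨x, h.ZV x.2⟩, ?_⟩, fun x => rfl, fun x => rfl⟩
        · exact (r.kerπ _ (hWm _ x.1.2)).1 x.2
        · exact (r.kerπ _ (hWm _ (h.ZV x.2))).2 x.2
      rw [h2, h3, h.card] at h1
      exact Nat.eq_of_mul_eq_mul_left Nat.card_pos h1
    rw [h1, h2]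
  have hI : Img (centralizer (Z : Set G)) H := img_of_real r
  obtain ⟨Pi, hPi⟩ := hPS H M K T lam hI hK hsq hcard
  exact FOne.hf_of h r hns hn hc hT hlam (hNO H M T lam hI hK) (FOne.PSf.of_psq hPi.toPSq hPi.pf hPi.cent)

end

end Cfsg.Agent.Omega.NO3S.FarQ

end

end
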